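import Cfsg.Agent.Lib.AutPSL.Card
import Cfsg.Agent.Lib.Linear.SmallIso.PSL9
import Cfsg.Agent.Lib.Alternating.Aut
import Cfsg.Agent.Lib.Alternating.Basic
import Cfsg.Agent.Lib.Linear.Order

set_option autoImplicit false
set_option linter.unusedVariables false
set_option maxRecDepth 100000

/-!
Facts on the automorphism groups of `PSL(3,2)`, `A₆` and `A₇`.
-/

namespace Cfsg.Agent.Lib.SU3Max96.SmallAut

open Equiv

/-- The order of the automorphism group of `PSL(3, 2)` divides `336`. -/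
theorem card_mulAut_L32 :
    Nat.card (MulAut (Matrix.ProjectiveSpecialLinearGroup (Fin 3) (ZMod 2))) ∣ 336 := by
  haveI : Fact (Nat.Prime 2) := ⟨Nat.prime_two⟩
  have h := Cfsg.Agent.Lib.Linear.sub_one_mul_card_SL (F := ZMod 2) 3 (by norm_num)
  rw [ZMod.card, Fin.prod_univ_three] at h
  norm_num at h
  rw [Cfsg.Agent.Lib.AutPSL.card_mulAut_PSL (F := ZMod 2) (p := 2) (f := 1) (by rw [ZMod.card]; rfl) (by norm_num),
    Cfsg.Agent.Lib.Linear.card_PGL_eq_card_SL, Nat.card_eq_fintype_card, h]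
  norm_num

/-- The order of the automorphism group of `A₆`. -/
theorem card_mulAut_A6 : Nat.card (MulAut (alternatingGroup (Fin 6))) ∣ 1440 := by
  haveI : Fact (Nat.Prime 3) := ⟨Nat.prime_three⟩
  obtain ⟨e⟩ := Cfsg.Agent.Lib.Linear.SmallIso.nonempty_psl_two_nine
    (F := Cfsg.Agent.Lib.Linear.SmallIso.F9) Cfsg.Agent.Lib.Linear.SmallIso.card_F9
  rw [← Nat.card_congr (MulAut.congr e).toEquiv,
    Cfsg.Agent.Lib.AutPSL.card_mulAut_PSL (F := Cfsg.Agent.Lib.Linear.SmallIso.F9) (p := 3) (f := 2)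
      (by rw [Cfsg.Agent.Lib.Linear.SmallIso.card_F9]; rfl) le_rfl,
    Cfsg.Agent.Lib.Linear.card_PGL_eq_card_SL, Cfsg.Agent.Lib.Linear.card_SL_two,
    Cfsg.Agent.Lib.Linear.SmallIso.card_F9]
  norm_num

/-- The order of the automorphism group of `A₇`. -/
theorem card_mulAut_A7 : Nat.card (MulAut (alternatingGroup (Fin 7))) ∣ 5040 := by
  rw [Cfsg.Agent.Lib.Alternating.nat_card_mulAut_alt (by simp) (by simp), Fintype.card_fin]
  decide

/-- No even permutation of at most seven points has order ten. -/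
theorem orderOf_ne_ten {α : Type*} [Fintype α] [DecidableEq α] (h7 : Fintype.card α ≤ 7)
    (g : alternatingGroup α) : orderOf g ≠ 10 := by
  intro hg
  obtain ⟨t, h2, hsum, heven, hlcm⟩ := Cfsg.Agent.Lib.Alternating.exists_orderOf_alt_iff.mp ⟨g, hg⟩
  have hdvd : ∀ a ∈ t, a = 2 ∨ a = 5 := by
    intro a ha
    have h1 : a ∣ 10 := hlcm ▸ Multiset.dvd_lcm ha
    have hs := Multiset.le_sum_of_mem ha
    have h3 := h2 a ha
    have h4 : a ≤ 7 := by omega
    interval_cases a <;> omega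
  have h2t : 2 ∈ t := by
    by_contra h
    have : t.lcm ∣ 5 := Multiset.lcm_dvd.mpr fun a ha => by
      rcases hdvd a ha with rfl | rfl
      · exact absurd ha h
      · exact dvd_rfl
    rw [hlcm] at this
    omega
  have h5t : 5 ∈ t := by
    by_contra h
    have : t.lcm ∣ 2 := Multiset.lcm_dvd.mpr fun a ha => by
      rcases hdvd a ha with rfl | rfl
      · exact dvd_rfl
      · exact absurd ha h
    rw [hlcm] at this
    omega
  obtain ⟨t', rfl⟩ := Multiset.exists_cons_of_mem h2t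
  have h5 : 5 ∈ t' := by simpa using h5t
  obtain ⟨t'', rfl⟩ := Multiset.exists_cons_of_mem h5
  rcases t''.empty_or_exists_mem with rfl | ⟨a, ha⟩
  · exact absurd heven (by decide)
  · have := h2 a (by simp [ha])
    have := Multiset.le_sum_of_mem ha
    simp only [Multiset.sum_cons] at hsum
    omega

/-- A simple group of order `360` has no proper subgroup of index at most five. -/
theorem eq_top_of_index {G : Type*} [Group G] [Finite G] [IsSimpleGroup G] (hG : Nat.card G = 360)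
    {H : Subgroup G} (h : H.index ≤ 5) : H = ⊤ := by
  classical
  rcases (inferInstance : H.normalCore.Normal).eq_bot_or_eq_top with e | e
  · exfalso
    have h0 : H.normalCore.index ∣ H.index.factorial := by
      rw [Subgroup.normalCore_eq_ker, Subgroup.index_ker]
      exact (Subgroup.card_subgroup_dvd_card _).trans (dvd_of_eq (by rw [Nat.card_perm]; rfl))
    have h1 := Nat.le_of_dvd (Nat.factorial_pos H.index) h0
    rw [e, Subgroup.index_bot, hG] at h1
    have h2 : (H.index).factorial ≤ (5 : ℕ).factorial := Nat.factorial_le h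
    have h3 : (5 : ℕ).factorial = 120 := rfl
    omega
  · exact top_le_iff.mp (e ▸ H.normalCore_le)

/-- A generator of the standard Sylow `3`-subgroup of `A₆`. -/
def aP : Perm (Fin 6) := swap 0 1 * swap 1 2

/-- The second generator of the standard Sylow `3`-subgroup of `A₆`. -/
def bP : Perm (Fin 6) := swap 3 4 * swap 4 5

/-- A five-cycle. -/
def uP : Perm (Fin 6) := swap 1 2 * swap 2 3 * swap 3 4 * swap 4 5

theorem class_of_relations : ∀ v : Perm (Fin 6), v ^ 5 = 1 → ((aP * bP)⁻¹ * v) ^ 4 = 1 →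
    (aP * aP * bP * v) ^ 5 = 1 → ∃ w : Perm (Fin 6), Perm.sign w = 1 ∧ w * uP ^ 2 * w⁻¹ = v := by
  decide +kernel

/-- The element `(0 1 2)`. -/
def a6 : alternatingGroup (Fin 6) := ⟨aP, Perm.mem_alternatingGroup.mpr (by decide +kernel)⟩

/-- The element `(3 4 5)`. -/
def b6 : alternatingGroup (Fin 6) := ⟨bP, Perm.mem_alternatingGroup.mpr (by decide +kernel)⟩

/-- The element `(1 2 3 4 5)`. -/
def u6 : alternatingGroup (Fin 6) := ⟨uP, Perm.mem_alternatingGroup.mpr (by decide +kernel)⟩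

theorem u6_pow : u6 ^ 5 = 1 ∧ u6 ≠ 1 := by decide +kernel

/-- An automorphism exchanging the classes of three-cycles and rotating the standard Sylow subgroup
exchanges the classes of five-cycles. -/
theorem class_swap (α : MulAut (alternatingGroup (Fin 6))) (ha : α a6 = (a6 * b6)⁻¹) (hab : α (a6 * b6) = a6) :
    ∃ w, α u6 = w * u6 ^ 2 * w⁻¹ := by
  have hb : α b6 = a6 * a6 * b6 := by
    have h := congrArg (fun x => (α a6)⁻¹ * x) hab
    simp only [map_mul, inv_mul_cancel_left] at h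
    rw [h, ha, inv_inv]
    decide +kernel
  have h4 : ((a6 * u6) : alternatingGroup (Fin 6)) ^ 4 = 1 := by decide +kernel
  have h5 : ((b6 * u6) : alternatingGroup (Fin 6)) ^ 5 = 1 := by decide +kernel
  have e1 : (α u6) ^ 5 = 1 := by rw [← map_pow, u6_pow.1, map_one]
  have e2 : ((a6 * b6)⁻¹ * α u6) ^ 4 = 1 := by rw [← ha, ← map_mul, ← map_pow, h4, map_one]
  have e3 : (a6 * a6 * b6 * α u6) ^ 5 = 1 := by rw [← hb, ← map_mul, ← map_pow, h5, map_one]
  obtain ⟨w, hw, hwe⟩ := class_of_relations (α u6).1 (congrArg Subtype.val e1) (congrArg Subtype.val e2)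
    (congrArg Subtype.val e3)
  exact ⟨⟨w, Perm.mem_alternatingGroup.mpr hw⟩, Subtype.ext hwe.symm⟩

/-- The standard Sylow `3`-subgroup of `A₆`. -/
def sylow3 : Subgroup (alternatingGroup (Fin 6)) where
  carrier := {g | ∃ i j : Fin 3, g = a6 ^ (i : ℕ) * b6 ^ (j : ℕ)}
  mul_mem' := by
    rintro _ _ ⟨i, j, rfl⟩ ⟨k, l, rfl⟩
    refine ⟨i + k, j + l, ?_⟩
    revert i j k l
    decide +kernel
  one_mem' := ⟨0, 0, by decide +kernel⟩
  inv_mem' := by
    rintro _ ⟨i, j, rfl⟩
    refine ⟨-i, -j, ?_⟩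
    revert i j
    decide +kernel

theorem card_sylow3 : Nat.card sylow3 = 9 := by
  have e : (fun p : Fin 3 × Fin 3 => (⟨a6 ^ (p.1 : ℕ) * b6 ^ (p.2 : ℕ), p.1, p.2, rfl⟩ : sylow3)).Bijective := by
    refine ⟨fun p p' h => ?_, fun ⟨g, i, j, h⟩ => ⟨(i, j), Subtype.ext h.symm⟩⟩
    have h' := congrArg Subtype.val h
    revert h'
    clear h
    revert p p'
    decide +kernel
  rw [← Nat.card_congr (Equiv.ofBijective _ e), Nat.card_eq_fintype_card]
  rfl

theorem gens_mem : a6 ∈ sylow3 ∧ a6 * b6 ∈ sylow3 :=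
  ⟨⟨1, 0, by decide +kernel⟩, ⟨1, 1, by decide +kernel⟩⟩

theorem gens_ne : a6 * b6 ≠ 1 ∧ a6 * b6 ≠ a6 ∧ a6 * b6 ≠ a6⁻¹ ∧ a6 ≠ 1 ∧ a6 ^ 3 = 1 := by decide +kernel

/-- Subgroups of order nine of `A₆` are conjugate to the standard one. -/
theorem conj_sylow3 {H : Subgroup (alternatingGroup (Fin 6))} (hH : Nat.card H = 9) :
    ∃ w : alternatingGroup (Fin 6), H.map (MulAut.conj w).toMonoidHom = sylow3 := by
  haveI : Fact (Nat.Prime 3) := ⟨Nat.prime_three⟩
  have hfac : 3 ^ (Nat.card (alternatingGroup (Fin 6))).factorization 3 = 9 := by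
    have h : Nat.card (alternatingGroup (Fin 6)) = 360 := by
      rw [nat_card_alternatingGroup, Nat.card_eq_fintype_card, Fintype.card_fin]; rfl
    rw [h, Nat.factorization_def _ Nat.prime_three]
    have h2 : padicValNat 3 360 = 2 := by
      rw [show (360 : ℕ) = 3 ^ 2 * 40 by norm_num, padicValNat.mul (by norm_num) (by norm_num), padicValNat.prime_pow,
        padicValNat.eq_zero_of_not_dvd (by norm_num)]
    rw [h2]; norm_num
  let P : Sylow 3 (alternatingGroup (Fin 6)) := Sylow.ofCard H (by rw [hH, hfac])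
  let Q : Sylow 3 (alternatingGroup (Fin 6)) := Sylow.ofCard sylow3 (by rw [card_sylow3, hfac])
  obtain ⟨w, hw⟩ := MulAction.exists_smul_eq (alternatingGroup (Fin 6)) P Q
  refine ⟨w, ?_⟩
  exact congrArg Sylow.toSubgroup hw

end Cfsg.Agent.Lib.SU3Max96.SmallAut
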