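import Cfsg.Agent.Lib.PrimeDim.SU3Field
import Cfsg.Agent.Lib.PrimeDim.SU3R

set_option autoImplicit false
set_option linter.style.haveILetI false
set_option linter.unusedSectionVars false

/-!
Geometric maximal subgroups of `SU(3, q)`: common tools.
-/

namespace Cfsg.Agent.Lib.SU3Max96

open Cfsg.Geo Cfsg.Agent.Lib.PrimeDim.Basic Cfsg.Agent.Lib.PrimeDim.Fields Cfsg.Agent.Lib.PrimeDim.Unitary
open Cfsg.Agent.Lib.PrimeDim.UnitaryBase Cfsg.Agent.Lib.PrimeDim.Symplectic Cfsg.Agent.Lib.Unitary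
open scoped Matrix MatrixGroups commutatorElement

variable {F : Type*} [Field F] [Fintype F] {q : ℕ}

/-- The ambient group. -/
abbrev SU3 (F : Type*) [Field F] (q : ℕ) : Subgroup (GL (Fin 3) F) := SUgl 3 F q

lemma det_conj (U g : GL (Fin 3) F) : (U * g * U⁻¹).val.det = g.val.det := by
  rw [Units.val_mul, Units.val_mul, Matrix.det_mul, Matrix.det_mul, mul_right_comm, ← Matrix.det_mul,
    Units.mul_inv, Matrix.det_one, one_mul]

lemma conj_mem_iff {U : GL (Fin 3) F} (hU : U ∈ GU 3 F q) {g : GL (Fin 3) F} :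
    U * g * U⁻¹ ∈ SU3 F q ↔ g ∈ SU3 F q := by
  rw [Subgroup.mem_inf, Subgroup.mem_inf, mem_specialLinear, mem_specialLinear, det_conj]
  constructor
  · rintro ⟨h1, h2⟩
    refine ⟨?_, h2⟩
    have h3 := mul_mem (mul_mem (inv_mem hU) h1) hU
    rwa [show U⁻¹ * (U * g * U⁻¹) * U = g by group] at h3
  · rintro ⟨h1, h2⟩
    exact ⟨mul_mem (mul_mem hU h1) (inv_mem hU), h2⟩

/-- An element commuting with a cubic field of matrices and having an eigenvector in `F` is scalar. -/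
lemma scalar_of_field_eigen {K : Subalgebra F (Matrix (Fin 3) (Fin 3) F)} (hK : IsFieldSubalgebra 3 K)
    {g : Matrix (Fin 3) (Fin 3) F} (hcomm : ∀ k ∈ K, g * k = k * g) {v : Fin 3 → F} (hv : v ≠ 0) {l : F}
    (hgv : g *ᵥ v = l • v) : g = l • 1 := by
  let L : K →ₗ[F] (Fin 3 → F) :=
    { toFun := fun k => k.1 *ᵥ v
      map_add' := fun a b => by simp [Matrix.add_mulVec]
      map_smul' := fun r a => by simp [Matrix.smul_mulVec] }
  have hinj : Function.Injective L := by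
    rw [← LinearMap.ker_eq_bot, eq_bot_iff]
    intro k hk
    rw [Submodule.mem_bot]
    by_contra hne
    obtain ⟨y, -, hy⟩ := hK.inv k.1 k.2 (fun h => hne (Subtype.ext h))
    exact hv (by rw [← Matrix.one_mulVec v, ← mul_eq_one_comm.mp hy, ← Matrix.mulVec_mulVec,
      show k.1 *ᵥ v = 0 from hk, Matrix.mulVec_zero])
  have hsurj : Function.Surjective L :=
    (LinearMap.injective_iff_surjective_of_finrank_eq_finrank (by rw [hK.finrank_eq, Module.finrank_fin_fun])).mp hinj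
  refine Matrix.ext_of_mulVec_single fun i => ?_
  obtain ⟨k, hk⟩ := hsurj (Pi.single i 1)
  have hk' : k.1 *ᵥ v = Pi.single i 1 := hk
  rw [← hk', Matrix.smul_mulVec, Matrix.one_mulVec, Matrix.mulVec_mulVec, hcomm _ k.2, ← Matrix.mulVec_mulVec, hgv,
    Matrix.mulVec_smul]

/-- The cube of an element normalising a cubic field of matrices centralises it. -/
lemma cube_comm {K : Subalgebra F (Matrix (Fin 3) (Fin 3) F)} (hK : IsFieldSubalgebra 3 K)
    {g : GL (Fin 3) F} (hg : g ∈ subalgebraNormalizer K) : ∀ k ∈ K, (g ^ 3).val * k = k * (g ^ 3).val := by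
  classical
  letI := (Cfsg.Agent.Lib.PrimeDim.SU3Field.isField_of hK).toField
  haveI : Finite K := inferInstance
  haveI : FiniteDimensional F K := inferInstance
  haveI : IsGalois F K := inferInstance
  have hfwd : ∀ {x : GL (Fin 3) F}, x ∈ subalgebraNormalizer K → ∀ k ∈ K, x.val * k * (x⁻¹).val ∈ K :=
    fun hx k hk => (hx k).mp hk
  let φ : K →ₐ[F] K :=
    { toFun := fun k => ⟨g.val * k.1 * (g⁻¹).val, hfwd hg k.1 k.2⟩
      map_one' := Subtype.ext (by simp)
      map_mul' := fun a b => Subtype.ext (by simp [mul_assoc])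
      map_zero' := Subtype.ext (by simp)
      map_add' := fun a b => Subtype.ext (by simp [mul_add, add_mul])
      commutes' := fun r => Subtype.ext (by
        show g.val * algebraMap F (Matrix (Fin 3) (Fin 3) F) r * (g⁻¹).val = _
        rw [← Algebra.commutes, mul_assoc, Units.mul_inv, mul_one]
        rfl) }
  let e : K ≃ₐ[F] K := AlgEquiv.ofBijective φ (Finite.injective_iff_bijective.mp φ.toRingHom.injective)
  have hpow : ∀ (m : ℕ) (k : K), ((e ^ m) k).1 = (g ^ m).val * k.1 * ((g ^ m)⁻¹).val := by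
    intro m
    induction m with
    | zero => intro k; simp
    | succ m ih =>
      intro k
      rw [pow_succ']
      show g.val * ((e ^ m) k).1 * (g⁻¹).val = _
      rw [ih, pow_succ', mul_inv_rev, Units.val_mul, Units.val_mul]
      simp only [mul_assoc]
  have he : e ^ 3 = 1 := by
    have h := IsGalois.card_aut_eq_finrank F K
    have hf : Module.finrank F K = 3 := hK.finrank_eq
    rw [hf] at h
    have h2 : orderOf e ∣ 3 := (orderOf_dvd_natCard e).trans h.dvd
    exact orderOf_dvd_iff_pow_eq_one.mp h2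
  intro k hk
  have h := hpow 3 ⟨k, hk⟩
  rw [he] at h
  have h' : k = (g ^ 3).val * k * ((g ^ 3)⁻¹).val := h
  conv_rhs => rw [h', mul_assoc _ _ (g ^ 3).val, Units.inv_mul, mul_one]

lemma cube_scalar_of_eigen {K : Subalgebra F (Matrix (Fin 3) (Fin 3) F)} (hK : IsFieldSubalgebra 3 K)
    {g : GL (Fin 3) F} (hg : g ∈ subalgebraNormalizer K) {v : Fin 3 → F} (hv : v ≠ 0) {l : F}
    (hgv : (g ^ 3).val *ᵥ v = l • v) : (g ^ 3).val = l • 1 :=
  scalar_of_field_eigen hK (cube_comm hK hg) hv hgv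

/-- Elements of a subfield group, in coordinates. -/
lemma subfield_repr {F₀ : Subfield F} {P g : GL (Fin 3) F} (hg : g ∈ subfieldSubgroup F₀ P) :
    ∃ (z : Fˣ) (h : GL (Fin 3) F₀),
      (P⁻¹ * g * P : GL (Fin 3) F).val = (z : F) • F₀.subtype.mapMatrix h.val := by
  obtain ⟨g', hg', hconj⟩ := Subgroup.mem_map.mp hg
  rw [Subgroup.mem_sup_of_normal_right] at hg'
  obtain ⟨_, ⟨h, rfl⟩, u, hu, rfl⟩ := hg'
  obtain ⟨c, hc⟩ := (mem_scalars_iff u).mp hu
  refine ⟨c, h, ?_⟩
  rw [← hconj]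
  simp only [MulEquiv.coe_toMonoidHom, MulAut.conj_apply, Units.val_mul, hc, Matrix.mul_smul, mul_one,
    Matrix.smul_mul]
  simp [mul_assoc]

lemma mem_subfield_of_entries {F₀ : Subfield F} {P g : GL (Fin 3) F}
    (h : ∀ i j, (P⁻¹ * g * P : GL (Fin 3) F).val i j ∈ F₀) : g ∈ subfieldSubgroup F₀ P :=
  ⟨P⁻¹ * g * P, Subgroup.mem_sup_left (scalar_entry_mem h), by simp [mul_assoc]⟩

/-- For unitary elements, inversion conjugates the trace. -/
lemma trace_inv (hF : Fintype.card F = q ^ 2) {g : GL (Fin 3) F} (hg : g ∈ GU 3 F q) :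
    (g⁻¹).val.trace = g.val.trace ^ q := by
  have h := congrArg Matrix.trace (GU_conj_eq hF hg)
  rw [← conj_apply hF, AddMonoidHom.map_trace]
  simpa [Matrix.trace_transpose] using h.symm

/-- The case distinction for maximal subgroups. -/
lemma overgroup_cases (hF : Fintype.card F = q ^ 2) {X : Subgroup (GL (Fin 3) F)}
    (hX : IsMaximalIn (SU3 F q) X) :
    (∃ W : Submodule F (Fin 3 → F), Module.finrank F W = 1 ∧ X ≤ subspaceStabilizer W) ∨
    (∃ D : Fin 3 → Submodule F (Fin 3 → F), IsNondegenerateMDecomposition (hermForm 3 F q) 1 D ∧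
      X ≤ decompositionStabilizer D) ∨
    (∃ K : Subalgebra F (Matrix (Fin 3) (Fin 3) F), IsFieldSubalgebra 3 K ∧
      IsAdjointClosedFor (hermForm 3 F q) K ∧ X ≤ subalgebraNormalizer K) ∨
    (∃ (F₀ : Subfield F) (r : ℕ) (P : GL (Fin 3) F), r.Prime ∧ (Odd r ∨ (r = 2 ∧ Odd q)) ∧
      Fintype.card F = Nat.card F₀ ^ r ∧ IsFormRationalStructure (hermForm 3 F q) F₀ 1 P ∧
      X ≤ subfieldSubgroup F₀ P) ∨
    (∃ R : Subgroup (GL (Fin 3) F), q.Prime ∧ q % 3 = 2 ∧ ActsAbsolutelyIrreducibly (matrixSet R) ∧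
      R ≤ SU3 F q ∧ ⁅R, R⁆ ≤ scalars (Fin 3) F ∧ Nat.card R = 27 ∧ Nat.card (Subgroup.center R) = 3 ∧
      X ≤ subgroupNormalizer R) ∨
    InUnitaryResidualClass X := by
  rcases main hF Nat.prime_three le_rfl X hX.1.le with ⟨W, hb, ht, hW, hle⟩ | ⟨W, hb, ht, -, hd, hle⟩ |
    hD | ⟨K, hK, hadj, hle, -⟩ | hS | ⟨R, ⟨p, h, hp, hc, hqp, hh, hd, hmin, -, habs, hRG, hcomm, hcard, hcc⟩, hle⟩ |
    hres
  · refine Or.inl ⟨W, ?_, hle⟩
    have h1 : W ≤ perp q W := fun u hu v hv => hW u hu v hv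
    have h2 := finrank_perp hF W
    have h3 := Submodule.finrank_mono h1
    have h4 : Module.finrank F W ≠ 0 := fun h => hb (Submodule.finrank_eq_zero.mp h)
    omega
  · refine Or.inl ⟨W, ?_, hle⟩
    have h4 : Module.finrank F W ≠ 0 := fun h => hb (Submodule.finrank_eq_zero.mp h)
    omega
  · exact Or.inr (Or.inl hD)
  · exact Or.inr (Or.inr (Or.inl ⟨K, hK, hadj, hle⟩))
  · exact Or.inr (Or.inr (Or.inr (Or.inl hS)))
  · have hp3 : p ≠ 3 := by
      rintro rfl
      have h1 : 1 ≤ 3 ^ (2 * h) := Nat.one_le_pow _ _ (by norm_num)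
      have h2 : 3 ∣ 3 ^ (2 * h) := dvd_pow_self 3 (by omega)
      omega
    have hsq : 3 ∣ p ^ 2 - 1 := by
      have hp0 : p % 3 ≠ 0 := fun h0 =>
        hp3 ((Nat.prime_dvd_prime_iff_eq Nat.prime_three hp).mp (Nat.dvd_of_mod_eq_zero h0)).symm
      have e : p ^ 2 % 3 = 1 := by
        rw [Nat.pow_mod]
        have hlt : p % 3 < 3 := Nat.mod_lt _ (by norm_num)
        interval_cases hr : p % 3 <;> simp_all
      omega
    have hh1 : h = 1 := by
      by_contra hne
      exact hmin 2 (by norm_num) (by omega) hsq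
    subst hh1
    rw [pow_one] at hqp
    subst hqp
    have hp2 : q % 3 = 2 := by
      have h1 : q % 3 ≠ 1 := fun e => hmin 1 (by norm_num) (by norm_num) (by rw [pow_one]; omega)
      have h0 : q % 3 ≠ 0 := fun h0 =>
        hp3 ((Nat.prime_dvd_prime_iff_eq Nat.prime_three hp).mp (Nat.dvd_of_mod_eq_zero h0)).symm
      omega
    exact Or.inr (Or.inr (Or.inr (Or.inr (Or.inl
      ⟨R, hp, hp2, habs, hRG, hcomm, by rw [hcard]; norm_num, hcc, hle⟩))))
  · exact Or.inr (Or.inr (Or.inr (Or.inr (Or.inr hres))))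

/-- A member is maximal if it contains every maximal subgroup above it. -/
lemma maximal_of {C : Subgroup (GL (Fin 3) F)} (hproper : ¬ SU3 F q ≤ C)
    (h : ∀ X, IsMaximalIn (SU3 F q) X → C ⊓ SU3 F q ≤ X → X ≤ C) : IsMaximalIn (SU3 F q) (C ⊓ SU3 F q) := by
  refine ⟨lt_of_le_not_ge inf_le_right fun hh => hproper (hh.trans inf_le_left), fun M hM hMG => ?_⟩
  rcases eq_or_ne M (SU3 F q) with hMe | hMe
  · exact Or.inr hMe
  left
  let S : Set (Subgroup (GL (Fin 3) F)) := {Y | M ≤ Y ∧ Y < SU3 F q}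
  obtain ⟨X, hX⟩ := (Set.toFinite S).exists_maximal ⟨M, le_rfl, lt_of_le_of_ne hMG hMe⟩
  have hmax : IsMaximalIn (SU3 F q) X := by
    refine ⟨hX.prop.2, fun Y hY hYG => ?_⟩
    rcases eq_or_ne Y (SU3 F q) with hYe | hYe
    · exact Or.inr hYe
    · exact Or.inl (le_antisymm (hX.2 ⟨hX.prop.1.trans hY, lt_of_le_of_ne hYG hYe⟩ hY) hY)
  exact le_antisymm (le_inf (hX.prop.1.trans (h X hmax (hM.trans hX.prop.1))) hMG) hM

end Cfsg.Agent.Lib.SU3Max96
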