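import Cfsg.Agent.Lib.SU3Max96.Frame

set_option autoImplicit false
set_option linter.style.haveILetI false
set_option linter.unusedSectionVars false
set_option linter.unusedVariables false

/-!
Normalisers of cubic fields in `SU(3, q)` lie in no other geometric class.
-/

namespace Cfsg.Agent.Lib.SU3Max96

open Cfsg.Geo Cfsg.Agent.Lib.PrimeDim.Basic Cfsg.Agent.Lib.PrimeDim.Fields Cfsg.Agent.Lib.PrimeDim.Unitary
open Cfsg.Agent.Lib.PrimeDim.UnitaryBase Cfsg.Agent.Lib.PrimeDim.Symplectic Cfsg.Agent.Lib.Unitary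
open scoped Matrix MatrixGroups commutatorElement

variable {F : Type*} [Field F] [Fintype F] {q : ℕ}

lemma nine_not_dvd (q : ℕ) : (q ^ 2 + 1 - q) % 9 ≠ 0 := by
  have hle : q ≤ q ^ 2 + 1 := by nlinarith [sq_nonneg (q : ℤ)]
  intro h
  have h1 : (((q ^ 2 + 1 - q : ℕ)) : ZMod 9) = 0 :=
    (ZMod.natCast_eq_zero_iff _ 9).mpr (Nat.dvd_of_mod_eq_zero h)
  rw [Nat.cast_sub hle] at h1
  push_cast at h1
  revert h1
  generalize (q : ZMod 9) = x
  revert x
  decide

/-- `q ^ 2 - q + 1` is at least `13`. -/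
lemma thirteen_le {q : ℕ} (hq : 4 ≤ q) : 13 ≤ q ^ 2 + 1 - q := by
  have h1 : 4 * q ≤ q ^ 2 := by rw [sq]; exact Nat.mul_le_mul_right q hq
  omega

/-- A divisor of a number made of twos and threes. -/
lemma smooth_false {q m : ℕ} (hq : 4 ≤ q) {a b : ℕ} (hm : m = 2 ^ a * 3 ^ b) (h : q ^ 2 + 1 - q ∣ m) : False := by
  have hodd : (q ^ 2 + 1 - q) % 2 = 1 := by
    have : q ^ 2 % 2 = q % 2 := by
      rw [Nat.pow_mod]; rcases Nat.mod_two_eq_zero_or_one q with e | e <;> rw [e] <;> rfl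
    have hle : q ≤ q ^ 2 := by rw [sq]; exact Nat.le_mul_self q
    omega
  have hco : Nat.Coprime (q ^ 2 + 1 - q) (2 ^ a) :=
    Nat.Coprime.pow_right _ (Nat.coprime_two_right.mpr (Nat.odd_iff.mpr hodd))
  obtain ⟨k, hk, hk'⟩ := (Nat.dvd_prime_pow Nat.prime_three).mp (hco.dvd_of_dvd_mul_left (hm ▸ h))
  have h13 := thirteen_le hq
  have h9 := nine_not_dvd q
  rw [hk'] at h13 h9
  rcases Nat.lt_or_ge k 2 with hk2 | hk2
  · interval_cases k <;> omega
  · exact h9 (Nat.mod_eq_zero_of_dvd ((show 9 = 3 ^ 2 by norm_num) ▸ pow_dvd_pow 3 hk2))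

set_option maxHeartbeats 1600000 in
/-- The cyclic element of a field normaliser. -/
theorem exists_singer (hF : Fintype.card F = q ^ 2) (hq : 4 ≤ q) {K : Subalgebra F (Matrix (Fin 3) (Fin 3) F)}
    (hK : IsFieldSubalgebra 3 K) (hadj : IsAdjointClosedFor (hermForm 3 F q) K) :
    ∃ c ∈ subalgebraNormalizer K ⊓ SU3 F q, c.val ∈ K ∧ q ^ 2 + 1 - q ∣ 3 * orderOf c ∧
      orderOf c ∣ q ^ 2 + 1 - q := by
  classical
  letI := (Cfsg.Agent.Lib.PrimeDim.SU3Field.isField_of hK).toField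
  haveI : Finite K := inferInstance
  set σ := conj hF
  have hst : ∀ k ∈ K, (k.map σ)ᵀ ∈ K := by
    intro k hk
    obtain ⟨k', hk', e⟩ := hadj k hk
    have : k' = (k.map σ)ᵀ := by
      ext i j
      have h1 := e (Pi.single i 1) (Pi.single j 1)
      rw [herm_single _ hF, single_herm] at h1
      simp only [Matrix.mulVec_single_one, Matrix.col_apply] at h1
      rw [Matrix.transpose_apply, Matrix.map_apply, conj_apply, h1, pow_q_q hF]
    exact this ▸ hk'
  let st : K →+* K :=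
    { toFun := fun k => ⟨(k.1.map σ)ᵀ, hst k.1 k.2⟩
      map_one' := Subtype.ext (by simp)
      map_mul' := fun a b => Subtype.ext (by
        show ((a.1 * b.1).map σ)ᵀ = (a.1.map σ)ᵀ * (b.1.map σ)ᵀ
        rw [hK.comm a.1 a.2 b.1 b.2, Matrix.map_mul, Matrix.transpose_mul])
      map_zero' := Subtype.ext (by simp)
      map_add' := fun a b => Subtype.ext (by simp [Matrix.map_add]) }
  have hstst : ∀ k, st (st k) = k := fun k => Subtype.ext (by
    show (((k.1.map σ)ᵀ).map σ)ᵀ = k.1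
    rw [← Matrix.transpose_map, Matrix.transpose_transpose]
    ext i j
    simp [σ, pow_q_q hF])
  have hstF : ∀ a : F, st (algebraMap F K a) = algebraMap F K (a ^ q) := fun a => Subtype.ext (by
    show ((algebraMap F (Matrix (Fin 3) (Fin 3) F) a).map σ)ᵀ = algebraMap F (Matrix (Fin 3) (Fin 3) F) (a ^ q)
    simp only [Matrix.algebraMap_eq_diagonal, Matrix.diagonal_map (map_zero σ), Matrix.diagonal_transpose]
    congr 1)
  obtain ⟨μ, hμ⟩ := exists_conj_ne hF
  set ν : K := algebraMap F K μ with hν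
  set ν' : K := algebraMap F K (μ ^ q) with hν'
  have hνne : ν - ν' ≠ 0 := by
    rw [hν, hν', ← map_sub, ne_eq, map_eq_zero_iff _ (algebraMap F K).injective, sub_eq_zero]
    exact fun h => hμ h.symm
  have hνst : st ν = ν' := hstF μ
  have hν'st : st ν' = ν := by rw [← hνst, hstst]
  let Kp := {x : K // st x = x}
  have hKcard : Nat.card K = q ^ 6 := by
    rw [Module.natCard_eq_pow_finrank (K := F), Nat.card_eq_fintype_card, hF,
      show Module.finrank F K = 3 from hK.finrank_eq, ← pow_mul]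
  have hKp : Nat.card Kp = q ^ 3 := by
    have e : K ≃ Kp × Kp :=
      { toFun := fun x =>
          (⟨(st x * ν - x * ν') / (ν - ν'), by
              rw [map_div₀, map_sub, map_sub, map_mul, map_mul, hstst, hνst, hν'st,
                ← neg_div_neg_eq, neg_sub, neg_sub]⟩,
           ⟨(x - st x) / (ν - ν'), by
              rw [map_div₀, map_sub, map_sub, hstst, hνst, hν'st, ← neg_div_neg_eq, neg_sub, neg_sub]⟩)
        invFun := fun p => p.1.1 + p.2.1 * ν
        left_inv := fun x => by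
          show (st x * ν - x * ν') / (ν - ν') + (x - st x) / (ν - ν') * ν = x
          field_simp
          ring
        right_inv := fun p => by
          have e1 : st (p.1.1 + p.2.1 * ν) = p.1.1 + p.2.1 * ν' := by rw [map_add, map_mul, p.1.2, p.2.2, hνst]
          refine Prod.ext (Subtype.ext ?_) (Subtype.ext ?_)
          · show (st (p.1.1 + p.2.1 * ν) * ν - (p.1.1 + p.2.1 * ν) * ν') / (ν - ν') = p.1.1
            rw [e1, div_eq_iff hνne]; ring
          · show (p.1.1 + p.2.1 * ν - st (p.1.1 + p.2.1 * ν)) / (ν - ν') = p.2.1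
            rw [e1, div_eq_iff hνne]; ring }
    have h := Nat.card_congr e
    rw [Nat.card_prod, hKcard, show q ^ 6 = q ^ 3 * q ^ 3 by ring] at h
    exact (Nat.mul_self_inj.mp h).symm
  let nm : Kˣ →* Kˣ :=
    { toFun := fun u => u * Units.map st.toMonoidHom u
      map_one' := by simp
      map_mul' := fun a b => by rw [map_mul, mul_mul_mul_comm] }
  have hker : (q ^ 2 + 1 - q) ∣ Nat.card nm.ker := by
    let Fx : Subgroup Kˣ := { carrier := {u | st u.val = u.val}
                              mul_mem' := fun {a b} ha hb => by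
                                show st (a.val * b.val) = a.val * b.val
                                rw [map_mul]; exact congrArg₂ (· * ·) ha hb
                              one_mem' := map_one st
                              inv_mem' := fun {a} ha => by
                                show st ((a⁻¹ : Kˣ) : K) = ((a⁻¹ : Kˣ) : K)
                                rw [Units.val_inv_eq_inv_val, map_inv₀]; exact congrArg _ ha }
    have hFx : Nat.card Fx = q ^ 3 - 1 := by
      rw [← hKp]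
      let e : Fx ≃ {x : Kp // x.1 ≠ 0} :=
        { toFun := fun u => ⟨⟨u.1.val, u.2⟩, u.1.ne_zero⟩
          invFun := fun x => ⟨Units.mk0 x.1.1 x.2, x.1.2⟩
          left_inv := fun u => Subtype.ext (Units.ext rfl)
          right_inv := fun x => rfl }
      rw [Nat.card_congr e, Nat.card_eq_fintype_card, Nat.card_eq_fintype_card, Fintype.card_subtype]
      have h0 : (Finset.univ.filter fun x : Kp => x.1 ≠ 0) = Finset.univ.erase ⟨0, map_zero st⟩ := by
        ext x
        simp only [Finset.mem_filter, Finset.mem_univ, true_and, Finset.mem_erase, and_true]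
        exact ⟨fun h e => h (congrArg Subtype.val e), fun h e => h (Subtype.ext e)⟩
      rw [h0, Finset.card_erase_of_mem (Finset.mem_univ _), Finset.card_univ]
    have hrange : nm.range ≤ Fx := by
      rintro _ ⟨u, rfl⟩
      show st (u.val * st u.val) = u.val * st u.val
      rw [map_mul, hstst, mul_comm]
    have h1 := nm.ker.card_mul_index
    rw [Subgroup.index_ker, Nat.card_units, hKcard] at h1
    obtain ⟨d, hd⟩ : Nat.card nm.range ∣ q ^ 3 - 1 := hFx ▸ Subgroup.card_dvd_of_le hrange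
    have h2 : q ^ 6 - 1 = (q ^ 3 + 1) * (q ^ 3 - 1) := by
      rw [← Nat.sq_sub_sq (q ^ 3) 1, ← pow_mul, one_pow]
    have h3 : Nat.card nm.ker = (q ^ 3 + 1) * d := by
      apply Nat.eq_of_mul_eq_mul_right (Nat.card_pos (α := nm.range))
      rw [h1, h2, hd]; ring
    rw [h3]
    refine Dvd.dvd.mul_right ⟨q + 1, ?_⟩ _
    have hle : q ≤ q ^ 2 + 1 := by nlinarith [sq_nonneg (q : ℤ)]
    zify [hle]
    ring
  obtain ⟨g, hg⟩ := IsCyclic.exists_ofOrder_eq_natCard (α := nm.ker)
  set N := q ^ 2 + 1 - q with hN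
  obtain ⟨e, he⟩ := hker
  have he0 : e ≠ 0 := fun h => by
    rw [h, mul_zero] at he
    exact (Nat.card_pos (α := nm.ker)).ne' he
  set u : GL (Fin 3) F := Units.map K.val.toMonoidHom ((g ^ e : nm.ker) : Kˣ) with hu
  have hinj : Function.Injective (Units.map K.val.toMonoidHom : Kˣ →* GL (Fin 3) F) :=
    Units.map_injective Subtype.val_injective
  have hord : orderOf u = N := by
    rw [hu, orderOf_injective _ hinj, Subgroup.orderOf_coe, orderOf_pow' g he0, hg, he, Nat.gcd_mul_left_left,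
      Nat.mul_div_cancel _ (Nat.pos_of_ne_zero he0)]
  have huK : u.val ∈ K := (((g ^ e : nm.ker) : Kˣ) : K).2
  have huU : u ∈ GU 3 F q := by
    have h1 : ((g ^ e : nm.ker) : Kˣ) * Units.map st.toMonoidHom ((g ^ e : nm.ker) : Kˣ) = 1 := (g ^ e).2
    have h2 : u.val * (u.val.map σ)ᵀ = 1 := congrArg (fun x : Kˣ => x.val.val) h1
    rw [mul_eq_one_comm] at h2
    rw [mem_GU_iff]
    intro a b
    have h3 : ∀ x y : Fin 3 → F, hermForm 3 F q x y = x ⬝ᵥ (σ ∘ y) := fun x y => rfl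
    rw [h3, h3, map_mulVec_comp, Matrix.dotProduct_mulVec, ← Matrix.vecMul_transpose, Matrix.vecMul_vecMul]
    have h4 : u.valᵀ * u.val.map σ = 1 := by
      have := congrArg Matrix.transpose h2
      rwa [Matrix.transpose_mul, Matrix.transpose_transpose, Matrix.transpose_one] at this
    rw [h4, Matrix.vecMul_one]
  have hd := det_norm_one hF ⟨u, huU⟩
  have hdN : u.val.det ^ N = 1 := by
    rw [← Matrix.det_pow, ← Units.val_pow_eq_pow_val, ← hord, pow_orderOf_eq_one, Units.val_one, Matrix.det_one]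
  have hd3 : u.val.det ^ 3 = 1 := by
    have h1 : u.val.det ^ (q + 1) = 1 := by rw [pow_succ']; exact hd
    have h2 := pow_gcd_eq_one.mpr ⟨hdN, h1⟩
    have h3 : Nat.gcd N (q + 1) ∣ 3 := by
      have e1 : N = (q + 1) * (q - 2) + 3 := by
        have hle : q ≤ q ^ 2 + 1 := by nlinarith [sq_nonneg (q : ℤ)]
        rw [hN]
        zify [hle, show 2 ≤ q by omega]
        ring
      have e2 := Nat.gcd_dvd_left N (q + 1)
      have e3 := Nat.gcd_dvd_right N (q + 1)
      exact (Nat.dvd_add_right (e3.mul_right (q - 2))).mp (e1 ▸ e2)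
    obtain ⟨m, hm⟩ := h3
    exact (congrArg (u.val.det ^ ·) hm).trans (by rw [pow_mul, h2, one_pow])
  refine ⟨u ^ 3, ⟨?_, pow_mem huU 3, mem_specialLinear.mpr (by rw [Units.val_pow_eq_pow_val, Matrix.det_pow, hd3])⟩,
    by rw [Units.val_pow_eq_pow_val]; exact pow_mem huK 3, ?_, ?_⟩
  · have hc : (u ^ 3).val ∈ K := by rw [Units.val_pow_eq_pow_val]; exact pow_mem huK 3
    intro k
    constructor
    · intro hk
      rw [hK.comm _ hc _ hk, mul_assoc, Units.mul_inv, mul_one]
      exact hk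
    · intro hk
      have h1 := hK.comm _ hc _ hk
      have h2 : (u ^ 3).val * k * ((u ^ 3)⁻¹).val = k :=
        (Units.mul_right_inj _).mp (h1.trans (by simp only [mul_assoc, Units.inv_mul, mul_one]))
      rw [← h2]
      exact hk
  · rw [orderOf_pow' u (by norm_num), hord]
    have h1 := Nat.div_mul_cancel (Nat.gcd_dvd_left N 3)
    calc N = N / Nat.gcd N 3 * Nat.gcd N 3 := h1.symm
      _ ∣ N / Nat.gcd N 3 * 3 := mul_dvd_mul_left _ (Nat.gcd_dvd_right N 3)
      _ = 3 * (N / Nat.gcd N 3) := mul_comm _ _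
  · rw [← hord]; exact orderOf_pow_dvd _

/-- A power of the cyclic element is scalar only for the obvious exponents. -/
lemma singer_scalar (hF : Fintype.card F = q ^ 2) {c : GL (Fin 3) F} (hc : orderOf c ∣ q ^ 2 + 1 - q)
    (hN : q ^ 2 + 1 - q ∣ 3 * orderOf c) {k : ℕ} {l : F} (h : (c ^ k).val = l • 1) :
    q ^ 2 + 1 - q ∣ 9 * k := by
  have hl : l ≠ 0 := fun e => (c ^ k).ne_zero (by rw [h, e, zero_smul])
  have h1 : (c ^ k) ^ (q ^ 2 - 1) = 1 := Units.ext (by
    rw [Units.val_pow_eq_pow_val, h, smul_pow, one_pow, ← hF, FiniteField.pow_card_sub_one_eq_one l hl, one_smul,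
      Units.val_one])
  rw [← pow_mul] at h1
  have h2 := orderOf_dvd_of_pow_eq_one h1
  have h3 : orderOf c ∣ k * (q ^ 2 + 1 - q) := hc.mul_left k
  have h4 : orderOf c ∣ k * Nat.gcd (q ^ 2 - 1) (q ^ 2 + 1 - q) := by
    rw [← Nat.gcd_mul_left]; exact Nat.dvd_gcd h2 h3
  have hg : Nat.gcd (q ^ 2 - 1) (q ^ 2 + 1 - q) ∣ 3 := by
    have h1q := one_lt_q hF
    set g := Nat.gcd (q ^ 2 - 1) (q ^ 2 + 1 - q)
    have ha : (g : ℤ) ∣ ((q ^ 2 - 1 : ℕ) : ℤ) := Int.natCast_dvd_natCast.mpr (Nat.gcd_dvd_left _ _)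
    have hb : (g : ℤ) ∣ ((q ^ 2 + 1 - q : ℕ) : ℤ) := Int.natCast_dvd_natCast.mpr (Nat.gcd_dvd_right _ _)
    rw [Nat.cast_sub (Nat.one_le_pow _ _ (by omega))] at ha
    rw [Nat.cast_sub (by nlinarith)] at hb
    push_cast at ha hb
    have e : (3 : ℤ) = ((q : ℤ) + 2) * (((q : ℤ) ^ 2 + 1 - q)) - ((q : ℤ) + 1 - 0) * (((q : ℤ) ^ 2 - 1)) + 0 := by
      ring
    exact Int.natCast_dvd_natCast.mp (show (g : ℤ) ∣ ((3 : ℕ) : ℤ) by
      push_cast
      rw [e]
      exact dvd_add (dvd_sub (hb.mul_left _) (ha.mul_left _)) (dvd_zero _))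
  have h5 : orderOf c ∣ k * 3 := h4.trans (mul_dvd_mul_left k hg)
  calc q ^ 2 + 1 - q ∣ 3 * orderOf c := hN
    _ ∣ 3 * (k * 3) := mul_dvd_mul_left 3 h5
    _ = 9 * k := by ring

lemma singer_eigen (hF : Fintype.card F = q ^ 2) {K : Subalgebra F (Matrix (Fin 3) (Fin 3) F)}
    (hK : IsFieldSubalgebra 3 K) {c : GL (Fin 3) F} (hcK : c.val ∈ K) (hc : orderOf c ∣ q ^ 2 + 1 - q)
    (hN : q ^ 2 + 1 - q ∣ 3 * orderOf c) {k : ℕ} {v : Fin 3 → F} (hv : v ≠ 0) {l : F}
    (h : (c ^ k).val *ᵥ v = l • v) : q ^ 2 + 1 - q ∣ 9 * k := by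
  have hm : (c ^ k).val ∈ K := by rw [Units.val_pow_eq_pow_val]; exact pow_mem hcK k
  exact singer_scalar hF hc hN (scalar_of_field_eigen hK (fun x hx => hK.comm _ hm x hx) hv h)

lemma field_not_line (hF : Fintype.card F = q ^ 2) (hq : 4 ≤ q) {K : Subalgebra F (Matrix (Fin 3) (Fin 3) F)}
    (hK : IsFieldSubalgebra 3 K) (hadj : IsAdjointClosedFor (hermForm 3 F q) K) {W : Submodule F (Fin 3 → F)}
    (hW : Module.finrank F W = 1) : ¬ subalgebraNormalizer K ⊓ SU3 F q ≤ subspaceStabilizer W := by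
  intro hle
  obtain ⟨c, hcM, hcK, hN, hc⟩ := exists_singer hF hq hK hadj
  obtain ⟨w, hw, hw0, hspan⟩ := exists_line_vec hW
  obtain ⟨a, ha⟩ := stab_eigen (hle (pow_mem hcM 1)) hspan
  exact smooth_false (a := 0) (b := 2) hq (by norm_num) (singer_eigen hF hK hcK hc hN hw0 ha)

lemma field_not_frame (hF : Fintype.card F = q ^ 2) (hq : 4 ≤ q) {K : Subalgebra F (Matrix (Fin 3) (Fin 3) F)}
    (hK : IsFieldSubalgebra 3 K) (hadj : IsAdjointClosedFor (hermForm 3 F q) K)
    {D : Fin 3 → Submodule F (Fin 3 → F)} (hD : IsNondegenerateMDecomposition (hermForm 3 F q) 1 D) :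
    ¬ subalgebraNormalizer K ⊓ SU3 F q ≤ decompositionStabilizer D := by
  classical
  intro hle
  obtain ⟨c, hcM, hcK, hN, hc⟩ := exists_singer hF hq hK hadj
  obtain ⟨U, hU, hDU⟩ := exists_frame_U hF hD
  obtain ⟨σ, hσ⟩ := hle hcM
  have hpow : ∀ n, ∀ x ∈ D 0, (c ^ n).val *ᵥ x ∈ D ((σ ^ n) 0) := by
    intro n
    induction n with
    | zero => intro x hx; simpa using hx
    | succ n ih =>
      intro x hx
      rw [pow_succ' c, Units.val_mul, ← Matrix.mulVec_mulVec, pow_succ' σ, Equiv.Perm.mul_apply, ← hσ]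
      exact ⟨_, ih x hx, by simp⟩
  have h6 : σ ^ 6 = 1 := by
    have := pow_card_eq_one (G := Equiv.Perm (Fin 3)) (x := σ)
    rwa [Fintype.card_perm, Fintype.card_fin] at this
  have h := hpow 6 _ (hDU 0 ▸ Submodule.mem_span_singleton_self _)
  rw [h6, Equiv.Perm.one_apply, hDU, Submodule.mem_span_singleton] at h
  obtain ⟨a, ha⟩ := h
  exact smooth_false (a := 1) (b := 3) hq (by norm_num) (singer_eigen hF hK hcK hc hN (U_single_ne U 0) ha.symm)

lemma field_unique (hF : Fintype.card F = q ^ 2) (hq : 4 ≤ q) {K K' : Subalgebra F (Matrix (Fin 3) (Fin 3) F)}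
    (hK : IsFieldSubalgebra 3 K) (hadj : IsAdjointClosedFor (hermForm 3 F q) K) (hK' : IsFieldSubalgebra 3 K')
    (hle : subalgebraNormalizer K ⊓ SU3 F q ≤ subalgebraNormalizer K') : K' = K := by
  classical
  obtain ⟨c, hcM, hcK, hN, hc⟩ := exists_singer hF hq hK hadj
  set x := (c ^ 3).val with hx
  have hxK : x ∈ K := by rw [hx, Units.val_pow_eq_pow_val]; exact pow_mem hcK 3
  have hxc : ∀ k ∈ K', x * k = k * x := cube_comm hK' (hle hcM)
  letI := (Cfsg.Agent.Lib.PrimeDim.SU3Field.isField_of hK).toField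
  haveI : IsSimpleOrder (Subalgebra F K) :=
    Subalgebra.isSimpleOrder_of_finrank_prime F K
      (by rw [show Module.finrank F K = 3 from hK.finrank_eq]; exact Nat.prime_three)
  have htop : Algebra.adjoin F {(⟨x, hxK⟩ : K)} = ⊤ := by
    refine (eq_bot_or_eq_top _).resolve_left fun h => ?_
    have h1 : (⟨x, hxK⟩ : K) ∈ Algebra.adjoin F {(⟨x, hxK⟩ : K)} := Algebra.subset_adjoin rfl
    rw [h, Algebra.mem_bot] at h1
    obtain ⟨l, hl⟩ := h1
    have h2 : (c ^ 3).val = l • 1 := by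
      rw [← Algebra.algebraMap_eq_smul_one]; exact (congrArg Subtype.val hl).symm
    exact smooth_false (a := 0) (b := 3) hq (by norm_num) (singer_scalar hF hc hN h2)
  have hcomm : ∀ g ∈ K', ∀ k ∈ K, g * k = k * g := by
    intro g hg k hk
    have h1 : (⟨k, hk⟩ : K) ∈ Algebra.adjoin F {(⟨x, hxK⟩ : K)} := htop ▸ Algebra.mem_top
    have h2 : k ∈ (Algebra.adjoin F {(⟨x, hxK⟩ : K)}).map K.val := ⟨⟨k, hk⟩, h1, rfl⟩
    rw [AlgHom.map_adjoin, Set.image_singleton] at h2
    refine (Algebra.commute_of_mem_adjoin_of_forall_mem_commute h2 ?_).eq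
    rintro _ rfl
    exact (hxc g hg).symm
  have hle' : K' ≤ K := by
    intro g hg
    obtain ⟨v, hv0⟩ : ∃ v : Fin 3 → F, v ≠ 0 := ⟨Pi.single 0 1, by simp⟩
    let L : K →ₗ[F] (Fin 3 → F) :=
      { toFun := fun k => k.1 *ᵥ v
        map_add' := fun a b => by simp [Matrix.add_mulVec]
        map_smul' := fun r a => by simp [Matrix.smul_mulVec] }
    have hinj : Function.Injective L := by
      rw [← LinearMap.ker_eq_bot, eq_bot_iff]
      intro k hk
      rw [Submodule.mem_bot]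
      by_contra hne
      obtain ⟨y, -, hy⟩ := hK.inv k.1 k.2 (fun h => hne (Subtype.ext h))
      exact hv0 (by rw [← Matrix.one_mulVec v, ← mul_eq_one_comm.mp hy, ← Matrix.mulVec_mulVec,
        show k.1 *ᵥ v = 0 from hk, Matrix.mulVec_zero])
    obtain ⟨k, hk⟩ := ((LinearMap.injective_iff_surjective_of_finrank_eq_finrank
      (by rw [Module.finrank_fin_fun]; exact hK.finrank_eq)).mp hinj) (g *ᵥ v)
    have hk' : k.1 *ᵥ v = g *ᵥ v := hk
    have h0 := scalar_of_field_eigen hK (g := g - k.1) (fun y hy => by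
      rw [sub_mul, mul_sub, hcomm g hg y hy, hK.comm _ k.2 y hy]) hv0 (l := (0 : F))
      (by rw [Matrix.sub_mulVec, hk', sub_self, zero_smul])
    rw [zero_smul, sub_eq_zero] at h0
    exact h0 ▸ k.2
  refine Subalgebra.toSubmodule_injective (Submodule.eq_of_le_of_finrank_le hle' ?_)
  rw [show Module.finrank F (Subalgebra.toSubmodule K) = 3 from hK.finrank_eq,
    show Module.finrank F (Subalgebra.toSubmodule K') = 3 from hK'.finrank_eq]

set_option maxHeartbeats 800000 in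
lemma field_not_subfield (hF : Fintype.card F = q ^ 2) (hq : 4 ≤ q) {K : Subalgebra F (Matrix (Fin 3) (Fin 3) F)}
    (hK : IsFieldSubalgebra 3 K) (hadj : IsAdjointClosedFor (hermForm 3 F q) K) {F₀ : Subfield F} {r : ℕ}
    (hr : r.Prime) (hcase : Odd r ∨ (r = 2 ∧ Odd q)) (hcard : Fintype.card F = Nat.card F₀ ^ r)
    {P : GL (Fin 3) F} : ¬ subalgebraNormalizer K ⊓ SU3 F q ≤ subfieldSubgroup F₀ P := by
  classical
  intro hle
  obtain ⟨c, hcM, hcK, hN, hc⟩ := exists_singer hF hq hK hadj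
  obtain ⟨z, h, hh⟩ := subfield_repr (hle hcM)
  -- the cube is rational
  have hz3 : (z : F) ^ 3 ∈ F₀ := by
    have hd := congrArg Matrix.det hh
    rw [Matrix.det_smul, Fintype.card_fin, Units.val_mul, Units.val_mul, Matrix.det_mul, Matrix.det_mul,
      mem_specialLinear.mp hcM.2.2, mul_one, ← Matrix.det_mul, Units.inv_mul, Matrix.det_one, ← RingHom.map_det] at hd
    rw [eq_inv_of_mul_eq_one_left hd.symm]
    exact inv_mem h.val.det.2
  set Y : Matrix (Fin 3) (Fin 3) F₀ := (⟨_, hz3⟩ : F₀) • (h.val ^ 3) with hY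
  have hY' : (P⁻¹ * c ^ 3 * P : GL (Fin 3) F).val = F₀.subtype.mapMatrix Y := by
    rw [show (P⁻¹ * c ^ 3 * P : GL (Fin 3) F) = (P⁻¹ * c * P) ^ 3 by
      rw [show P⁻¹ * c * P = P⁻¹ * c * (P⁻¹)⁻¹ by rw [inv_inv], conj_pow, inv_inv]]
    rw [Units.val_pow_eq_pow_val, hh, smul_pow, ← map_pow]
    ext i j
    simp [hY]
  letI := (Cfsg.Agent.Lib.PrimeDim.SU3Field.isField_of hK).toField
  haveI : Finite K := inferInstance
  set y : K := ⟨(c ^ 3).val, by rw [Units.val_pow_eq_pow_val]; exact pow_mem hcK 3⟩ with hy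
  -- the characteristic polynomial has coefficients in the subfield
  set χ : Polynomial F := Y.charpoly.map F₀.subtype with hχ
  have hχc : (c ^ 3).val.charpoly = χ := by
    rw [hχ, ← Matrix.charpoly_map, ← RingHom.mapMatrix_apply, ← hY', Units.val_mul, Units.val_mul,
      Matrix.charpoly_mul_comm, ← mul_assoc, Units.mul_inv, one_mul]
  have hroot : Polynomial.aeval y χ = 0 := by
    apply Subtype.val_injective
    rw [Polynomial.aeval_subalgebra_coe, ← hχc]
    exact Matrix.aeval_self_charpoly _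
  set Q := Nat.card F₀
  obtain ⟨p, f, _, _, hf, hFp⟩ := exists_char_card (F := F)
  obtain ⟨e, he, hdvd, hQe, -⟩ := card_subfield F₀ hFp
  haveI : CharP K p := charP_of_injective_algebraMap (algebraMap F K).injective p
  set φ : K →+* K := iterateFrobenius K p e
  have hφ : ∀ x : K, φ x = x ^ Q := fun x => by rw [iterateFrobenius_def]; show _ = x ^ Nat.card F₀; rw [hQe]
  have hroots : ∀ n, Polynomial.aeval (y ^ Q ^ n) χ = 0 := by
    intro n
    induction n with
    | zero => simpa using hroot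
    | succ n ih =>
      have h1 := congrArg φ ih
      rw [map_zero, Polynomial.aeval_def, Polynomial.hom_eval₂] at h1
      rw [pow_succ, pow_mul, ← hφ, Polynomial.aeval_def]
      refine Eq.trans ?_ h1
      rw [hχ, Polynomial.eval₂_map, Polynomial.eval₂_map]
      congr 1
      refine RingHom.ext fun a => ?_
      simp only [RingHom.comp_apply, hφ, ← map_pow]
      congr 1
      exact ((mem_subfield_iff F₀).mp a.2).symm
  -- two conjugates coincide
  have hdeg : χ.natDegree = 3 := by rw [← hχc, Matrix.charpoly_natDegree_eq_dim, Fintype.card_fin]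
  have hχ0 : χ ≠ 0 := fun h0 => by rw [h0] at hdeg; simp at hdeg
  set S : Finset K := (χ.map (algebraMap F K)).roots.toFinset
  have hS : S.card ≤ 3 := (Multiset.toFinset_card_le _).trans ((Polynomial.card_roots' _).trans
    (by rw [Polynomial.natDegree_map, hdeg]))
  obtain ⟨i, -, j, -, hij, he2⟩ := Finset.exists_ne_map_eq_of_card_lt_of_maps_to
    (s := (Finset.univ : Finset (Fin 4))) (t := S) (f := fun i => y ^ Q ^ (i : ℕ))
    (by rw [Finset.card_univ, Fintype.card_fin]; omega) (fun i _ => by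
      simp only [S, Finset.mem_coe, Multiset.mem_toFinset, Polynomial.mem_roots', ne_eq,
        Polynomial.map_eq_zero, hχ0, not_false_eq_true, true_and, Polynomial.IsRoot.def, Polynomial.eval_map,
        ← Polynomial.aeval_def]
      exact hroots i)
  obtain ⟨d, hd, hd3, hyd⟩ : ∃ d, 1 ≤ d ∧ d ≤ 3 ∧ y ^ Q ^ d = y := by
    have hinj : ∀ n, Function.Injective fun x : K => x ^ Q ^ n := by
      intro n
      induction n with
      | zero => intro a b hab; simpa using hab
      | succ n ih =>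
        intro a b hab
        simp only [pow_succ, pow_mul] at hab
        exact ih (φ.injective (by rwa [hφ, hφ]))
    rcases lt_or_gt_of_ne hij with hlt | hlt
    · refine ⟨(j : ℕ) - i, by omega, by omega, hinj i ?_⟩
      show (y ^ Q ^ ((j : ℕ) - i)) ^ Q ^ (i : ℕ) = y ^ Q ^ (i : ℕ)
      rw [← pow_mul, ← pow_add, Nat.sub_add_cancel (le_of_lt hlt)]
      exact he2.symm
    · refine ⟨(i : ℕ) - j, by omega, by omega, hinj j ?_⟩
      show (y ^ Q ^ ((i : ℕ) - j)) ^ Q ^ (j : ℕ) = y ^ Q ^ (j : ℕ)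
      rw [← pow_mul, ← pow_add, Nat.sub_add_cancel (le_of_lt hlt)]
      exact he2
  have hQ1 : 1 < Q := Finite.one_lt_card
  have hQd : 1 ≤ Q ^ d := Nat.one_le_pow _ _ (by omega)
  have hc1 : c ^ (3 * (Q ^ d - 1)) = 1 := by
    refine Units.ext ?_
    have h1 : (c ^ 3).val ^ (Q ^ d - 1) * (c ^ 3).val = (c ^ 3).val := by
      rw [← pow_succ, Nat.sub_add_cancel hQd]
      exact congrArg Subtype.val hyd
    have h2 := congrArg (fun M => M * ((c ^ 3)⁻¹).val) h1
    simp only [mul_assoc, Units.mul_inv, mul_one] at h2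
    rw [pow_mul, Units.val_pow_eq_pow_val, h2, Units.val_one]
  have hdiv : q ^ 2 + 1 - q ∣ 9 * (Q ^ d - 1) := by
    calc q ^ 2 + 1 - q ∣ 3 * orderOf c := hN
      _ ∣ 3 * (3 * (Q ^ d - 1)) := mul_dvd_mul_left 3 (orderOf_dvd_of_pow_eq_one hc1)
      _ = 9 * (Q ^ d - 1) := by ring
  -- scalar powers
  have hgcd : ∀ M, Q ^ d - 1 ∣ M → ∀ A B : ℤ, ((M : ℕ) : ℤ) * A + ((q : ℤ) ^ 2 + 1 - q) * B = 6 →
      False := by
    intro M hM A B hAB
    have h1 : ((q ^ 2 + 1 - q : ℕ) : ℤ) ∣ ((54 : ℕ) : ℤ) := by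
      have ha : ((q ^ 2 + 1 - q : ℕ) : ℤ) ∣ 9 * (M : ℤ) := by
        exact_mod_cast hdiv.trans (mul_dvd_mul_left 9 hM)
      have hb : ((q ^ 2 + 1 - q : ℕ) : ℤ) = (q : ℤ) ^ 2 + 1 - q := by
        rw [Nat.cast_sub (by nlinarith)]; push_cast; ring
      have hb' : ((q ^ 2 + 1 - q : ℕ) : ℤ) ∣ 9 * ((q : ℤ) ^ 2 + 1 - q) := hb ▸ dvd_mul_left _ _
      rw [show ((54 : ℕ) : ℤ) = 9 * (M : ℤ) * A + 9 * ((q : ℤ) ^ 2 + 1 - q) * B by
        push_cast; linear_combination (-9 : ℤ) * hAB]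
      exact dvd_add (ha.mul_right A) (hb'.mul_right B)
    exact smooth_false (a := 1) (b := 3) hq (by norm_num) (Int.natCast_dvd_natCast.mp h1)
  have hq2 : Q ^ r = q ^ 2 := by rw [← hcard, hF]
  rcases hcase with ho | ⟨rfl, hqo⟩
  · by_cases hr3 : r = 3
    · subst hr3
      interval_cases d
      · refine hgcd (q ^ 2 - 1) ?_ (-2 * ((q : ℤ) + 1)) (2 * ((q : ℤ) + 2)) ?_
        · rw [← hq2, pow_one]; simpa using Nat.sub_dvd_pow_sub_pow Q 1 3
        · rw [Nat.cast_sub (Nat.one_le_pow _ _ (by omega))]; push_cast; ring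
      · refine hgcd ((q ^ 2) ^ 2 - 1) ?_ (2 * ((q : ℤ) - 2))
          (2 * (1 - ((q : ℤ) - 2) * q * ((q : ℤ) + 1))) ?_
        · rw [← hq2, ← pow_mul, show 3 * 2 = 2 * 3 by norm_num, pow_mul]; simpa using Nat.sub_dvd_pow_sub_pow (Q ^ 2) 1 3
        · rw [Nat.cast_sub (Nat.one_le_pow _ _ (by positivity))]; push_cast; ring
      · refine hgcd (q ^ 2 - 1) ?_ (-2 * ((q : ℤ) + 1)) (2 * ((q : ℤ) + 2)) ?_
        · rw [hq2]
        · rw [Nat.cast_sub (Nat.one_le_pow _ _ (by omega))]; push_cast; ring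
    · have hr5 : 5 ≤ r := by
        have := hr.two_le
        obtain ⟨m, rfl⟩ := ho
        by_contra hlt
        omega
      have hQ4 : 4 ≤ Q := by
        by_contra hlt
        have hcases : Q = 2 ∨ Q = 3 := by omega
        have hQp : Q.Prime := by rcases hcases with e | e <;> rw [e] <;> norm_num
        obtain ⟨t, ht, htq⟩ := (Nat.dvd_prime_pow hQp).mp (hq2 ▸ dvd_pow_self q two_ne_zero : q ∣ Q ^ r)
        rw [htq, ← pow_mul] at hq2
        have := Nat.pow_right_injective hQp.two_le hq2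
        obtain ⟨m, rfl⟩ := ho
        omega
      have hN9 := Nat.le_of_dvd (by
        have : Q ^ d ≠ 1 := by
          intro h1
          rcases Nat.pow_eq_one.mp h1 with e | e <;> omega
        omega) hdiv
      have h1 : Q ^ d ≤ Q ^ 3 := Nat.pow_le_pow_right (by omega) hd3
      have h2 : Q ^ 5 ≤ q ^ 2 := hq2 ▸ Nat.pow_le_pow_right (by omega) hr5
      have h3 : 4 * Q ^ 4 ≤ Q ^ 5 := by rw [pow_succ Q 4, mul_comm]; exact Nat.mul_le_mul_left _ hQ4
      have h4 : 4 * Q ^ 3 ≤ Q ^ 4 := by rw [pow_succ Q 3, mul_comm]; exact Nat.mul_le_mul_left _ hQ4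
      have h6 : 4 * q ≤ q ^ 2 := by rw [sq]; exact Nat.mul_le_mul_right q hq
      omega
  · have hQq : Q = q := Nat.pow_left_injective two_ne_zero hq2
    rw [hQq] at hdiv
    interval_cases d
    · refine hgcd (q - 1) (by rw [hQq, pow_one]) (-6 * (q : ℤ)) 6 ?_
      rw [Nat.cast_sub (by omega)]; push_cast; ring
    · refine hgcd (q ^ 2 - 1) (by rw [hQq]) (-2 * ((q : ℤ) + 1)) (2 * ((q : ℤ) + 2)) ?_
      rw [Nat.cast_sub (Nat.one_le_pow _ _ (by omega))]; push_cast; ring
    · refine hgcd (q ^ 3 - 1) (by rw [hQq]) (-3) (3 * ((q : ℤ) + 1)) ?_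
      rw [Nat.cast_sub (Nat.one_le_pow _ _ (by omega))]; push_cast; ring

lemma field_not_R (hF : Fintype.card F = q ^ 2) (hq : 4 ≤ q) {K : Subalgebra F (Matrix (Fin 3) (Fin 3) F)}
    (hK : IsFieldSubalgebra 3 K) (hadj : IsAdjointClosedFor (hermForm 3 F q) K) {R : Subgroup (GL (Fin 3) F)}
    (h : RSetup q R) : ¬ subalgebraNormalizer K ⊓ SU3 F q ≤ subgroupNormalizer R := by
  intro hle
  obtain ⟨c, hcM, hcK, hN, hc⟩ := exists_singer hF hq hK hadj
  have h1 := orderOf_dvd_natCard (⟨c, hle hcM, hcM.2⟩ : (subgroupNormalizer R ⊓ SU3 F q : Subgroup (GL (Fin 3) F)))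
  rw [← Subgroup.orderOf_coe] at h1
  exact smooth_false (a := 3) (b := 5) hq (by norm_num : (3 * 648 : ℕ) = 2 ^ 3 * 3 ^ 5)
    (hN.trans (mul_dvd_mul_left 3 (h1.trans h.card_dvd)))

end Cfsg.Agent.Lib.SU3Max96
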