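import Cfsg.Agent.Lib.SU3Max96.SubfieldStd

set_option autoImplicit false
set_option linter.style.haveILetI false
set_option linter.unusedSectionVars false
set_option linter.unusedVariables false

/-!
Subfield groups of `SU(3, q)` lie in no other geometric class.
-/

namespace Cfsg.Agent.Lib.SU3Max96

open Cfsg.Geo Cfsg.Agent.Lib.PrimeDim.Basic Cfsg.Agent.Lib.PrimeDim.Fields Cfsg.Agent.Lib.PrimeDim.Unitary
open Cfsg.Agent.Lib.PrimeDim.UnitaryBase Cfsg.Agent.Lib.PrimeDim.Symplectic Cfsg.Agent.Lib.Unitary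
open scoped Matrix MatrixGroups commutatorElement

variable {F : Type*} [Field F] [Fintype F] {q : ℕ}

/-- Elements with prescribed rational matrix in a unitary rational basis. -/
lemma exists_std_elt (hF : Fintype.card F = q ^ 2) {F₀ : Subfield F} {U : GL (Fin 3) F} (hU : U ∈ GU 3 F q)
    {A : Matrix (Fin 3) (Fin 3) F} (hA : Orthonormal' q fun j i => A i j) (hrat : ∀ i j, A i j ∈ F₀)
    (hdet : A.det = 1) :
    ∃ g ∈ subfieldSubgroup F₀ U ⊓ SU3 F q, (U⁻¹ * g * U).val = A := by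
  obtain ⟨B, hB⟩ := exists_GU_cols hF hA
  have hBA : B.1.val = A := Matrix.ext_of_mulVec_single fun j => by
    rw [hB]; funext i; simp
  have h1 : U⁻¹ * (U * B.1 * U⁻¹) * U = B.1 := by group
  refine ⟨U * B.1 * U⁻¹, ⟨mem_subfield_of_entries fun i j => ?_, (conj_mem_iff hU).mpr ⟨B.2, ?_⟩⟩, ?_⟩
  · rw [h1, hBA]; exact hrat i j
  · exact mem_specialLinear.mpr (by rw [hBA, hdet])
  · rw [h1, hBA]

lemma card_subfield_member (hF : Fintype.card F = q ^ 2) {F₀ : Subfield F} {U U' : GL (Fin 3) F}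
    (hU : U ∈ GU 3 F q) (hU' : U' ∈ GU 3 F q) :
    Nat.card (subfieldSubgroup F₀ U ⊓ SU3 F q : Subgroup (GL (Fin 3) F)) =
      Nat.card (subfieldSubgroup F₀ U' ⊓ SU3 F q : Subgroup (GL (Fin 3) F)) := by
  have key : ∀ g, g ∈ subfieldSubgroup F₀ U ↔ (U' * U⁻¹) * g * (U' * U⁻¹)⁻¹ ∈ subfieldSubgroup F₀ U' := by
    intro g
    simp only [subfieldSubgroup, Subgroup.mem_map, MulEquiv.coe_toMonoidHom, MulAut.conj_apply]
    constructor
    · rintro ⟨x, hx, rfl⟩; exact ⟨x, hx, by group⟩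
    · rintro ⟨x, hx, e⟩
      refine ⟨x, hx, ?_⟩
      calc U * x * U⁻¹ = U * U'⁻¹ * (U' * x * U'⁻¹) * (U * U'⁻¹)⁻¹ := by group
        _ = g := by rw [e]; group
  refine Nat.card_congr ((MulAut.conj (U' * U⁻¹)).toEquiv.subtypeEquiv fun g => ?_)
  exact and_congr (key g) (conj_mem_iff (mul_mem hU' (inv_mem hU))).symm

/-- Unequal odd prime indices. -/
lemma odd_index_eq {F₀ F₁ : Subfield F} {r r' : ℕ} (hr : r.Prime) (hr' : r'.Prime)
    (hcard : Fintype.card F = Nat.card F₀ ^ r) (hcard' : Fintype.card F = Nat.card F₁ ^ r') (hle : F₀ ≤ F₁) :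
    F₀ = F₁ := by
  obtain ⟨p, f, _, _, hf, hFp⟩ := exists_char_card (F := F)
  obtain ⟨e, he, hdvd, hQ, -⟩ := card_subfield F₀ hFp
  obtain ⟨e', he', hdvd', hQ', -⟩ := card_subfield F₁ hFp
  have hp : p.Prime := Fact.out
  have h1 : f = e * r := Nat.pow_right_injective hp.two_le (show p ^ f = p ^ (e * r) by
    rw [← hFp, hcard, hQ, pow_mul])
  have h2 : f = e' * r' := Nat.pow_right_injective hp.two_le (show p ^ f = p ^ (e' * r') by
    rw [← hFp, hcard', hQ', pow_mul])
  letI : Module F₀ F₁ := (Subfield.inclusion hle).toAlgebra.toModule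
  letI : Algebra F₀ F₁ := (Subfield.inclusion hle).toAlgebra
  haveI : Finite F₁ := inferInstance
  have h3 : Nat.card F₁ = Nat.card F₀ ^ Module.finrank F₀ F₁ := Module.natCard_eq_pow_finrank
  rw [hQ, hQ', ← pow_mul] at h3
  have h4 := Nat.pow_right_injective hp.two_le h3
  have h5 : r = Module.finrank F₀ F₁ * r' := Nat.eq_of_mul_eq_mul_left he (by rw [← h1, h2, h4]; ring)
  rcases Nat.prime_mul_iff.mp (h5 ▸ hr) with ⟨-, h⟩ | ⟨-, h⟩
  · exact absurd h hr'.ne_one
  · refine SetLike.coe_injective (Set.eq_of_subset_of_ncard_le hle ?_)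
    rw [← Nat.card_coe_set_eq, ← Nat.card_coe_set_eq]
    show Nat.card F₁ ≤ Nat.card F₀
    rw [hQ, hQ', h4, h, mul_one]

lemma prime_no_odd_index {F₀ : Subfield F} {r : ℕ} (hF : Fintype.card F = q ^ 2) (hq : q.Prime) (ho : Odd r)
    (hr : r.Prime) (hcard : Fintype.card F = Nat.card F₀ ^ r) : False := by
  have hQ1 : 1 < Nat.card F₀ := Finite.one_lt_card
  have h := hcard.symm.trans hF
  obtain ⟨k, hk, hkq⟩ := (Nat.dvd_prime_pow hq).mp (h ▸ dvd_pow_self (Nat.card F₀) hr.ne_zero : Nat.card F₀ ∣ q ^ 2)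
  rw [hkq, ← pow_mul] at h
  have h2 := Nat.pow_right_injective hq.two_le h
  obtain ⟨m, rfl⟩ := ho
  have hm : 1 ≤ m := by
    by_contra hm
    obtain rfl : m = 0 := by omega
    exact Nat.not_prime_one hr
  rcases Nat.eq_zero_or_pos k with rfl | hk1
  · omega
  · nlinarith

/-- Torus elements and a cycle in a subfield member. -/
lemma exists_sub_monomial (hF : Fintype.card F = q ^ 2) {F₀ : Subfield F} {r : ℕ}
    (hcase : Odd r ∨ (r = 2 ∧ Odd q)) (hcard : Fintype.card F = Nat.card F₀ ^ r) {U : GL (Fin 3) F}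
    (hU : U ∈ GU 3 F q) :
    ∃ s : F, s ≠ 1 ∧ ∃ t₁ ∈ subfieldSubgroup F₀ U ⊓ SU3 F q, ∃ t₂ ∈ subfieldSubgroup F₀ U ⊓ SU3 F q,
      ∃ c ∈ subfieldSubgroup F₀ U ⊓ SU3 F q,
      (∀ i, t₁.val *ᵥ (U.val *ᵥ Pi.single i 1) = ![s, s⁻¹, 1] i • (U.val *ᵥ Pi.single i 1)) ∧
      (∀ i, t₂.val *ᵥ (U.val *ᵥ Pi.single i 1) = ![s, 1, s⁻¹] i • (U.val *ᵥ Pi.single i 1)) ∧
      (∀ i, c.val *ᵥ (U.val *ᵥ Pi.single i 1) = U.val *ᵥ Pi.single (i + 1) 1) := by
  obtain ⟨s, hs, hs1, hsn⟩ : ∃ s ∈ F₀, s ≠ 1 ∧ s * s ^ q = 1 := by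
    rcases hcase with ho | ⟨-, hqo⟩
    · obtain ⟨μ, hμF, hμ⟩ : ∃ μ ∈ F₀, μ ^ q ≠ μ := by
        by_contra! hall
        obtain ⟨μ, hμ⟩ := exists_conj_ne hF
        have hsum : μ + μ ^ q ∈ fixed hF := by
          show (μ + μ ^ q) ^ q = μ + μ ^ q
          rw [add_pow_q hF, pow_q_q hF, add_comm]
        obtain ⟨p, f, _, _, hf, hFp⟩ := exists_char_card (F := F)
        obtain ⟨e, he, hdvd, hQ, -⟩ := card_subfield F₀ hFp
        obtain ⟨p', g, hp', _, hg, hqg⟩ := q_eq_primePow hF
        obtain rfl : p' = p := CharP.eq F ‹_› ‹_›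
        -- the subfield would lie in the fixed field, of index two
        letI : Module F₀ (fixed hF) := (Subfield.inclusion (show F₀ ≤ fixed hF from hall)).toAlgebra.toModule
        letI : Algebra F₀ (fixed hF) := (Subfield.inclusion (show F₀ ≤ fixed hF from hall)).toAlgebra
        have h3 : Nat.card (fixed hF) = Nat.card F₀ ^ Module.finrank F₀ (fixed hF) := Module.natCard_eq_pow_finrank
        rw [card_fixed' hF] at h3
        have h4 : Nat.card F₀ ^ r = Nat.card F₀ ^ (Module.finrank F₀ (fixed hF) * 2) := by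
          rw [← hcard, hF, pow_mul, ← h3]
        have h5 := Nat.pow_right_injective (Finite.one_lt_card (α := F₀)) h4
        exact Nat.not_even_iff_odd.mpr ho ⟨_, h5.trans (mul_two _)⟩
      have hμ0 : μ ≠ 0 := fun h => hμ (by rw [h, zero_pow_q hF])
      refine ⟨μ ^ q / μ, div_mem (pow_mem hμF q) hμF, fun h => hμ ((div_eq_one_iff_eq hμ0).mp h), ?_⟩
      rw [div_pow, pow_q_q hF, div_mul_div_comm, mul_comm μ, div_self (mul_ne_zero (pow_ne_zero _ hμ0) hμ0)]
    · refine ⟨-1, neg_mem (one_mem _), fun h => ?_, by rw [neg_pow_q hF, one_pow]; ring⟩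
      exact two_ne_zero_of_odd hF hqo (by linear_combination (-1 : F) * h)
  have hs0 : s ≠ 0 := fun h => by rw [h, zero_mul] at hsn; exact zero_ne_one hsn
  have hsi := inv_norm_one hF hsn
  have hdiag : ∀ d : Fin 3 → F, (∀ i, d i ∈ F₀) → (∀ i, d i * d i ^ q = 1) → d 0 * d 1 * d 2 = 1 →
      ∃ t ∈ subfieldSubgroup F₀ U ⊓ SU3 F q,
        ∀ i, t.val *ᵥ (U.val *ᵥ Pi.single i 1) = d i • (U.val *ᵥ Pi.single i 1) := by
    intro d hd hdn hdd
    obtain ⟨g, hg, hgA⟩ := exists_std_elt hF hU (F₀ := F₀) (A := Matrix.diagonal d) (fun i j => by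
      rw [hermForm]
      by_cases hij : i = j
      · subst hij
        rw [if_pos rfl, Finset.sum_eq_single i (fun k _ hk => by simp [hk]) (by simp)]
        simpa using hdn i
      · rw [if_neg hij]
        refine Finset.sum_eq_zero fun k _ => ?_
        by_cases hki : k = i
        · subst hki; simp [hij, zero_pow_q hF]
        · simp [hki])
      (fun i j => by
        by_cases hij : i = j
        · subst hij; simpa using hd i
        · simp [hij])
      (by rw [Matrix.det_diagonal, Fin.prod_univ_three, hdd])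
    refine ⟨g, hg, fun i => ?_⟩
    have e : g * U = U * (U⁻¹ * g * U) := by group
    rw [Matrix.mulVec_mulVec, ← Units.val_mul, e, Units.val_mul, ← Matrix.mulVec_mulVec, hgA, ← Matrix.mulVec_smul]
    congr 1
    funext k
    by_cases hki : k = i
    · subst hki; simp
    · simp [hki]
  obtain ⟨t₁, ht₁, h1⟩ := hdiag ![s, s⁻¹, 1] (fun i => by fin_cases i <;> first | exact hs | exact inv_mem hs | exact one_mem _)
    (fun i => by fin_cases i <;> first | exact hsn | exact hsi | simp) (by simp [hs0])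
  obtain ⟨t₂, ht₂, h2⟩ := hdiag ![s, 1, s⁻¹] (fun i => by fin_cases i <;> first | exact hs | exact inv_mem hs | exact one_mem _)
    (fun i => by fin_cases i <;> first | exact hsn | exact hsi | simp) (by simp [hs0])
  obtain ⟨c, hc, hcA⟩ := exists_std_elt hF hU (F₀ := F₀) (A := !![0, 0, 1; 1, 0, 0; 0, 1, 0])
    (fun i j => by
      fin_cases i <;> fin_cases j <;> simp [hermForm, Fin.sum_univ_three, zero_pow_q hF])
    (fun i j => by fin_cases i <;> fin_cases j <;> first | exact zero_mem _ | exact one_mem _)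
    (by simp [Matrix.det_fin_three])
  refine ⟨s, hs1, t₁, ht₁, t₂, ht₂, c, hc, h1, h2, fun i => ?_⟩
  have e : c * U = U * (U⁻¹ * c * U) := by group
  rw [Matrix.mulVec_mulVec, ← Units.val_mul, e, Units.val_mul, ← Matrix.mulVec_mulVec, hcA]
  congr 1
  funext k
  fin_cases i <;> fin_cases k <;> simp

lemma subfield_not_line (hF : Fintype.card F = q ^ 2) {F₀ : Subfield F} {r : ℕ}
    (hcase : Odd r ∨ (r = 2 ∧ Odd q)) (hcard : Fintype.card F = Nat.card F₀ ^ r) {U : GL (Fin 3) F}
    (hU : U ∈ GU 3 F q) {W : Submodule F (Fin 3 → F)} (hW : Module.finrank F W = 1) :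
    ¬ subfieldSubgroup F₀ U ⊓ SU3 F q ≤ subspaceStabilizer W := by
  intro hle
  obtain ⟨s, hs, t₁, ht₁, t₂, ht₂, c, hc, h1, h2, hci⟩ := exists_sub_monomial hF hcase hcard hU
  obtain ⟨w, hw, hw0, hspan⟩ := exists_line_vec hW
  obtain ⟨a, ha⟩ := stab_eigen (hle (pow_mem ht₁ 1)) hspan
  obtain ⟨b, hb⟩ := stab_eigen (hle (pow_mem ht₂ 1)) hspan
  obtain ⟨i, l, hl⟩ := two_torus_eigen h1 h2 (k := 1) (by rwa [pow_one]) ha hb
  obtain ⟨d, hd⟩ := stab_eigen (hle hc) hspan
  have hl0 : l ≠ 0 := fun h => hw0 (by rw [hl, h, zero_smul])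
  rw [hl, Matrix.mulVec_smul, hci, smul_smul] at hd
  have h3 := congrArg (fun y => ((U⁻¹).val *ᵥ y) (i + 1)) hd
  simp only [Matrix.mulVec_smul, inv_mulVec_cancel, Pi.smul_apply, smul_eq_mul, Pi.single_eq_same, mul_one] at h3
  rw [Pi.single_eq_of_ne (by fin_cases i <;> decide), mul_zero] at h3
  exact hl0 h3

/-- Transvections in a subfield member of odd index. -/
lemma exists_sub_tv (hF : Fintype.card F = q ^ 2) {F₀ : Subfield F} {r : ℕ} (ho : Odd r)
    (hcard : Fintype.card F = Nat.card F₀ ^ r) {U : GL (Fin 3) F} (hU : U ∈ GU 3 F q) :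
    ∃ v : Fin 3 → F, v ≠ 0 ∧ hermForm 3 F q v v = 0 ∧ ∃ lam : F, lam ≠ 0 ∧ lam + lam ^ q = 0 ∧
      ∀ z ∈ F₀, z ^ q = z → ∃ t ∈ subfieldSubgroup F₀ U ⊓ SU3 F q, TvElt q v (z * lam) t := by
  obtain ⟨a, haF, ha⟩ := exists_norm_in hF ho hcard (d := (-1 : F)) (neg_mem (one_mem _))
    (by rw [neg_pow_q hF, one_pow])
  obtain ⟨μ, hμF, hμ⟩ : ∃ μ ∈ F₀, μ ^ q ≠ μ := by
    obtain ⟨s, hs1, t₁, ht₁, -, -, -, -, h1, -, -⟩ := exists_sub_monomial hF (Or.inl ho) hcard hU
    by_contra! hall
    have hle : F₀ ≤ fixed hF := hall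
    letI : Module F₀ (fixed hF) := (Subfield.inclusion hle).toAlgebra.toModule
    letI : Algebra F₀ (fixed hF) := (Subfield.inclusion hle).toAlgebra
    have h3 : Nat.card (fixed hF) = Nat.card F₀ ^ Module.finrank F₀ (fixed hF) := Module.natCard_eq_pow_finrank
    rw [card_fixed' hF] at h3
    have h4 : Nat.card F₀ ^ r = Nat.card F₀ ^ (Module.finrank F₀ (fixed hF) * 2) := by
      rw [← hcard, hF, pow_mul, ← h3]
    have h5 := Nat.pow_right_injective (Finite.one_lt_card (α := F₀)) h4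
    exact Nat.not_even_iff_odd.mpr ho ⟨_, h5.trans (mul_two _)⟩
  set lam := μ - μ ^ q with hlamdef
  have hlamF : lam ∈ F₀ := sub_mem hμF (pow_mem hμF q)
  have hlam0 : lam ≠ 0 := sub_ne_zero.mpr (Ne.symm hμ)
  have hlam : lam + lam ^ q = 0 := by rw [hlamdef, sub_pow_q hF, pow_q_q hF]; ring
  set u : Fin 3 → F := Pi.single 0 1 + a • Pi.single 1 1 with hu
  have huF : ∀ i, u i ∈ F₀ := by
    intro i
    fin_cases i <;> simp [hu, haF, one_mem, zero_mem]
  have huu : hermForm 3 F q u u = 0 := iso_pair hF (by decide) ha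
  set v := U.val *ᵥ u with hv
  have hv0 : v ≠ 0 := by
    intro h
    have := congrArg (fun y => ((U⁻¹).val *ᵥ y) 0) h
    simp [hv, inv_mulVec_cancel, hu] at this
  have hvv : hermForm 3 F q v v = 0 := by rw [hv, mem_GU_iff.mp hU]; exact huu
  refine ⟨v, hv0, hvv, lam, hlam0, hlam, fun z hz hzq => ?_⟩
  obtain ⟨t, ht, htx⟩ := exists_tv' hF hvv (c := z * lam) (by rw [mul_pow, hzq, ← mul_add, hlam, mul_zero])
  refine ⟨t, ⟨mem_subfield_of_entries fun i j => ?_, ht⟩, htx⟩
  have h1 : (U⁻¹ * t * U).val *ᵥ Pi.single j 1 =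
      Pi.single j 1 + ((z * lam) * u j ^ q) • u := by
    rw [Units.val_mul, ← Matrix.mulVec_mulVec, Units.val_mul, ← Matrix.mulVec_mulVec, htx, Matrix.mulVec_add,
      Matrix.mulVec_smul, inv_mulVec_cancel, hv, mem_GU_iff.mp hU, inv_mulVec_cancel, single_herm]
  have h2 := congrFun h1 i
  rw [Matrix.mulVec_single_one, Matrix.col_apply] at h2
  rw [h2, Pi.add_apply, Pi.smul_apply, smul_eq_mul]
  refine add_mem ?_ (mul_mem (mul_mem (mul_mem hz hlamF) (pow_mem (huF j) q)) (huF i))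
  by_cases hij : i = j
  · subst hij; rw [Pi.single_eq_same]; exact one_mem _
  · rw [Pi.single_eq_of_ne hij]; exact zero_mem _

lemma sub_odd_not_frame (hF : Fintype.card F = q ^ 2) {F₀ : Subfield F} {r : ℕ} (ho : Odd r)
    (hcard : Fintype.card F = Nat.card F₀ ^ r) {U : GL (Fin 3) F} (hU : U ∈ GU 3 F q)
    {D : Fin 3 → Submodule F (Fin 3 → F)} (hD : IsNondegenerateMDecomposition (hermForm 3 F q) 1 D) :
    ¬ subfieldSubgroup F₀ U ⊓ SU3 F q ≤ decompositionStabilizer D := by
  classical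
  intro hle
  obtain ⟨v, hv0, hv, lam, hlam0, hlam, htv⟩ := exists_sub_tv hF ho hcard hU
  by_cases hz : ∃ z ∈ F₀, z ^ q = z ∧ z ≠ 0 ∧ z ≠ 1
  · obtain ⟨z, hzF, hzq, hz0, hz1⟩ := hz
    obtain ⟨t, ht, htx⟩ := htv 1 (one_mem _) (one_pow _)
    obtain ⟨t', ht', htx'⟩ := htv z hzF hzq
    exact tv_not_frame hF hv0 hv (mul_ne_zero one_ne_zero hlam0) (mul_ne_zero hz0 hlam0)
      (fun h => hz1 (mul_right_cancel₀ hlam0 h.symm)) htx htx' hD (hle ht) (hle ht')
  push Not at hz
  -- the fixed part of the subfield is the field with two elements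
  have h2 : (2 : F) = 0 := by
    by_contra h
    have h1 := hz 2 (by exact_mod_cast natCast_mem F₀ 2) (by
      rw [show (2 : F) = 1 + 1 by norm_num, add_pow_q hF, one_pow]) h
    exact one_ne_zero (show (1 : F) = 0 by linear_combination h1)
  obtain ⟨w, hw, hwne⟩ : ∃ w ∈ F₀, w ^ q ≠ w := by
    by_contra! hall
    obtain ⟨s, hs1, t₁, ht₁, -, -, -, -, h1, -, -⟩ := exists_sub_monomial hF (Or.inl ho) hcard hU
    have hle' : F₀ ≤ fixed hF := hall
    letI : Module F₀ (fixed hF) := (Subfield.inclusion hle').toAlgebra.toModule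
    letI : Algebra F₀ (fixed hF) := (Subfield.inclusion hle').toAlgebra
    have h3 : Nat.card (fixed hF) = Nat.card F₀ ^ Module.finrank F₀ (fixed hF) := Module.natCard_eq_pow_finrank
    rw [card_fixed' hF] at h3
    have h4 : Nat.card F₀ ^ r = Nat.card F₀ ^ (Module.finrank F₀ (fixed hF) * 2) := by
      rw [← hcard, hF, pow_mul, ← h3]
    have h5 := Nat.pow_right_injective (Finite.one_lt_card (α := F₀)) h4
    exact Nat.not_even_iff_odd.mpr ho ⟨_, h5.trans (mul_two _)⟩
  have hw0 : w ≠ 0 := fun h => hwne (by rw [h, zero_pow_q hF])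
  have hsum : w + w ^ q = 1 := hz _ (add_mem hw (pow_mem hw q)) (by rw [add_pow_q hF, pow_q_q hF, add_comm])
    (fun h => hwne (by linear_combination h - w * h2))
  have hprod : w * w ^ q = 1 := hz _ (mul_mem hw (pow_mem hw q)) (by rw [mul_pow, pow_q_q hF, mul_comm])
    (mul_ne_zero hw0 (pow_ne_zero _ hw0))
  have hwq : w ^ q = w + 1 := by linear_combination hsum - w * h2
  have hw2 : w ^ 2 = w + 1 := by
    rw [hwq] at hprod
    linear_combination hprod - w * h2
  have hw3 : w ^ 3 = 1 := by linear_combination (w + 1) * hw2 + w * h2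
  have hwq2 : (w ^ 2) ^ q = w := by
    rw [← pow_mul, mul_comm, pow_mul, hwq]
    linear_combination hw2 + (w + 1) * h2
  set A : Matrix (Fin 3) (Fin 3) F := !![1, 1, 1; 1, w, w ^ 2; 1, w ^ 2, w] with hA
  obtain ⟨g, hg, hgA⟩ := exists_std_elt hF hU (F₀ := F₀) (A := A) (fun i j => by
      fin_cases i <;> fin_cases j <;> simp [hA, hermForm, Fin.sum_univ_three, hwq, hwq2] <;> grind)
    (fun i j => by
      fin_cases i <;> fin_cases j <;> first | exact one_mem _ | exact hw | exact pow_mem hw 2)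
    (by
      simp [hA, Matrix.det_fin_three]
      grind)
  have hsq : (U⁻¹ * g * U).val * (U⁻¹ * g * U).val = !![1, 0, 0; 0, 0, 1; 0, 1, 0] := by
    rw [hgA, hA]
    ext i j
    fin_cases i <;> fin_cases j <;> simp [Matrix.mul_apply, Fin.sum_univ_three] <;> grind
  set y := U⁻¹ * g * U with hy
  have hy4 : y ^ 4 = 1 := Units.ext (by
    rw [show (4 : ℕ) = 2 * 2 from rfl, pow_mul, Units.val_pow_eq_pow_val, Units.val_pow_eq_pow_val, sq, sq, hsq,
      Units.val_one]
    ext i j
    fin_cases i <;> fin_cases j <;> simp [Matrix.mul_apply, Fin.sum_univ_three])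
  have hgy : g = U * y * U⁻¹ := by rw [hy]; group
  have hg4 : g ^ 4 = 1 := by rw [hgy, conj_pow, hy4, mul_one, mul_inv_cancel]
  obtain ⟨U', hU', hDU⟩ := exists_frame_U hF hD
  obtain ⟨σ, hσ⟩ := hle hg
  have hpow : ∀ (n : ℕ) (j : Fin 3), ∀ x ∈ D j, (g ^ n).val *ᵥ x ∈ D ((σ ^ n) j) := by
    intro n j
    induction n with
    | zero => intro x hx; simpa using hx
    | succ n ih =>
      intro x hx
      rw [pow_succ' g, Units.val_mul, ← Matrix.mulVec_mulVec, pow_succ' σ, Equiv.Perm.mul_apply, ← hσ]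
      exact ⟨_, ih x hx, by simp⟩
  have hσ4 : σ ^ 4 = 1 := by
    ext j : 1
    have h := hpow 4 j _ (hDU j ▸ Submodule.mem_span_singleton_self _)
    rw [hg4, Units.val_one, Matrix.one_mulVec, hDU, Submodule.mem_span_singleton] at h
    obtain ⟨a, ha⟩ := h
    have h' := congrArg (fun z => ((U'⁻¹).val *ᵥ z) j) ha
    simp only [Matrix.mulVec_smul, inv_mulVec_cancel, Pi.smul_apply, smul_eq_mul, Pi.single_eq_same] at h'
    by_contra hne
    rw [Equiv.Perm.one_apply] at hne
    rw [Pi.single_eq_of_ne (Ne.symm hne), mul_zero] at h'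
    exact zero_ne_one h'
  have hσ2 : σ ^ 2 = 1 :=
    (by decide : ∀ τ : Equiv.Perm (Fin 3), τ ^ 4 = 1 → τ ^ 2 = 1) σ hσ4
  have hg2 : g ^ 2 = 1 := by
    refine U_ext U' fun j => ?_
    have h := hpow 2 j _ (hDU j ▸ Submodule.mem_span_singleton_self _)
    rw [hσ2, Equiv.Perm.one_apply, hDU, Submodule.mem_span_singleton] at h
    obtain ⟨a, ha⟩ := h
    have h4 : (g ^ 4).val *ᵥ (U'.val *ᵥ Pi.single j 1) = (a * a) • (U'.val *ᵥ Pi.single j 1) := by
      rw [show (4 : ℕ) = 2 + 2 from rfl, pow_add, Units.val_mul, ← Matrix.mulVec_mulVec, ← ha, Matrix.mulVec_smul, ← ha,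
        smul_smul]
    rw [hg4, Units.val_one, Matrix.one_mulVec] at h4
    have ha2 : a * a = 1 := (smul_left_injective F (U_single_ne U' j) (h4.symm.trans (one_smul F _).symm))
    have ha1 : a = 1 := by
      have h : (a - 1) * (a - 1) = 0 := by linear_combination ha2 + (1 - a) * h2
      exact sub_eq_zero.mp (mul_self_eq_zero.mp h)
    rw [← ha, ha1, one_smul, Units.val_one, Matrix.one_mulVec]
  have hy2 : y ^ 2 = 1 := by
    rw [hy]
    calc (U⁻¹ * g * U) ^ 2 = U⁻¹ * g ^ 2 * U := by simp only [sq]; group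
      _ = 1 := by rw [hg2, mul_one, inv_mul_cancel]
  have := congrArg Units.val hy2
  rw [Units.val_pow_eq_pow_val, sq, hsq, Units.val_one] at this
  have := congrFun (congrFun this 1) 1
  simp at this

lemma sub_odd_not_field (hF : Fintype.card F = q ^ 2) {F₀ : Subfield F} {r : ℕ} (ho : Odd r)
    (hcard : Fintype.card F = Nat.card F₀ ^ r) {U : GL (Fin 3) F} (hU : U ∈ GU 3 F q)
    {K : Subalgebra F (Matrix (Fin 3) (Fin 3) F)} (hK : IsFieldSubalgebra 3 K) :
    ¬ subfieldSubgroup F₀ U ⊓ SU3 F q ≤ subalgebraNormalizer K := by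
  intro hle
  obtain ⟨v, hv0, hv, lam, hlam0, hlam, htv⟩ := exists_sub_tv hF ho hcard hU
  obtain ⟨t, ht, htx⟩ := htv 1 (one_mem _) (one_pow _)
  exact tv_not_subalgebra hF hv0 (mul_ne_zero one_ne_zero hlam0) htx hK (hle ht)

/-- A member of odd index lies in no other subfield group. -/
lemma sub_odd_subfield (hF : Fintype.card F = q ^ 2) {F₀ : Subfield F} {r : ℕ} (hr : r.Prime) (ho : Odd r)
    (hcard : Fintype.card F = Nat.card F₀ ^ r) {U : GL (Fin 3) F} (hU : U ∈ GU 3 F q)
    {F₁ : Subfield F} {r' : ℕ} (hr' : r'.Prime) (hcase' : Odd r' ∨ (r' = 2 ∧ Odd q))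
    (hcard' : Fintype.card F = Nat.card F₁ ^ r') {P : GL (Fin 3) F}
    (hP : IsFormRationalStructure (hermForm 3 F q) F₁ 1 P)
    (hle : subfieldSubgroup F₀ U ⊓ SU3 F q ≤ subfieldSubgroup F₁ P) :
    subfieldSubgroup F₁ P ⊓ SU3 F q ≤ subfieldSubgroup F₀ U := by
  obtain ⟨v, hv0, hv, lam, hlam0, hlam, htv⟩ := exists_sub_tv hF ho hcard hU
  obtain ⟨t, ht, htx⟩ := htv 1 (one_mem _) (one_pow _)
  rcases hcase' with ho' | ⟨rfl, hqo⟩
  · have hsub : F₀ ≤ F₁ := by
      intro x hx
      have key : ∀ z ∈ F₀, z ^ q = z → z ∈ F₁ := by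
        intro z hz hzq
        obtain ⟨t', ht', htx'⟩ := htv z hz hzq
        have := tv_ratio hF hv0 hv htx' htx (hle ht') (hle ht)
        rwa [one_mul, mul_div_assoc, div_self hlam0, mul_one] at this
      exact mem_of_roots ho' hcard' (key (x + x ^ q) (add_mem hx (pow_mem hx q))
        (by rw [add_pow_q hF, pow_q_q hF, add_comm]))
        (key (x * x ^ q) (mul_mem hx (pow_mem hx q)) (by rw [mul_pow, pow_q_q hF, mul_comm]))
    obtain rfl := odd_index_eq hr hr' hcard hcard' hsub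
    obtain ⟨U', hU', he⟩ := exists_GU_subfield hF (Or.inl ho') hcard' hP
    rw [he] at hle ⊢
    have heq : subfieldSubgroup F₀ U ⊓ SU3 F q = subfieldSubgroup F₀ U' ⊓ SU3 F q :=
      Subgroup.eq_of_le_of_card_ge (le_inf hle inf_le_right) (card_subfield_member hF hU' hU).le
    exact heq.symm.le.trans inf_le_left
  · exact absurd (hle ht) (tv_not_subfield_two hF hqo hv0 hv (mul_ne_zero one_ne_zero hlam0)
      (by rwa [one_mul]) htx hcard' hP)

/-- The unipotent element with parameter `c` in the orthogonal member. -/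
def unip (a b c : F) : Matrix (Fin 3) (Fin 3) F :=
  1 + c • (Matrix.vecMulVec ![0, -b, a] ![1, a, b] - Matrix.vecMulVec ![1, a, b] ![0, -b, a]) +
    (c ^ 2 / 2) • Matrix.vecMulVec ![1, a, b] ![1, a, b]

lemma unip_mul {a b : F} (hab : a ^ 2 + b ^ 2 = -1) (h2 : (2 : F) ≠ 0) (c d : F) :
    unip a b c * unip a b d = unip a b (c + d) := by
  set w : Fin 3 → F := ![0, -b, a]
  set e : Fin 3 → F := ![1, a, b]
  set A := Matrix.vecMulVec w e - Matrix.vecMulVec e w with hA
  set B := Matrix.vecMulVec e e with hB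
  have hee : e ⬝ᵥ e = 0 := by simp [e, dotProduct, Fin.sum_univ_three]; linear_combination hab
  have hew : e ⬝ᵥ w = 0 := by simp [e, w, dotProduct, Fin.sum_univ_three]; ring
  have hwe : w ⬝ᵥ e = 0 := by simp [e, w, dotProduct, Fin.sum_univ_three]; ring
  have hww : w ⬝ᵥ w = -1 := by simp [w, dotProduct, Fin.sum_univ_three]; linear_combination hab
  have hAA : A * A = B := by
    simp only [hA, hB, sub_mul, mul_sub, Matrix.vecMulVec_mul_vecMulVec, hee, hew, hwe, hww, zero_smul,
      Matrix.vecMulVec_zero, sub_zero, zero_sub, neg_smul, one_smul]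
    ext i j; simp [Matrix.vecMulVec_apply]
  have hAB : A * B = 0 := by
    simp only [hA, hB, sub_mul, Matrix.vecMulVec_mul_vecMulVec, hee, hwe, zero_smul, Matrix.vecMulVec_zero, sub_zero]
  have hBA : B * A = 0 := by
    simp only [hA, hB, mul_sub, Matrix.vecMulVec_mul_vecMulVec, hee, hew, zero_smul, Matrix.vecMulVec_zero, sub_zero]
  have hBB : B * B = 0 := by
    simp only [hB, Matrix.vecMulVec_mul_vecMulVec, hee, zero_smul, Matrix.vecMulVec_zero]
  show (1 + c • A + (c ^ 2 / 2) • B) * (1 + d • A + (d ^ 2 / 2) • B) = 1 + (c + d) • A + ((c + d) ^ 2 / 2) • B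
  simp only [add_mul, mul_add, one_mul, mul_one, Matrix.smul_mul, Matrix.mul_smul, hAA, hAB, hBA, hBB, smul_zero,
    add_zero, smul_smul]
  rw [show (c + d) ^ 2 / 2 = c ^ 2 / 2 + d ^ 2 / 2 + d * c by field_simp; ring, add_smul, add_smul, add_smul]
  abel

/-- The unipotent group of an orthogonal member. -/
lemma exists_sub_unip (hF : Fintype.card F = q ^ 2) (hqo : Odd q) {F₀ : Subfield F}
    (hcard : Fintype.card F = Nat.card F₀ ^ 2) {U : GL (Fin 3) F} (hU : U ∈ GU 3 F q) :
    ∃ (a b : F) (u : F₀ → GL (Fin 3) F), a ∈ F₀ ∧ b ∈ F₀ ∧ a ^ 2 + b ^ 2 = -1 ∧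
      (∀ c, u c ∈ subfieldSubgroup F₀ U ⊓ SU3 F q) ∧ (∀ c d, u c * u d = u (c + d)) ∧
      (∀ c, u c = 1 → c = 0) ∧ (∀ c : F₀, (U⁻¹ * u c * U).val = unip a b c) ∧
      ∃ e : Fin 3 → F, e ≠ 0 ∧ ∀ c, (u c).val *ᵥ e = e := by
  have hFQ : Nat.card F₀ = q := Nat.pow_left_injective two_ne_zero (hcard.symm.trans hF)
  have hfix : ∀ {x : F}, x ∈ F₀ → x ^ q = x := fun hx => by rw [mem_subfield_iff, hFQ] at hx; exact hx
  have h2 := two_ne_zero_of_odd hF hqo
  obtain ⟨a, ha, b, hb, hab⟩ := exists_sum_sq (F₀ := F₀) (by rw [hFQ]; exact hqo) (neg_mem (one_mem F₀))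
  have h20 : (2 : F) ∈ F₀ := by exact_mod_cast natCast_mem F₀ 2
  have hrat : ∀ (c : F₀) (i j : Fin 3), unip a b (c : F) i j ∈ F₀ := by
    intro c i j
    have hw : ∀ k, (![0, -b, a] : Fin 3 → F) k ∈ F₀ := fun k => by
      fin_cases k <;> first | exact zero_mem _ | exact neg_mem hb | exact ha
    have he : ∀ k, (![1, a, b] : Fin 3 → F) k ∈ F₀ := fun k => by
      fin_cases k <;> first | exact one_mem _ | exact ha | exact hb
    simp only [unip, Matrix.add_apply, Matrix.smul_apply, Matrix.sub_apply, Matrix.vecMulVec_apply, smul_eq_mul]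
    refine add_mem (add_mem ?_ (mul_mem c.2 (sub_mem (mul_mem (hw i) (he j)) (mul_mem (he i) (hw j)))))
      (mul_mem (div_mem (pow_mem c.2 2) h20) (mul_mem (he i) (he j)))
    rw [Matrix.one_apply]; split
    · exact one_mem _
    · exact zero_mem _
  have htr : ∀ c : F, (unip a b c)ᵀ = unip a b (-c) := by
    intro c
    ext i j
    simp only [unip, Matrix.transpose_apply, Matrix.add_apply, Matrix.smul_apply, Matrix.sub_apply,
      Matrix.vecMulVec_apply, smul_eq_mul, Matrix.one_apply, eq_comm (a := i) (b := j)]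
    ring
  have hzero : unip a b (0 : F) = 1 := by simp [unip]
  have horth : ∀ c : F₀, Orthonormal' q fun j i => unip a b (c : F) i j := by
    intro c i j
    have h := congrFun (congrFun (unip_mul hab h2 (-(c : F)) c) i) j
    rw [neg_add_cancel, hzero, Matrix.mul_apply, ← htr, Matrix.one_apply] at h
    rw [hermForm, ← h]
    exact Finset.sum_congr rfl fun k _ => by rw [hfix (hrat c k j), Matrix.transpose_apply]
  have hdet : ∀ c : F, (unip a b c).det = 1 := by
    intro c
    haveI : NeZero (2 : F) := ⟨h2⟩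
    have hc : unip a b (c / 2) * unip a b (c / 2) = unip a b c := by
      rw [unip_mul hab h2, add_halves]
    have hsq : ∀ c : F, (unip a b c).det ^ 2 = 1 := by
      intro c
      have h := congrArg Matrix.det (unip_mul hab h2 c (-c))
      rw [add_neg_cancel, hzero, Matrix.det_one, Matrix.det_mul, ← htr, Matrix.det_transpose, ← sq] at h
      exact h
    rw [← hc, Matrix.det_mul, ← sq, hsq]
  choose u hu huA using fun c : F₀ => exists_std_elt hF hU (horth c) (hrat c) (hdet c)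
  have hcancel : ∀ x y : GL (Fin 3) F, (U⁻¹ * x * U).val = (U⁻¹ * y * U).val → x = y := fun x y h =>
    mul_left_cancel (mul_right_cancel (Units.ext h))
  refine ⟨a, b, u, ha, hb, hab, hu, fun c d => hcancel _ _ ?_, fun c hc => ?_, huA, U.val *ᵥ ![1, a, b], ?_, fun c => ?_⟩
  · rw [show U⁻¹ * (u c * u d) * U = (U⁻¹ * u c * U) * (U⁻¹ * u d * U) by group, Units.val_mul, huA, huA, huA,
      unip_mul hab h2]
    push_cast
    rfl
  · have h := huA c
    rw [hc, mul_one, inv_mul_cancel, Units.val_one] at h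
    have e1 := congrFun (congrFun h 1) 0
    have e2 := congrFun (congrFun h 2) 0
    simp [unip, Matrix.vecMulVec_apply] at e1 e2
    refine Subtype.ext ?_
    show (c : F) = 0
    have : (c : F) * (a ^ 2 + b ^ 2) = 0 := by linear_combination b * e1 - a * e2
    rw [hab, mul_neg, mul_one, neg_eq_zero] at this
    exact this
  · intro h
    have := congrArg (fun y => ((U⁻¹).val *ᵥ y) 0) h
    simp [inv_mulVec_cancel] at this
  · have e : u c * U = U * (U⁻¹ * u c * U) := by group
    rw [Matrix.mulVec_mulVec, ← Units.val_mul, e, Units.val_mul, ← Matrix.mulVec_mulVec, huA]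
    congr 1
    have hee : (![1, a, b] : Fin 3 → F) ⬝ᵥ ![1, a, b] = 0 := by
      simp [dotProduct, Fin.sum_univ_three]; linear_combination hab
    have hwe : (![0, -b, a] : Fin 3 → F) ⬝ᵥ ![1, a, b] = 0 := by
      simp [dotProduct, Fin.sum_univ_three]; ring
    rw [unip, Matrix.add_mulVec, Matrix.add_mulVec, Matrix.one_mulVec, Matrix.smul_mulVec, Matrix.smul_mulVec,
      Matrix.sub_mulVec, Matrix.vecMulVec_mulVec, Matrix.vecMulVec_mulVec, Matrix.vecMulVec_mulVec, hee, hwe]
    simp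

lemma sub_two_not_frame (hF : Fintype.card F = q ^ 2) (hqo : Odd q) (h7 : 7 ≤ q) {F₀ : Subfield F}
    (hcard : Fintype.card F = Nat.card F₀ ^ 2) {U : GL (Fin 3) F} (hU : U ∈ GU 3 F q)
    {D : Fin 3 → Submodule F (Fin 3 → F)} (hD : IsNondegenerateMDecomposition (hermForm 3 F q) 1 D) :
    ¬ subfieldSubgroup F₀ U ⊓ SU3 F q ≤ decompositionStabilizer D := by
  classical
  intro hle
  obtain ⟨a, b, u, -, -, -, hu, humul, hu1, -, -⟩ := exists_sub_unip hF hqo hcard hU
  obtain ⟨U', hU', hDU⟩ := exists_frame_U hF hD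
  choose σ hσ using fun c => hle (hu c)
  have hu0 : u 0 = 1 := mul_left_cancel (a := u 0) (by rw [humul, add_zero, mul_one])
  obtain ⟨p, g, hp, hchar, hg, hqg⟩ := q_eq_primePow hF
  haveI := Fact.mk hp
  have hfix : ∀ c d, σ c = σ d → c = d := by
    intro c d h
    suffices hk : u (d - c) = 1 from (sub_eq_zero.mp (hu1 _ hk)).symm
    -- the difference fixes every member of the frame
    have hlines : ∀ j, ∃ l : F, (u (d - c)).val *ᵥ (U'.val *ᵥ Pi.single j 1) = l • (U'.val *ᵥ Pi.single j 1) := by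
      intro j
      have hm : (u (d - c)).val *ᵥ (U'.val *ᵥ Pi.single j 1) ∈ D j := by
        have h1 : u (d - c) * u c = u d := by rw [humul, sub_add_cancel]
        set i := (σ c).symm j
        have hi : σ c i = j := Equiv.apply_symm_apply _ _
        have hmem : U'.val *ᵥ Pi.single j 1 ∈ D j := hDU j ▸ Submodule.mem_span_singleton_self _
        rw [← hi, ← hσ c i] at hmem
        obtain ⟨x, hx, hxe⟩ := hmem
        have hxe' : (u c).val *ᵥ x = U'.val *ᵥ Pi.single j 1 := by rw [← hi]; simpa using hxe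
        rw [← hxe', Matrix.mulVec_mulVec, ← Units.val_mul, h1, ← hi, h, ← hσ d i]
        exact ⟨x, hx, by simp⟩
      rw [hDU, Submodule.mem_span_singleton] at hm
      obtain ⟨l, hl⟩ := hm
      exact ⟨l, hl.symm⟩
    choose l hl using hlines
    have hp1 : ∀ (k : ℕ) (e : F₀), u e ^ k = u (k • e) := by
      intro k e
      induction k with
      | zero => rw [pow_zero, zero_smul, hu0]
      | succ k ih => rw [pow_succ, ih, humul, succ_nsmul]
    have hup : u (d - c) ^ p = 1 := by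
      rw [hp1, show p • (d - c) = 0 from Subtype.ext (by simp), hu0]
    refine U_ext U' fun j => ?_
    have h1 := pow_eig hl p j
    rw [hup, Units.val_one, Matrix.one_mulVec] at h1
    have hlp : l j ^ p = 1 := (smul_left_injective F (U_single_ne U' j) ((one_smul F _).trans h1)).symm
    have hlj : l j = 1 := by
      apply frobenius_inj F p
      simp only [frobenius_def, one_pow, hlp]
    rw [hl, hlj, one_smul, Units.val_one, Matrix.one_mulVec]
  have h1 := Nat.card_le_card_of_injective σ hfix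
  rw [Nat.card_perm, Nat.card_eq_fintype_card (α := Fin 3), Fintype.card_fin,
    show Nat.card F₀ = q from Nat.pow_left_injective two_ne_zero (hcard.symm.trans hF)] at h1
  have : Nat.factorial 3 = 6 := rfl
  omega

lemma sub_two_not_field (hF : Fintype.card F = q ^ 2) (hqo : Odd q) (h7 : 7 ≤ q) {F₀ : Subfield F}
    (hcard : Fintype.card F = Nat.card F₀ ^ 2) {U : GL (Fin 3) F} (hU : U ∈ GU 3 F q)
    {K : Subalgebra F (Matrix (Fin 3) (Fin 3) F)} (hK : IsFieldSubalgebra 3 K) :
    ¬ subfieldSubgroup F₀ U ⊓ SU3 F q ≤ subalgebraNormalizer K := by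
  classical
  intro hle
  obtain ⟨a, b, u, -, -, -, hu, humul, hu1, -, e, he0, hue⟩ := exists_sub_unip hF hqo hcard hU
  letI := (Cfsg.Agent.Lib.PrimeDim.SU3Field.isField_of hK).toField
  haveI : Finite K := inferInstance
  haveI : IsGalois F K := inferInstance
  let φ : F₀ → (K →ₐ[F] K) := fun c =>
    { toFun := fun k => ⟨(u c).val * k.1 * ((u c)⁻¹).val, (hle (hu c) k.1).mp k.2⟩
      map_one' := Subtype.ext (by simp)
      map_mul' := fun a b => Subtype.ext (by simp [mul_assoc])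
      map_zero' := Subtype.ext (by simp)
      map_add' := fun a b => Subtype.ext (by simp [mul_add, add_mul])
      commutes' := fun r => Subtype.ext (by
        show (u c).val * algebraMap F (Matrix (Fin 3) (Fin 3) F) r * ((u c)⁻¹).val = _
        rw [← Algebra.commutes, mul_assoc, Units.mul_inv, mul_one]
        rfl) }
  let ψ : F₀ → (K ≃ₐ[F] K) := fun c =>
    AlgEquiv.ofBijective (φ c) (Finite.injective_iff_bijective.mp (φ c).toRingHom.injective)
  have hinj : Function.Injective ψ := by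
    intro c d h
    suffices hk : u (d - c) = 1 from (sub_eq_zero.mp (hu1 _ hk)).symm
    have hcd : u (d - c) * u c = u d := by rw [humul, sub_add_cancel]
    have hdiff : u (d - c) = u d * (u c)⁻¹ := by rw [← hcd, mul_inv_cancel_right]
    have hcomm : ∀ k ∈ K, (u (d - c)).val * k = k * (u (d - c)).val := by
      intro k hk
      set k₀ := ((u c)⁻¹).val * k * (u c).val with hk₀
      have hk₀K : k₀ ∈ K := by
        refine (hle (hu c) k₀).mpr ?_
        have e1 : (u c).val * k₀ * ((u c)⁻¹).val = k := by simp [hk₀, mul_assoc]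
        rw [e1]; exact hk
      have h2 : (u c).val * k₀ * ((u c)⁻¹).val = (u d).val * k₀ * ((u d)⁻¹).val :=
        congrArg (fun f : K ≃ₐ[F] K => (f ⟨k₀, hk₀K⟩).1) h
      have e1 : (u c).val * k₀ * ((u c)⁻¹).val = k := by simp [hk₀, mul_assoc]
      rw [e1, hk₀] at h2
      rw [hdiff, Units.val_mul]
      have h3 := congrArg (fun M => M * ((u d).val * ((u c)⁻¹).val)) h2
      simp only [mul_assoc, Units.inv_mul_cancel_left, Units.mul_inv, mul_one] at h3
      simp only [mul_assoc]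
      exact h3.symm
    refine Units.ext ?_
    rw [scalar_of_field_eigen hK hcomm he0 (l := (1 : F)) (by rw [hue, one_smul]), one_smul, Units.val_one]
  have h1 := Nat.card_le_card_of_injective ψ hinj
  rw [IsGalois.card_aut_eq_finrank, show Module.finrank F K = 3 from hK.finrank_eq,
    show Nat.card F₀ = q from Nat.pow_left_injective two_ne_zero (hcard.symm.trans hF)] at h1
  omega

/-- The orthogonal member lies in no other subfield group. -/
lemma sub_two_subfield (hF : Fintype.card F = q ^ 2) (hqo : Odd q) {F₀ : Subfield F}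
    (hcard : Fintype.card F = Nat.card F₀ ^ 2) {U : GL (Fin 3) F} (hU : U ∈ GU 3 F q)
    {F₁ : Subfield F} {r' : ℕ} (hr' : r'.Prime) (hcase' : Odd r' ∨ (r' = 2 ∧ Odd q))
    (hcard' : Fintype.card F = Nat.card F₁ ^ r') {P : GL (Fin 3) F}
    (hP : IsFormRationalStructure (hermForm 3 F q) F₁ 1 P)
    (hle : subfieldSubgroup F₀ U ⊓ SU3 F q ≤ subfieldSubgroup F₁ P) :
    subfieldSubgroup F₁ P ⊓ SU3 F q ≤ subfieldSubgroup F₀ U := by
  classical
  have hFQ : Nat.card F₀ = q := Nat.pow_left_injective two_ne_zero (hcard.symm.trans hF)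
  have h2 := two_ne_zero_of_odd hF hqo
  rcases hcase' with ho | ⟨rfl, -⟩
  · exfalso
    obtain ⟨a, b, u, -, -, hab, hu, humul, hu1, huA, -⟩ := exists_sub_unip hF hqo hcard hU
    set B := Matrix.vecMulVec (![1, a, b] : Fin 3 → F) ![1, a, b] with hB
    set A := Matrix.vecMulVec (![0, -b, a] : Fin 3 → F) ![1, a, b] -
      Matrix.vecMulVec (![1, a, b] : Fin 3 → F) ![0, -b, a] with hA
    -- entries of the logarithms
    have hent : ∀ (c : F₀) i j,
        ((P⁻¹).val * (U.val * ((c : F) • A + ((c : F) ^ 2 / 2) • B) * (U⁻¹).val) * P.val) i j ∈ F₁ := by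
      intro c
      have hval : (u c).val = 1 + U.val * ((c : F) • A + ((c : F) ^ 2 / 2) • B) * (U⁻¹).val := by
        have h := huA c
        rw [show u c = U * (U⁻¹ * u c * U) * U⁻¹ by group, Units.val_mul, Units.val_mul, h, unip, ← hA, ← hB,
          add_assoc, mul_add, add_mul, mul_one, Units.mul_inv]
      refine unip_entries Nat.prime_three (hle (hu c)) (mem_specialLinear.mp (hu c).2.2) hval ?_
      rw [Matrix.trace_mul_cycle, Units.inv_mul, one_mul, hA, hB, Matrix.trace_add, Matrix.trace_smul,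
        Matrix.trace_smul, Matrix.trace_sub, Matrix.trace_vecMulVec, Matrix.trace_vecMulVec, Matrix.trace_vecMulVec]
      simp [dotProduct, Fin.sum_univ_three]
      linear_combination ((c : F) ^ 2 / 2) * hab
    set β := (P⁻¹).val * (U.val * B * (U⁻¹).val) * P.val with hβ
    have hsum : ∀ (c : F₀) i j, (c : F) ^ 2 * β i j ∈ F₁ := by
      intro c i j
      have h := add_mem (hent c i j) (hent (-c) i j)
      rw [← Matrix.add_apply, ← add_mul, ← mul_add, ← add_mul, ← mul_add] at h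
      haveI : NeZero (2 : F) := ⟨h2⟩
      rw [show ((c : F) • A + ((c : F) ^ 2 / 2) • B) + (((-c : F₀) : F) • A + ((((-c : F₀) : F)) ^ 2 / 2) • B)
          = ((c : F) ^ 2) • B by
        push_cast
        rw [neg_sq, neg_smul, add_add_add_comm, add_neg_cancel, zero_add, ← add_smul, add_halves]] at h
      rw [Matrix.mul_smul, Matrix.smul_mul, Matrix.mul_smul, Matrix.smul_mul, Matrix.smul_apply, smul_eq_mul] at h
      exact h
    obtain ⟨i, j, hij⟩ : ∃ i j, β i j ≠ 0 := by
      by_contra! h0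
      have hβ0 : β = 0 := Matrix.ext h0
      have : B = 0 := by
        calc B = (U⁻¹).val * (P.val * β * (P⁻¹).val) * U.val := by simp [hβ, mul_assoc]
          _ = 0 := by rw [hβ0]; simp
      have := congrFun (congrFun this 0) 0
      simp [hB, Matrix.vecMulVec_apply] at this
    have hsub : F₀ ≤ F₁ := by
      intro x hx
      refine mem_of_sq_mem ho hcard' ?_
      have h1 := div_mem (hsum ⟨x, hx⟩ i j) (hsum ⟨1, one_mem _⟩ i j)
      simpa [mul_div_assoc, hij] using h1
    have := odd_index_eq Nat.prime_two hr' hcard hcard' hsub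
    subst this
    have h3 := hcard.symm.trans hcard'
    have h4 := Nat.pow_right_injective (Finite.one_lt_card (α := F₀)) h3
    subst h4
    exact Nat.not_even_iff_odd.mpr ho even_two
  · obtain rfl : F₁ = F₀ := by
      ext x
      rw [mem_subfield_iff, mem_subfield_iff, hFQ,
        show Nat.card F₁ = q from Nat.pow_left_injective two_ne_zero (hcard'.symm.trans hF)]
    obtain ⟨U', hU', he⟩ := exists_GU_subfield hF (Or.inr ⟨rfl, hqo⟩) hcard' hP
    rw [he] at hle ⊢
    have heq : subfieldSubgroup F₁ U ⊓ SU3 F q = subfieldSubgroup F₁ U' ⊓ SU3 F q :=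
      Subgroup.eq_of_le_of_card_ge (le_inf hle inf_le_right) (card_subfield_member hF hU' hU).le
    exact heq.symm.le.trans inf_le_left

/-- The order of the orthogonal member is divisible by the characteristic. -/
lemma sub_two_prime_dvd (hF : Fintype.card F = q ^ 2) (hqo : Odd q) (hqp : q.Prime) {F₀ : Subfield F}
    (hcard : Fintype.card F = Nat.card F₀ ^ 2) {U : GL (Fin 3) F} (hU : U ∈ GU 3 F q) :
    q ∣ Nat.card (subfieldSubgroup F₀ U ⊓ SU3 F q : Subgroup (GL (Fin 3) F)) := by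
  obtain ⟨a, b, u, -, -, -, hu, humul, hu1, -, -⟩ := exists_sub_unip hF hqo hcard hU
  let φ : Multiplicative F₀ →* (subfieldSubgroup F₀ U ⊓ SU3 F q : Subgroup (GL (Fin 3) F)) :=
    MonoidHom.mk' (fun c => ⟨u c.toAdd, hu _⟩) (fun c d => Subtype.ext (humul c.toAdd d.toAdd).symm)
  have hinj : Function.Injective φ := by
    rw [injective_iff_map_eq_one]
    intro c hc
    exact Multiplicative.toAdd.injective (hu1 _ (congrArg Subtype.val hc))
  have := Subgroup.card_dvd_of_injective φ hinj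
  rwa [Nat.card_congr Multiplicative.toAdd, show Nat.card F₀ = q from
    Nat.pow_left_injective two_ne_zero (hcard.symm.trans hF)] at this

lemma sub_not_R (hF : Fintype.card F = q ^ 2) (h7 : 7 ≤ q) (hqo : Odd q) {F₀ : Subfield F}
    (hcard : Fintype.card F = Nat.card F₀ ^ 2) {U : GL (Fin 3) F} (hU : U ∈ GU 3 F q)
    {R : Subgroup (GL (Fin 3) F)} (h : RSetup q R) :
    ¬ subfieldSubgroup F₀ U ⊓ SU3 F q ≤ subgroupNormalizer R := by
  intro hle
  have h1 := ((sub_two_prime_dvd hF hqo h.prime hcard hU).trans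
    (Subgroup.card_dvd_of_le (le_inf hle inf_le_right))).trans h.card_dvd
  rw [show 648 = 2 ^ 3 * 3 ^ 4 by norm_num] at h1
  rcases (Nat.Prime.dvd_mul h.prime).mp h1 with e | e
  · have := (Nat.prime_dvd_prime_iff_eq h.prime Nat.prime_two).mp (h.prime.dvd_of_dvd_pow e)
    omega
  · have := (Nat.prime_dvd_prime_iff_eq h.prime Nat.prime_three).mp (h.prime.dvd_of_dvd_pow e)
    omega

end Cfsg.Agent.Lib.SU3Max96
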