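import Cfsg.Agent.Lib.SU3Max96.Fourier
import Cfsg.Agent.Lib.SU3Max96.Subfield

set_option autoImplicit false
set_option linter.style.haveILetI false
set_option linter.unusedSectionVars false
set_option linter.unusedVariables false

/-!
The symplectic type member lies in no other geometric member.
-/

namespace Cfsg.Agent.Lib.SU3Max96

open Cfsg.Geo Cfsg.Agent.Lib.PrimeDim.Basic Cfsg.Agent.Lib.PrimeDim.Fields Cfsg.Agent.Lib.PrimeDim.Unitary
open Cfsg.Agent.Lib.PrimeDim.UnitaryBase Cfsg.Agent.Lib.PrimeDim.Symplectic Cfsg.Agent.Lib.Unitary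
open scoped Matrix MatrixGroups commutatorElement

variable {F : Type*} [Field F] [Fintype F] {q : ℕ}

/-- The member of the statement gives the data of the symplectic type member. -/
theorem rsetup_of (hF : Fintype.card F = q ^ 2) (hq : q.Prime) (hmod : q % 3 = 2)
    {R : Subgroup (GL (Fin 3) F)} (hR : IsSymplecticTypeGroup 3 R)
    (habs : ActsAbsolutelyIrreducibly (matrixSet R)) (hsim : R ≤ similarityGroup (hermForm 3 F q))
    (hcard : Nat.card R = 27) (hcen : Nat.card (Subgroup.center R) = 3) : RSetup q R := by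
  classical
  haveI := Fact.mk hq
  haveI := Cfsg.Agent.Lib.PrimeDim.SU3Model.charP_of_card (p := q) hF
  have h3 : (3 : F) ≠ 0 := fun h => by
    have h' : q ∣ 3 := (CharP.cast_eq_zero_iff F q 3).mp (by exact_mod_cast h)
    have := (Nat.prime_dvd_prime_iff_eq hq Nat.prime_three).mp h'
    omega
  have hcs : ∀ z : R, z ∈ Subgroup.center R → (z : GL (Fin 3) F) ∈ scalars (Fin 3) F := by
    intro z hz
    obtain ⟨c, hc⟩ := habs.2 z.1.val fun s hs => by
      obtain ⟨x, hx, rfl⟩ := mem_matrixSet.mp hs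
      exact congrArg (fun t : R => t.1.val) ((Subgroup.mem_center_iff.mp hz) ⟨x, hx⟩).symm
    have hc0 : c ≠ 0 := fun h0 => z.1.ne_zero (by rw [hc, h0, zero_smul])
    exact (mem_scalars_iff _).mpr ⟨Units.mk0 c hc0, hc⟩
  have hpow : ∀ x ∈ R, x ^ 3 = 1 := by
    intro x hx
    have h : Monoid.exponent R = 3 := hR.exponent_eq.trans (by norm_num)
    have h' := Monoid.pow_exponent_eq_one (⟨x, hx⟩ : R)
    rw [h] at h'
    exact congrArg Subtype.val h'
  -- commutators are central
  have hcomm : ⁅R, R⁆ ≤ scalars (Fin 3) F := by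
    haveI : Fact (Nat.Prime 3) := ⟨Nat.prime_three⟩
    rw [Subgroup.commutator_le]
    intro x hx y hy
    have hQ : Nat.card (R ⧸ Subgroup.center R) = 3 ^ 2 := by
      have h := (Subgroup.center R).card_mul_index
      rw [Subgroup.index, hcen, hcard] at h
      omega
    have h := IsPGroup.commutative_of_card_eq_prime_sq hQ
      (QuotientGroup.mk (⟨x, hx⟩ : R)) (QuotientGroup.mk (⟨y, hy⟩ : R))
    have hm : ⁅(⟨x, hx⟩ : R), ⟨y, hy⟩⁆ ∈ Subgroup.center R := by
      rw [← QuotientGroup.eq_one_iff, ← QuotientGroup.mk'_apply, map_commutatorElement, commutatorElement_eq_one_iff_mul_comm]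
      exact h
    exact hcs _ hm
  have hGU : R ≤ GU 3 F q := by
    intro x hx
    obtain ⟨c, hc⟩ := hsim hx
    set e : Fin 3 → F := Pi.single 0 1 with he
    have hee : hermForm 3 F q e e = 1 := by rw [he, herm_std hF, if_pos rfl]
    have hcpow : ∀ (k : ℕ) u v, hermForm 3 F q ((x ^ k).val *ᵥ u) ((x ^ k).val *ᵥ v) = (c : F) ^ k * hermForm 3 F q u v := by
      intro k
      induction k with
      | zero => intro u v; simp
      | succ k ih =>
        intro u v
        rw [pow_succ' x, Units.val_mul, ← Matrix.mulVec_mulVec, ← Matrix.mulVec_mulVec, hc, ih, pow_succ']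
        ring
    have hc3 : (c : F) ^ 3 = 1 := by
      have h := hcpow 3 e e
      rw [hpow x hx, Units.val_one, Matrix.one_mulVec, hee, mul_one] at h
      exact h.symm
    have hcq : (c : F) ^ q = c := by
      have h := hc e e
      rw [hee, mul_one] at h
      rw [← h]
      exact herm_self_fixed _ hF
    rw [cube_root_pow hmod hc3, sq] at hcq
    have hc1 : (c : F) = 1 := mul_left_cancel₀ c.ne_zero (hcq.trans (mul_one _).symm)
    exact mem_GU_iff.mpr fun u v => by rw [hc, hc1, one_mul]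
  have hdet : R ≤ specialLinear (Fin 3) F := by
    intro x hx
    rw [mem_specialLinear]
    by_cases hxs : x ∈ scalars (Fin 3) F
    · obtain ⟨c, hc⟩ := (mem_scalars_iff x).mp hxs
      have h := congrArg (fun t : GL (Fin 3) F => t.val 0 0) (hpow x hx)
      simp only [Units.val_pow_eq_pow_val, hc, smul_pow, one_pow, Units.val_one] at h
      rw [hc, Matrix.det_smul, Matrix.det_one, mul_one, Fintype.card_fin]
      simpa using h
    obtain ⟨y, hy, hne⟩ : ∃ y ∈ R, y * x ≠ x * y := by
      by_contra! hall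
      exact hxs (hcs ⟨x, hx⟩ (Subgroup.mem_center_iff.mpr fun t => Subtype.ext (hall t.1 t.2)))
    obtain ⟨ω, hω⟩ := (mem_scalars_iff _).mp (hcomm (Subgroup.commutator_mem_commutator hy hx))
    have hω' : (y * x * y⁻¹).val = (ω : F) • x.val := by
      rw [show y * x * y⁻¹ = ⁅y, x⁆ * x by rw [commutatorElement_def]; group, Units.val_mul, hω, Matrix.smul_mul, one_mul]
    have hω1 : (ω : F) ≠ 1 := fun h1 => hne (by
      rw [h1, one_smul] at hω'
      exact mul_inv_eq_iff_eq_mul.mp (Units.ext hω'))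
    have hω3 : (ω : F) ^ 3 = 1 := by
      have h := congrArg (fun t : GL (Fin 3) F => t.val 0 0) (hpow ⁅y, x⁆ (by
        rw [commutatorElement_def]; exact mul_mem (mul_mem (mul_mem hy hx) (inv_mem hy)) (inv_mem hx)))
      simpa [Units.val_pow_eq_pow_val, hω, smul_pow] using h
    have hωs : (ω : F) ^ 2 + ω + 1 = 0 := by
      have h : ((ω : F) - 1) * ((ω : F) ^ 2 + ω + 1) = 0 := by linear_combination hω3
      exact (mul_eq_zero.mp h).resolve_left (sub_ne_zero.mpr hω1)
    -- the Cayley-Hamilton equation and its conjugates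
    set p := x.val.charpoly with hp
    have hdeg : p.natDegree = 3 := by rw [hp, Matrix.charpoly_natDegree_eq_dim, Fintype.card_fin]
    have hc3 : p.coeff 3 = 1 := by
      have := (Matrix.charpoly_monic x.val).coeff_natDegree
      rwa [← hp, hdeg] at this
    have hc0 : p.coeff 0 = -x.val.det := by
      have := Matrix.det_eq_sign_charpoly_coeff x.val
      rw [Fintype.card_fin] at this
      rw [this, ← hp]
      ring
    have hCH : (p.coeff 0 + 1) • (1 : Matrix (Fin 3) (Fin 3) F) + p.coeff 1 • x.val + p.coeff 2 • x.val ^ 2 = 0 := by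
      have h := Matrix.aeval_self_charpoly x.val
      rw [← hp, Polynomial.aeval_eq_sum_range' (show p.natDegree < 4 by omega), Finset.sum_range_succ,
        Finset.sum_range_succ, Finset.sum_range_succ, Finset.sum_range_succ, Finset.sum_range_zero, hc3, pow_zero,
        pow_one, ← Units.val_pow_eq_pow_val x 3, hpow x hx, Units.val_one, zero_add] at h
      rw [← h, add_smul]
      abel
    have hconj : ∀ k : ℕ, (p.coeff 0 + 1) • (1 : Matrix (Fin 3) (Fin 3) F) + (p.coeff 1 * (ω : F) ^ k) • x.val +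
        (p.coeff 2 * ((ω : F) ^ k) ^ 2) • x.val ^ 2 = 0 := by
      intro k
      induction k with
      | zero => simpa using hCH
      | succ k ih =>
        have h := congrArg (fun M => y.val * M * (y⁻¹).val) ih
        have e1 : y.val * x.val * (y⁻¹).val = (ω : F) • x.val := by rw [← hω']; simp
        have e2 : y.val * x.val ^ 2 * (y⁻¹).val = ((ω : F) ^ 2) • x.val ^ 2 := by
          rw [← smul_pow, ← e1, sq, sq]
          simp [mul_assoc]
        simp only [mul_add, add_mul, Matrix.mul_smul, Matrix.smul_mul, mul_one, Units.mul_inv, e1, e2, smul_smul,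
          mul_zero, zero_mul] at h
        rw [← h]
        ring_nf
    have hsum : ((3 : F) * (p.coeff 0 + 1)) • (1 : Matrix (Fin 3) (Fin 3) F) = 0 := by
      have h := congrArg₂ (· + ·) (congrArg₂ (· + ·) (hconj 0) (hconj 1)) (hconj 2)
      simp only [add_zero] at h
      rw [← h]
      have e : ∀ (a b c a' b' c' a'' b'' c'' : F),
          (a • (1 : Matrix (Fin 3) (Fin 3) F) + b • x.val + c • x.val ^ 2) +
              (a' • 1 + b' • x.val + c' • x.val ^ 2) + (a'' • 1 + b'' • x.val + c'' • x.val ^ 2) =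
            (a + a' + a'') • 1 + (b + b' + b'') • x.val + (c + c' + c'') • x.val ^ 2 := by
        intros; simp only [add_smul]; abel
      rw [e, show p.coeff 1 * (ω : F) ^ 0 + p.coeff 1 * (ω : F) ^ 1 + p.coeff 1 * (ω : F) ^ 2 = 0 by
          linear_combination p.coeff 1 * hωs,
        show p.coeff 2 * ((ω : F) ^ 0) ^ 2 + p.coeff 2 * ((ω : F) ^ 1) ^ 2 + p.coeff 2 * ((ω : F) ^ 2) ^ 2 = 0 by
          linear_combination p.coeff 2 * hωs + p.coeff 2 * (ω : F) * hω3,
        zero_smul, zero_smul, add_zero, add_zero]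
      congr 1
      ring
    have h00 := congrFun (congrFun hsum 0) 0
    simp only [Matrix.smul_apply, Matrix.one_apply_eq, Matrix.zero_apply, smul_eq_mul, mul_one] at h00
    rw [hc0] at h00
    have h1 := (mul_eq_zero.mp h00).resolve_left h3
    linear_combination -h1
  exact ⟨hq, hmod, le_inf hGU hdet, habs, hcomm, hcard, hcen⟩

namespace RSetup

variable {R : Subgroup (GL (Fin 3) F)} (h : RSetup q R)
include h

lemma le_normalizer_inf : R ≤ subgroupNormalizer R ⊓ SU3 F q :=
  le_inf Subgroup.le_normalizer h.le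

/-- No abelian subgroup of order at least nine is invariant. -/
lemma no_invariant_abelian (hF : Fintype.card F = q ^ 2) {A : Subgroup (GL (Fin 3) F)} (hA : A ≤ R)
    (hab : ∀ a ∈ A, ∀ b ∈ A, a * b = b * a)
    (hinv : ∀ g ∈ subgroupNormalizer R ⊓ SU3 F q, ∀ a ∈ A, g * a * g⁻¹ ∈ A) (h9 : 9 ≤ Nat.card A) : False := by
  obtain ⟨g, hg, hfpf⟩ := h.exists_fpf hF
  have hle : ∀ (a : GL (Fin 3) F) (ha : a ∈ A), (⟨a, hA ha⟩ : R) ∈ Subgroup.center R := fun a ha =>
    Subgroup.mem_center_iff.mpr fun t =>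
      Subtype.ext (scalar_comm (hfpf a (hA ha) (hab a ha _ (hinv g hg a ha))) t.1).symm
  let φ : A → Subgroup.center R := fun a => ⟨⟨a.1, hA a.2⟩, hle a.1 a.2⟩
  have hφ : Function.Injective φ := fun a b e => Subtype.ext (congrArg (fun t : Subgroup.center R => t.1.1) e)
  have := Nat.card_le_card_of_injective φ hφ
  rw [h.center] at this
  omega

lemma nine_le_of_image {A : Subgroup R} {n : ℕ} (hn : 0 < n) (hdvd : A.index ∣ n) (h9 : ¬ 9 ∣ n) :
    9 ≤ Nat.card A := by
  have hi := A.card_mul_index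
  rw [h.card] at hi
  obtain ⟨k, hk, hk'⟩ := (Nat.dvd_prime_pow Nat.prime_three).mp
    (show A.index ∣ 3 ^ 3 from Dvd.intro_left _ hi)
  have hk1 : k ≤ 1 := by
    by_contra hne
    exact h9 ((pow_dvd_pow 3 (by omega : 2 ≤ k)).trans (hk' ▸ hdvd))
  interval_cases k <;> rw [hk'] at hi <;> omega

lemma not_line {W : Submodule F (Fin 3 → F)} (hW : Module.finrank F W = 1) :
    ¬ subgroupNormalizer R ⊓ SU3 F q ≤ subspaceStabilizer W := by
  intro hle
  have hinv : Invariant R W := fun g hg w hw => by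
    have hg' := hle (h.le_normalizer_inf hg)
    obtain ⟨v, hv, hv0, hspan⟩ := exists_line_vec hW
    obtain ⟨a, ha⟩ := stab_eigen hg' hspan
    rw [hspan, Submodule.mem_span_singleton] at hw
    obtain ⟨l, rfl⟩ := hw
    rw [Matrix.mulVec_smul, ha]
    exact W.smul_mem _ (W.smul_mem _ hv)
  rcases irred_iff.mp h.abs.1 W hinv with e | e
  · rw [e, finrank_bot] at hW; omega
  · rw [e, finrank_top, Module.finrank_fin_fun] at hW; omega

lemma not_frame (hF : Fintype.card F = q ^ 2) {D : Fin 3 → Submodule F (Fin 3 → F)}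
    (hD : IsNondegenerateMDecomposition (hermForm 3 F q) 1 D) :
    ¬ subgroupNormalizer R ⊓ SU3 F q ≤ decompositionStabilizer D := by
  classical
  intro hle
  obtain ⟨U, hU, hDU⟩ := exists_frame_U hF hD
  have hRD : R ≤ decompositionStabilizer D := h.le_normalizer_inf.trans hle
  choose σ hσ using fun x : R => hRD x.2
  have hinjD : ∀ i j, D i = D j → i = j := by
    intro i j e
    have hm : U.val *ᵥ Pi.single i 1 ∈ D j := e ▸ hDU i ▸ Submodule.mem_span_singleton_self _
    rw [hDU j, Submodule.mem_span_singleton] at hm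
    obtain ⟨a, ha⟩ := hm
    have h' := congrArg (fun z => ((U⁻¹).val *ᵥ z) i) ha
    simp only [Matrix.mulVec_smul, inv_mulVec_cancel, Pi.smul_apply, smul_eq_mul, Pi.single_eq_same] at h'
    by_contra hne
    rw [Pi.single_eq_of_ne hne, mul_zero] at h'
    exact zero_ne_one h'
  have hmap : ∀ (a b : GL (Fin 3) F) (S : Submodule F (Fin 3 → F)),
      S.map (Matrix.toLin' (a * b).val) = (S.map (Matrix.toLin' b.val)).map (Matrix.toLin' a.val) := by
    intro a b S
    rw [← Submodule.map_comp, ← Matrix.toLin'_mul, Units.val_mul]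
  let φ : R →* Equiv.Perm (Fin 3) := MonoidHom.mk' σ fun x y => Equiv.ext fun i => hinjD _ _ (by
    rw [Equiv.Perm.mul_apply, ← hσ (x * y) i, ← hσ x, ← hσ y, ← hmap]; rfl)
  have h9 := h.nine_le_of_image (A := φ.ker) (n := Nat.card (Equiv.Perm (Fin 3))) Nat.card_pos
    (by rw [Subgroup.index_ker]; exact Subgroup.card_subgroup_dvd_card _)
    (by rw [Nat.card_perm, Nat.card_eq_fintype_card (α := Fin 3), Fintype.card_fin]; decide)
  have heig : ∀ x : R, x ∈ φ.ker → ∀ j, ∃ l : F, x.1.val *ᵥ (U.val *ᵥ Pi.single j 1) = l • (U.val *ᵥ Pi.single j 1) := by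
    intro x hx j
    have hσ1 : σ x = 1 := hx
    have hm : x.1.val *ᵥ (U.val *ᵥ Pi.single j 1) ∈ D j := by
      have e := hσ x j
      rw [hσ1, Equiv.Perm.one_apply] at e
      exact e.le ⟨_, hDU j ▸ Submodule.mem_span_singleton_self _, by simp⟩
    rw [hDU j, Submodule.mem_span_singleton] at hm
    obtain ⟨l, hl⟩ := hm
    exact ⟨l, hl.symm⟩
  refine h.no_invariant_abelian hF (A := φ.ker.map R.subtype) (Subgroup.map_subtype_le _) ?_ ?_ ?_
  · rintro _ ⟨a, ha, rfl⟩ _ ⟨b, hb, rfl⟩
    refine U_ext U fun j => ?_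
    obtain ⟨l, hl⟩ := heig a ha j
    obtain ⟨m, hm⟩ := heig b hb j
    show (a.1 * b.1).val *ᵥ _ = (b.1 * a.1).val *ᵥ _
    rw [Units.val_mul, Units.val_mul, ← Matrix.mulVec_mulVec, ← Matrix.mulVec_mulVec, hl, hm, Matrix.mulVec_smul,
      Matrix.mulVec_smul, hl, hm, smul_smul, smul_smul, mul_comm]
  · rintro g hg _ ⟨a, ha, rfl⟩
    have hgR : g * a.1 * g⁻¹ ∈ R := (Subgroup.mem_normalizer_iff.mp hg.1 _).mp a.2
    refine ⟨⟨_, hgR⟩, ?_, rfl⟩
    obtain ⟨τ, hτ⟩ := hle hg
    have ha1 : σ a = 1 := ha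
    show σ ⟨g * a.1 * g⁻¹, hgR⟩ = 1
    refine Equiv.ext fun i => hinjD _ _ ?_
    rw [← hσ ⟨g * a.1 * g⁻¹, hgR⟩ i, Equiv.Perm.one_apply]
    obtain ⟨j, rfl⟩ := τ.surjective i
    rw [← hτ j, ← hmap, inv_mul_cancel_right, hmap, hσ a j, ha1, Equiv.Perm.one_apply]
  · rwa [Nat.card_congr (φ.ker.equivMapOfInjective _ R.subtype_injective).toEquiv.symm]

lemma not_field (hF : Fintype.card F = q ^ 2) {K : Subalgebra F (Matrix (Fin 3) (Fin 3) F)}
    (hK : IsFieldSubalgebra 3 K) : ¬ subgroupNormalizer R ⊓ SU3 F q ≤ subalgebraNormalizer K := by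
  classical
  intro hle
  have hRK : R ≤ subalgebraNormalizer K := h.le_normalizer_inf.trans hle
  letI := (Cfsg.Agent.Lib.PrimeDim.SU3Field.isField_of hK).toField
  haveI : Finite K := inferInstance
  haveI : IsGalois F K := inferInstance
  let ψ : R → (K →ₐ[F] K) := fun x =>
    { toFun := fun k => ⟨x.1.val * k.1 * (x.1⁻¹).val, (hRK x.2 k.1).mp k.2⟩
      map_one' := Subtype.ext (by simp)
      map_mul' := fun a b => Subtype.ext (by simp [mul_assoc])
      map_zero' := Subtype.ext (by simp)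
      map_add' := fun a b => Subtype.ext (by simp [mul_add, add_mul])
      commutes' := fun r => Subtype.ext (by
        show x.1.val * algebraMap F (Matrix (Fin 3) (Fin 3) F) r * (x.1⁻¹).val = _
        rw [← Algebra.commutes, mul_assoc, Units.mul_inv, mul_one]
        rfl) }
  let φ : R →* (K ≃ₐ[F] K) := MonoidHom.mk'
    (fun x => AlgEquiv.ofBijective (ψ x) (Finite.injective_iff_bijective.mp (ψ x).toRingHom.injective))
    (fun x y => AlgEquiv.ext fun k => Subtype.ext (by
      show (x * y).1.val * k.1 * ((x * y).1⁻¹).val = x.1.val * (y.1.val * k.1 * (y.1⁻¹).val) * (x.1⁻¹).val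
      simp [mul_assoc]))
  have hfr : Nat.card (K ≃ₐ[F] K) = 3 := by
    rw [IsGalois.card_aut_eq_finrank]; exact hK.finrank_eq
  have h9 := h.nine_le_of_image (A := φ.ker) (n := 3) (by norm_num)
    (by rw [Subgroup.index_ker]; exact (Subgroup.card_subgroup_dvd_card φ.range).trans (dvd_of_eq hfr)) (by norm_num)
  have hcomm : ∀ x : R, x ∈ φ.ker → ∀ k ∈ K, x.1.val * k = k * x.1.val := by
    intro x hx k hk
    have e : x.1.val * k * (x.1⁻¹).val = k := congrArg (fun f : K ≃ₐ[F] K => (f ⟨k, hk⟩).1) hx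
    conv_rhs => rw [← e, mul_assoc _ _ x.1.val, Units.inv_mul, mul_one]
  have hmem : ∀ x : R, x ∈ φ.ker → x.1.val ∈ K := by
    intro x hx
    set v : Fin 3 → F := Pi.single 0 1 with hv
    have hv0 : v ≠ 0 := by simp [hv]
    let L : K →ₗ[F] (Fin 3 → F) :=
      { toFun := fun k => k.1 *ᵥ v
        map_add' := fun a b => by simp [Matrix.add_mulVec]
        map_smul' := fun r a => by simp [Matrix.smul_mulVec] }
    have hinj : Function.Injective L := by
      rw [← LinearMap.ker_eq_bot, eq_bot_iff]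
      intro k hk
      rw [Submodule.mem_bot]
      by_contra hne
      obtain ⟨y, -, hy⟩ := hK.inv k.1 k.2 (fun h => hne (Subtype.ext h))
      exact hv0 (by rw [← Matrix.one_mulVec v, ← mul_eq_one_comm.mp hy, ← Matrix.mulVec_mulVec,
        show k.1 *ᵥ v = 0 from hk, Matrix.mulVec_zero])
    obtain ⟨k, hk⟩ := (LinearMap.injective_iff_surjective_of_finrank_eq_finrank
      (by rw [hK.finrank_eq, Module.finrank_fin_fun])).mp hinj (x.1.val *ᵥ v)
    have hk' : k.1 *ᵥ v = x.1.val *ᵥ v := hk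
    have hdiff : x.1.val - k.1 = (0 : F) • 1 := by
      refine scalar_of_field_eigen hK (fun k' hk'' => ?_) hv0 (l := (0 : F)) (by
        rw [Matrix.sub_mulVec, hk', sub_self, zero_smul])
      have hkk : k.1 * k' = k' * k.1 := congrArg Subtype.val (mul_comm k ⟨k', hk''⟩)
      rw [sub_mul, mul_sub, hcomm x hx k' hk'', hkk]
    rw [zero_smul, sub_eq_zero] at hdiff
    rw [hdiff]
    exact k.2
  refine h.no_invariant_abelian hF (A := φ.ker.map R.subtype) (Subgroup.map_subtype_le _) ?_ ?_ ?_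
  · rintro _ ⟨a, ha, rfl⟩ _ ⟨b, hb, rfl⟩
    exact Units.ext (hcomm a ha _ (hmem b hb))
  · rintro g hg _ ⟨a, ha, rfl⟩
    have hgR : g * a.1 * g⁻¹ ∈ R := (Subgroup.mem_normalizer_iff.mp hg.1 _).mp a.2
    refine ⟨⟨_, hgR⟩, AlgEquiv.ext fun k => Subtype.ext ?_, rfl⟩
    show (g * a.1 * g⁻¹).val * k.1 * ((g * a.1 * g⁻¹)⁻¹).val = k.1
    have hk' : (g⁻¹).val * k.1 * g.val ∈ K := by simpa using ((inv_mem (hle hg)) k.1).mp k.2
    have e := congrArg (fun M => g.val * M * (g⁻¹).val) (hcomm a ha _ hk')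
    simp only [mul_assoc, Units.mul_inv, Units.mul_inv_cancel_left] at e
    simp only [mul_inv_rev, inv_inv, Units.val_mul]
    calc g.val * a.1.val * (g⁻¹).val * k.1 * (g.val * ((a.1⁻¹).val * (g⁻¹).val))
        = g.val * (a.1.val * ((g⁻¹).val * k.1 * g.val)) * ((a.1⁻¹).val * (g⁻¹).val) := by simp [mul_assoc]
      _ = g.val * (((g⁻¹).val * k.1 * g.val) * a.1.val) * ((a.1⁻¹).val * (g⁻¹).val) := by rw [hcomm a ha _ hk']
      _ = k.1 := by simp [mul_assoc]
  · rwa [Nat.card_congr (φ.ker.equivMapOfInjective _ R.subtype_injective).toEquiv.symm]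

lemma not_subfield (hF : Fintype.card F = q ^ 2) {F₀ : Subfield F} {r : ℕ} (hr : r.Prime)
    (hcase : Odd r ∨ (r = 2 ∧ Odd q)) (hcard : Fintype.card F = Nat.card F₀ ^ r) (P : GL (Fin 3) F) :
    ¬ subgroupNormalizer R ⊓ SU3 F q ≤ subfieldSubgroup F₀ P := by
  intro hle
  rcases hcase with ho | ⟨rfl, -⟩
  · exact prime_no_odd_index hF h.prime ho hr hcard
  have hFQ : Nat.card F₀ = q := Nat.pow_left_injective two_ne_zero (hcard.symm.trans hF)
  obtain ⟨X, hX, Y, hY, hXY⟩ := h.exists_noncomm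
  obtain ⟨ω, hω⟩ := (mem_scalars_iff _).mp (h.comm (Subgroup.commutator_mem_commutator hX hY))
  obtain ⟨z, a, ha⟩ := subfield_repr (hle (h.le_normalizer_inf hX))
  obtain ⟨w, b, hb⟩ := subfield_repr (hle (h.le_normalizer_inf hY))
  set f := F₀.subtype.mapMatrix (m := Fin 3) with hf
  have key : (P⁻¹ * (X * Y) * P : GL (Fin 3) F).val = (ω : F) • (P⁻¹ * (Y * X) * P : GL (Fin 3) F).val := by
    rw [show X * Y = ⁅X, Y⁆ * (Y * X) by rw [commutatorElement_def]; group, Units.val_mul, Units.val_mul,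
      Units.val_mul _ (Y * X), hω, Units.val_mul, Units.val_mul, Units.val_mul]
    simp [Matrix.smul_mul, Matrix.mul_smul]
  have e1 : (P⁻¹ * (X * Y) * P : GL (Fin 3) F).val = ((z : F) * w) • f (a.val * b.val) := by
    rw [show P⁻¹ * (X * Y) * P = (P⁻¹ * X * P) * (P⁻¹ * Y * P) by group, Units.val_mul, ha, hb, Matrix.smul_mul,
      Matrix.mul_smul, smul_smul, map_mul]
  have e2 : (P⁻¹ * (Y * X) * P : GL (Fin 3) F).val = ((z : F) * w) • f (b.val * a.val) := by
    rw [show P⁻¹ * (Y * X) * P = (P⁻¹ * Y * P) * (P⁻¹ * X * P) by group, Units.val_mul, ha, hb, Matrix.smul_mul,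
      Matrix.mul_smul, smul_smul, map_mul, mul_comm (w : F) z]
  rw [e1, e2, smul_comm] at key
  have key' := smul_right_injective (Matrix (Fin 3) (Fin 3) F) (mul_ne_zero z.ne_zero w.ne_zero) key
  obtain ⟨i, j, hij⟩ : ∃ i j, (b.val * a.val) i j ≠ 0 := by
    by_contra! h0
    exact (b * a).ne_zero (by rw [Units.val_mul]; exact Matrix.ext h0)
  have e3 := congrFun (congrFun key' i) j
  simp only [hf, RingHom.mapMatrix_apply, Matrix.map_apply, Matrix.smul_apply, smul_eq_mul] at e3
  have hω0 : (ω : F) ∈ F₀ := by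
    have hne : F₀.subtype ((b.val * a.val) i j) ≠ 0 := fun e => hij (F₀.subtype.injective (e.trans (map_zero _).symm))
    rw [← mul_div_cancel_right₀ (ω : F) hne, ← e3]
    exact div_mem (Subtype.property _) (Subtype.property _)
  rw [mem_subfield_iff, hFQ] at hω0
  have hω3 : (ω : F) ^ 3 = 1 := by
    have e := congrArg (fun t : GL (Fin 3) F => t.val 0 0) (h.pow_three (show ⁅X, Y⁆ ∈ R by
      rw [commutatorElement_def]; exact mul_mem (mul_mem (mul_mem hX hY) (inv_mem hX)) (inv_mem hY)))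
    simpa [Units.val_pow_eq_pow_val, hω, smul_pow] using e
  rw [cube_root_pow h.mod hω3, sq] at hω0
  have hω1 : (ω : F) = 1 := mul_left_cancel₀ ω.ne_zero (hω0.trans (mul_one _).symm)
  rw [hω1, one_smul] at hω
  have : ⁅X, Y⁆ = 1 := Units.ext (by rw [hω, Units.val_one])
  exact hXY (commutatorElement_eq_one_iff_mul_comm.mp this)

lemma eq_of_le_normalizer (hF : Fintype.card F = q ^ 2) {R' : Subgroup (GL (Fin 3) F)} (h' : RSetup q R')
    (hle : subgroupNormalizer R ⊓ SU3 F q ≤ subgroupNormalizer R') : R = R' := by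
  classical
  by_contra hne
  set X := (subgroupNormalizer R' ⊓ SU3 F q : Subgroup (GL (Fin 3) F)) with hX
  have hRX : R ≤ X := le_inf (h.le_normalizer_inf.trans hle) h.le
  haveI : (R'.subgroupOf X).Normal := by
    refine ⟨fun n hn g => ?_⟩
    exact (Subgroup.mem_normalizer_iff.mp g.2.1 _).mp hn
  let φ : R →* X ⧸ R'.subgroupOf X := (QuotientGroup.mk' _).comp (Subgroup.inclusion hRX)
  have hidx : (R'.subgroupOf X).index ∣ 24 := by
    have hR'X : R' ≤ X := h'.le_normalizer_inf
    have e := (R'.subgroupOf X).card_mul_index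
    rw [Nat.card_congr (Subgroup.subgroupOfEquivOfLe hR'X).toEquiv, h'.card] at e
    have hd : 27 * (R'.subgroupOf X).index ∣ 27 * 24 := by rw [e]; exact h'.card_dvd
    exact Nat.dvd_of_mul_dvd_mul_left (by norm_num) hd
  have h9 := h.nine_le_of_image (A := φ.ker) (n := 24) (by norm_num)
    (by rw [Subgroup.index_ker]; exact (Subgroup.card_subgroup_dvd_card _).trans hidx) (by norm_num)
  have hmem : ∀ x : R, x ∈ φ.ker ↔ x.1 ∈ R' := fun x => by
    rw [MonoidHom.mem_ker]
    exact QuotientGroup.eq_one_iff _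
  have hA : φ.ker.map R.subtype = R ⊓ R' := by
    ext t
    constructor
    · rintro ⟨a, ha, rfl⟩
      exact ⟨a.2, (hmem a).mp ha⟩
    · rintro ⟨ht, ht'⟩
      exact ⟨⟨t, ht⟩, (hmem _).mpr ht', rfl⟩
  refine h.no_invariant_abelian hF (A := R ⊓ R') inf_le_left ?_ ?_ ?_
  · intro a ha b hb
    by_contra hab
    have he := h.eq_of_noncomm inf_le_left ha hb hab
    exact hne (Subgroup.eq_of_le_of_card_ge (he ▸ inf_le_right) (by rw [h.card, h'.card]))
  · intro g hg a ha
    exact ⟨(Subgroup.mem_normalizer_iff.mp hg.1 _).mp ha.1, (Subgroup.mem_normalizer_iff.mp (hle hg) _).mp ha.2⟩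
  · rw [← hA]
    rwa [Nat.card_congr (φ.ker.equivMapOfInjective _ R.subtype_injective).toEquiv.symm]

end RSetup

end Cfsg.Agent.Lib.SU3Max96
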