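import Cfsg.Agent.Lib.SU3Max96.ResidualLines
import Cfsg.Agent.Lib.SU3Max96.RMember
import Cfsg.Agent.Lib.SU3Max96.Field

set_option autoImplicit false
set_option linter.style.haveILetI false
set_option linter.unusedSectionVars false
set_option linter.unusedVariables false

/-!
Geometric members lie in no subgroup of the residual class.
-/

namespace Cfsg.Agent.Lib.SU3Max96

open Cfsg.Geo Cfsg.Agent.Lib.PrimeDim.Basic Cfsg.Agent.Lib.PrimeDim.Fields Cfsg.Agent.Lib.PrimeDim.Unitary
open Cfsg.Agent.Lib.PrimeDim.UnitaryBase Cfsg.Agent.Lib.PrimeDim.Symplectic Cfsg.Agent.Lib.Unitary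
open Cfsg.Agent.Lib.SU3Max96.SmallAut
open scoped Matrix MatrixGroups commutatorElement

variable {F : Type*} [Field F] [Fintype F] {q : ℕ}

/-- An element of order five conjugate to its square is trivial. -/
lemma eq_one_of_conj_sq {u h : GL (Fin 3) F} (h3 : (3 : F) ≠ 0) (h5 : (5 : F) ≠ 0) (hdet : u.val.det = 1)
    (hu : u ^ 5 = 1) (hconj : h * u * h⁻¹ = u ^ 2) : u = 1 := by
  have htr : ∀ k : ℕ, (u ^ (2 * k)).val.trace = (u ^ k).val.trace := by
    intro k
    rw [pow_mul, ← hconj, conj_pow, Units.val_mul, Units.val_mul, Matrix.trace_mul_cycle, Units.inv_mul, one_mul]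
  set T := u.val.trace with hT
  have t2 : (u.val ^ 2).trace = T := by
    rw [← Units.val_pow_eq_pow_val]; simpa using htr 1
  have t4 : (u.val ^ 4).trace = T := by
    have := htr 2
    rw [Units.val_pow_eq_pow_val, Units.val_pow_eq_pow_val, t2] at this
    exact this
  have t3 : (u.val ^ 3).trace = T := by
    have h' := htr 4
    rw [show 2 * 4 = 5 + 3 from rfl, pow_add, hu, one_mul, Units.val_pow_eq_pow_val, Units.val_pow_eq_pow_val, t4]
      at h'
    exact h'
  have t5 : (u.val ^ 5).trace = 3 := by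
    rw [← Units.val_pow_eq_pow_val, hu, Units.val_one, Matrix.trace_one, Fintype.card_fin]
    norm_num
  set p := u.val.charpoly with hp
  have hdeg : p.natDegree = 3 := by rw [hp, Matrix.charpoly_natDegree_eq_dim, Fintype.card_fin]
  have hc3 : p.coeff 3 = 1 := by
    have := (Matrix.charpoly_monic u.val).coeff_natDegree
    rwa [← hp, hdeg] at this
  have hc0 : p.coeff 0 = -1 := by
    have := Matrix.det_eq_sign_charpoly_coeff u.val
    rw [Fintype.card_fin, hdet, ← hp] at this
    linear_combination this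
  have hc2 : p.coeff 2 = -T := by
    have := Matrix.trace_eq_neg_charpoly_coeff u.val
    rw [Fintype.card_fin, ← hp, ← hT] at this
    linear_combination this
  set b := p.coeff 1 with hb
  have hCH : -(1 : Matrix (Fin 3) (Fin 3) F) + b • u.val + (-T) • u.val ^ 2 + u.val ^ 3 = 0 := by
    have h' := Matrix.aeval_self_charpoly u.val
    rw [← hp, Polynomial.aeval_eq_sum_range' (show p.natDegree < 4 by omega), Finset.sum_range_succ,
      Finset.sum_range_succ, Finset.sum_range_succ, Finset.sum_range_succ, Finset.sum_range_zero, hc3, hc0, hc2,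
      pow_zero, pow_one, one_smul, neg_one_smul, zero_add, ← hb] at h'
    exact h'
  have e0 := congrArg Matrix.trace hCH
  have e1 := congrArg (fun M => (u.val * M).trace) hCH
  have e2 := congrArg (fun M => (u.val * (u.val * M)).trace) hCH
  simp only [mul_add, Matrix.mul_smul, mul_neg, mul_one, ← pow_succ', ← sq, mul_zero, Matrix.trace_add,
    Matrix.trace_smul, Matrix.trace_neg, Matrix.trace_one, Matrix.trace_zero, Fintype.card_fin, smul_eq_mul,
    Nat.cast_ofNat, ← hT, t2, t3, t4, t5] at e0 e1 e2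
  have hT3 : T = 3 := by linear_combination e0 - e1
  have hb3 : b = 3 := by
    have h' : (3 : F) * (b - 3) = 0 := by rw [hT3] at e0; linear_combination e0
    exact sub_eq_zero.mp ((mul_eq_zero.mp h').resolve_left h3)
  set N := u.val - 1 with hN
  have huN : u.val = 1 + N := by rw [hN]; abel
  have hN3 : N ^ 3 = 0 := by
    rw [hT3, hb3] at hCH
    rw [← hCH, hN]
    have e3 : (3 : F) • u.val = 3 * u.val := by rw [Algebra.smul_def, map_ofNat]
    have e3' : (-3 : F) • u.val ^ 2 = -(3 * u.val ^ 2) := by rw [neg_smul, Algebra.smul_def, map_ofNat]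
    rw [e3, e3']
    noncomm_ring
  have e5 : (5 : F) • N + (10 : F) • N ^ 2 = 0 := by
    have h' : (u ^ 5).val = 1 := by rw [hu, Units.val_one]
    rw [Units.val_pow_eq_pow_val, huN] at h'
    have e : (1 + N) ^ 5 = 1 + 5 * N + 10 * N ^ 2 + N ^ 3 * (10 + 5 * N + N ^ 2) := by noncomm_ring
    rw [e, hN3, zero_mul, add_zero, add_assoc, add_eq_left] at h'
    rw [← h', Algebra.smul_def, Algebra.smul_def, map_ofNat, map_ofNat]
  have hN2 : N ^ 2 = 0 := by
    have h' := congrArg (fun M => M * N) e5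
    simp only [add_mul, Matrix.smul_mul, zero_mul, ← pow_succ, ← sq, hN3, smul_zero, add_zero] at h'
    exact (smul_eq_zero.mp h').resolve_left h5
  rw [hN2, smul_zero, add_zero] at e5
  have hN1 := (smul_eq_zero.mp e5).resolve_left h5
  exact Units.ext (by rw [huN, hN1, add_zero, Units.val_one])

/-- The hypotheses on a maximal subgroup of the residual class. -/
structure ResidualData (q : ℕ) (X P : Subgroup (GL (Fin 3) F)) : Prop where
  prime : q.Prime
  le : X ≤ SU3 F q
  core : IsResidualCore X P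
  types : CoreTypes q P

namespace ResidualData

variable {X P : Subgroup (GL (Fin 3) F)} (h : ResidualData q X P)
include h

lemma aut_cases :
    (Nat.card (MulAut (Socle P)) ∣ 336 ∧ q ≠ 5 ∧ (q % 7 = 3 ∨ q % 7 = 5 ∨ q % 7 = 6)) ∨
    (Nat.card (MulAut (Socle P)) ∣ 1440 ∧ (q % 15 = 11 ∨ q % 15 = 14 ∨ q = 5)) ∨
    (Nat.card (MulAut (Socle P)) ∣ 5040 ∧ q = 5) := by
  rcases h.types with ⟨⟨e⟩, h1⟩ | ⟨⟨e⟩, h1⟩ | ⟨⟨e⟩, h1⟩
  · exact Or.inl ⟨by rw [Nat.card_congr (MulAut.congr e).toEquiv]; exact card_mulAut_L32, h1⟩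
  · exact Or.inr (Or.inl ⟨by rw [Nat.card_congr (MulAut.congr e).toEquiv]; exact card_mulAut_A6, h1⟩)
  · exact Or.inr (Or.inr ⟨by rw [Nat.card_congr (MulAut.congr e).toEquiv]; exact card_mulAut_A7, h1⟩)

lemma small_prime {M : Subgroup (GL (Fin 3) F)} (hM : M ≤ X) (hq : q ∣ Nat.card M) : q ≤ 7 := by
  have h1 : q ∣ 3 * 30240 := by
    refine hq.trans ((Residual.card_dvd h.core h.le hM).trans (mul_dvd_mul_left 3 ?_))
    rcases h.aut_cases with ⟨e, -⟩ | ⟨e, -⟩ | ⟨e, -⟩ <;> exact e.trans (by norm_num)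
  rw [show 3 * 30240 = 2 ^ 5 * (3 ^ 4 * (5 * 7)) by norm_num] at h1
  rcases (Nat.Prime.dvd_mul h.prime).mp h1 with e | e
  · exact (Nat.le_of_dvd (by norm_num) (h.prime.dvd_of_dvd_pow e)).trans (by norm_num)
  rcases (Nat.Prime.dvd_mul h.prime).mp e with e | e
  · exact (Nat.le_of_dvd (by norm_num) (h.prime.dvd_of_dvd_pow e)).trans (by norm_num)
  rcases (Nat.Prime.dvd_mul h.prime).mp e with e | e
  · exact (Nat.le_of_dvd (by norm_num) e).trans (by norm_num)
  · exact Nat.le_of_dvd (by norm_num) e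

lemma three_or_five (h3 : 3 ≤ q) (h7 : q ≤ 7) : q = 3 ∨ q = 5 := by
  have hp := h.prime
  rcases h.types with ⟨-, -, e⟩ | ⟨-, e⟩ | ⟨-, e⟩
  · interval_cases q <;> first | omega | exact absurd hp (by norm_num)
  · omega
  · omega

lemma eleven_le (h3 : q ≠ 3) (h5 : q ≠ 5) : 11 ≤ q := by
  have hp := h.prime
  have h2 := hp.two_le
  by_contra hlt
  rcases h.types with ⟨-, -, e⟩ | ⟨-, e⟩ | ⟨-, e⟩
  · interval_cases q <;> first | omega | exact absurd hp (by norm_num)
  · omega
  · omega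

lemma index_dvd {n N : ℕ} (hn : 5 ≤ n) (hN : Nat.card (MulAut (alternatingGroup (Fin n))) ∣ N) :
    Nat.card (alternatingGroup (Fin n)) *
      (MulAut.conj : alternatingGroup (Fin n) →* MulAut (alternatingGroup (Fin n))).range.index ∣ N := by
  rw [Nat.card_congr (MonoidHom.ofInjective (conj_injective_alt hn)).toEquiv, Subgroup.card_mul_index]
  exact hN

lemma ten_false (hF : Fintype.card F = q ^ 2) (h5 : q = 5) {n : ℕ} (hn : 5 ≤ n) (hn7 : n ≤ 7)
    (e : Socle P ≃* alternatingGroup (Fin n))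
    (hidx : Nat.Coprime 5 (MulAut.conj : alternatingGroup (Fin n) →* MulAut (alternatingGroup (Fin n))).range.index)
    {W : Submodule F (Fin 3 → F)} (hW : Module.finrank F W = 1)
    (hns : ¬ IsTotallySingularFor (hermForm 3 F q) W) (hle : subspaceStabilizer W ⊓ SU3 F q ≤ X) : False := by
  classical
  subst h5
  haveI : Fact (Nat.Prime 5) := ⟨by norm_num⟩
  haveI := Cfsg.Agent.Lib.PrimeDim.SU3Model.charP_of_card (p := 5) hF
  obtain ⟨x, z, v, w, hx, hz, hx5, hz5, hy5, hy10, hmv, hmw, hv0, hw0, hx2, hy2⟩ := exists_ten hF rfl hW hns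
  set Ψ := Residual.modelHom h.core e with hΨ
  set x' : X := ⟨x, hle hx⟩ with hx'
  set z' : X := ⟨z, hle hz⟩ with hz'
  obtain ⟨a, ha⟩ := inner_of_coprime (α := Ψ x') (k := 5)
    (by rw [← map_pow, show x' ^ 5 = 1 from Subtype.ext hx5, map_one]) hidx
  obtain ⟨b, hb⟩ := inner_of_coprime (α := Ψ z') (k := 5)
    (by rw [← map_pow, show z' ^ 5 = 1 from Subtype.ext hz5, map_one]) hidx
  set s := (a * b * a) ^ 2 * a with hs
  have hy : Ψ ((x' * z' * x') ^ 2 * x') = MulAut.conj s := by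
    simp only [hs, map_mul, map_pow, ha, hb]
  have hs10 : s ^ 10 = 1 := by
    apply conj_injective_alt hn
    rw [map_pow, ← hy, ← map_pow, map_one,
      show ((x' * z' * x') ^ 2 * x') ^ 10 = 1 from Subtype.ext (by simpa [x', z'] using hy10), map_one]
  have hs5 : s ^ 5 ≠ 1 := by
    intro e1
    have h1 : Ψ (((x' * z' * x') ^ 2 * x') ^ 5) = 1 := by rw [map_pow, hy, ← map_pow, e1, map_one]
    rw [hΨ, Residual.modelHom_eq_one] at h1
    obtain ⟨c, hc⟩ := (mem_scalars_iff _).mp h1
    have hval : (((x' * z' * x') ^ 2 * x') ^ 5 : X).1 = (x * z * x) ^ 2 := by simpa [x', z'] using hy5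
    rw [hval] at hc
    rw [hc, Matrix.smul_mulVec, Matrix.one_mulVec] at hmv hmw
    have hc1 : (c : F) = 1 := smul_left_injective F hw0 (hmw.trans (one_smul F w).symm)
    rw [hc1, one_smul] at hmv
    have h2 : (2 : F) • v = 0 := by rw [two_smul]; nth_rw 2 [hmv]; exact add_neg_cancel v
    have h2' : (2 : F) ≠ 0 := fun e2 => by
      have := (CharP.cast_eq_zero_iff F 5 2).mp (by exact_mod_cast e2)
      omega
    exact hv0 ((smul_eq_zero.mp h2).resolve_left h2')
  have hs2 : s ^ 2 ≠ 1 := by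
    intro e1
    have h1 : Ψ (((x' * z' * x') ^ 2 * x') ^ 2) = 1 := by rw [map_pow, hy, ← map_pow, e1, map_one]
    rw [hΨ, Residual.modelHom_eq_one] at h1
    have hval : (((x' * z' * x') ^ 2 * x') ^ 2 : X).1 = x ^ 2 := by simpa [x', z'] using hy2
    exact hx2 (hval ▸ h1)
  have hd : orderOf s ∣ 10 := orderOf_dvd_of_pow_eq_one hs10
  have hne5 : ¬ orderOf s ∣ 5 := fun e1 => hs5 (orderOf_dvd_iff_pow_eq_one.mp e1)
  have hne2 : ¬ orderOf s ∣ 2 := fun e1 => hs2 (orderOf_dvd_iff_pow_eq_one.mp e1)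
  have hmem : orderOf s ∈ Nat.divisors 10 := Nat.mem_divisors.mpr ⟨hd, by norm_num⟩
  rw [show Nat.divisors 10 = {1, 2, 5, 10} by decide] at hmem
  simp only [Finset.mem_insert, Finset.mem_singleton] at hmem
  rcases hmem with e1 | e1 | e1 | e1
  · exact hne5 (e1 ▸ one_dvd _)
  · exact hne2 (e1 ▸ dvd_rfl)
  · exact hne5 (e1 ▸ dvd_rfl)
  · exact orderOf_ne_ten (by rwa [Fintype.card_fin]) s e1

theorem no_line (hF : Fintype.card F = q ^ 2) (h3 : 3 ≤ q) {W : Submodule F (Fin 3 → F)}
    (hW : Module.finrank F W = 1) : ¬ subspaceStabilizer W ⊓ SU3 F q ≤ X := by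
  intro hle
  haveI := Fact.mk h.prime
  haveI := Cfsg.Agent.Lib.PrimeDim.SU3Model.charP_of_card (p := q) hF
  rcases h.three_or_five h3 (h.small_prime hle (line_prime_dvd hF hW)) with hq | hq
  · have h336 : Nat.card (subspaceStabilizer W ⊓ SU3 F q : Subgroup (GL (Fin 3) F)) ∣ 336 := by
      haveI : CharP F 3 := by subst hq; assumption
      refine (Residual.card_dvd_char_three h.core h.le hle).trans ?_
      rcases h.aut_cases with ⟨e, -⟩ | ⟨-, e⟩ | ⟨-, e⟩
      · exact e
      · omega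
      · omega
    by_cases hs : IsTotallySingularFor (hermForm 3 F q) W
    · have h9 := (line_sq_dvd hF h3 hW hs).trans h336
      have hq9 : q ^ 2 = 9 := by subst hq; norm_num
      rw [hq9] at h9
      omega
    · have h32 := (line_thirtytwo_dvd hF hq hW hs).trans h336
      omega
  · by_cases hs : IsTotallySingularFor (hermForm 3 F q) W
    · have h25 := (line_sq_dvd hF h3 hW hs).trans (Residual.card_dvd h.core h.le hle)
      have hq25 : q ^ 2 = 25 := by subst hq; norm_num
      rw [hq25] at h25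
      rcases h.aut_cases with ⟨-, e, -⟩ | ⟨e, -⟩ | ⟨e, -⟩
      · exact e hq
      · have := h25.trans (mul_dvd_mul_left 3 e); omega
      · have := h25.trans (mul_dvd_mul_left 3 e); omega
    · rcases h.types with ⟨-, e, -⟩ | ⟨⟨e⟩, -⟩ | ⟨⟨e⟩, -⟩
      · exact e hq
      · refine h.ten_false hF hq (by norm_num) (by norm_num) e ?_ hW hs hle
        have hc : Nat.card (alternatingGroup (Fin 6)) = 360 := by
          rw [nat_card_alternatingGroup, Nat.card_eq_fintype_card, Fintype.card_fin]; rfl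
        have hi := h.index_dvd (show 5 ≤ 6 by norm_num) card_mulAut_A6
        rw [hc] at hi
        exact Nat.Coprime.coprime_dvd_right (Nat.dvd_of_mul_dvd_mul_left (by norm_num) (show 360 * _ ∣ 360 * 4 from hi))
          (by norm_num)
      · refine h.ten_false hF hq (by norm_num) (by norm_num) e ?_ hW hs hle
        have hc : Nat.card (alternatingGroup (Fin 7)) = 2520 := by
          rw [nat_card_alternatingGroup, Nat.card_eq_fintype_card, Fintype.card_fin]; rfl
        have hi := h.index_dvd (show 5 ≤ 7 by norm_num) card_mulAut_A7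
        rw [hc] at hi
        exact Nat.Coprime.coprime_dvd_right (Nat.dvd_of_mul_dvd_mul_left (by norm_num) (show 2520 * _ ∣ 2520 * 2 from hi))
          (by norm_num)

theorem no_frame (hF : Fintype.card F = q ^ 2) (h3 : 3 ≤ q) (h5 : q ≠ 5)
    {D : Fin 3 → Submodule F (Fin 3 → F)} (hD : IsNondegenerateMDecomposition (hermForm 3 F q) 1 D) :
    ¬ decompositionStabilizer D ⊓ SU3 F q ≤ X := by
  intro hle
  have hcard := frame_card hF hD
  by_cases hq : q = 3
  · haveI := Fact.mk h.prime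
    haveI := Cfsg.Agent.Lib.PrimeDim.SU3Model.charP_of_card (p := q) hF
    haveI : CharP F 3 := by subst hq; assumption
    have h1 := Residual.card_dvd_char_three h.core h.le hle
    have h96 : 6 * (q + 1) ^ 2 = 96 := by subst hq; norm_num
    rw [hcard, h96] at h1
    rcases h.aut_cases with ⟨e, -⟩ | ⟨-, e⟩ | ⟨-, e⟩
    · have := h1.trans e; omega
    · omega
    · omega
  have h11 := h.eleven_le hq h5
  have hp := h.prime
  have hdvd := Residual.card_dvd h.core h.le hle
  rw [hcard] at hdvd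
  rcases h.types with ⟨⟨e⟩, -, hm⟩ | ⟨⟨e⟩, hm⟩ | ⟨-, hm⟩
  · have h13 : 13 ≤ q := by
      by_contra hlt
      interval_cases q <;> first | omega | exact absurd hp (by norm_num)
    have hA : Nat.card (MulAut (Socle P)) ∣ 336 := by
      rw [Nat.card_congr (MulAut.congr e).toEquiv]; exact card_mulAut_L32
    have h1 := Nat.le_of_dvd (by norm_num) (hdvd.trans (mul_dvd_mul_left 3 hA))
    nlinarith
  · have hA : Nat.card (MulAut (Socle P)) ∣ 1440 := by
      rw [Nat.card_congr (MulAut.congr e).toEquiv]; exact card_mulAut_A6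
    by_cases hq11 : q = 11
    · -- the special case of the eleven element field
      set M := (decompositionStabilizer D ⊓ SU3 F q : Subgroup (GL (Fin 3) F))
      set φ := (Residual.modelHom h.core e).comp (Subgroup.inclusion hle) with hφ
      set K := φ.range with hK
      have hker : Nat.card φ.ker ∣ 3 := by
        rw [Nat.card_congr (φ.ker.equivMapOfInjective _ M.subtype_injective).toEquiv]
        refine card_scalar_dvd ((Subgroup.map_subtype_le _).trans inf_le_right) ?_
        rintro _ ⟨g, hg, rfl⟩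
        exact (Residual.modelHom_eq_one h.core e _).mp hg
      have h864 : Nat.card φ.ker * Nat.card K = 864 := by
        rw [hK, ← Subgroup.index_ker, Subgroup.card_mul_index, hcard]
        subst hq11; norm_num
      have hK1440 : Nat.card K ∣ 1440 := (Subgroup.card_subgroup_dvd_card K).trans card_mulAut_A6
      have h288 : Nat.card K = 288 := by
        rcases (Nat.dvd_prime Nat.prime_three).mp hker with e1 | e1 <;> rw [e1] at h864
        · rw [one_mul] at h864
          rw [h864] at hK1440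
          omega
        · omega
      have hidx : K.index ≤ 5 := by
        have h1 := K.card_mul_index
        rw [h288] at h1
        have h2 := Nat.le_of_dvd (by norm_num) card_mulAut_A6
        omega
      haveI : IsSimpleGroup (alternatingGroup (Fin 6)) := alternatingGroup.isSimpleGroup (by simp)
      have hA6 : Nat.card (alternatingGroup (Fin 6)) = 360 := by
        rw [nat_card_alternatingGroup, Nat.card_eq_fintype_card, Fintype.card_fin]; rfl
      have htop : K.comap (MulAut.conj : alternatingGroup (Fin 6) →* MulAut (alternatingGroup (Fin 6))) = ⊤ := by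
        refine eq_top_of_index hA6 ?_
        rw [Subgroup.index_comap]
        exact ((Subgroup.relIndex_le_of_le_right (le_top (a := MulAut.conj.range)) (by
          rw [Subgroup.relIndex_top_right]; exact Subgroup.index_ne_zero_of_finite)).trans_eq
            (Subgroup.relIndex_top_right _)).trans hidx
      have hle' : (MulAut.conj : alternatingGroup (Fin 6) →* MulAut (alternatingGroup (Fin 6))).range ≤ K := by
        rintro _ ⟨a, rfl⟩
        exact Subgroup.mem_comap.mp (show a ∈ K.comap _ from htop ▸ Subgroup.mem_top a)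
      have h2 := Subgroup.card_dvd_of_le hle'
      rw [← Nat.card_congr (MonoidHom.ofInjective (conj_injective_alt (show 5 ≤ 6 by norm_num))).toEquiv, hA6,
        h288] at h2
      omega
    · have h29 : 29 ≤ q := by
        by_contra hlt
        interval_cases q <;> first | omega | exact absurd hp (by norm_num)
      have h1 := Nat.le_of_dvd (by norm_num) (hdvd.trans (mul_dvd_mul_left 3 hA))
      nlinarith
  · exact h5 hm

theorem no_field (hF : Fintype.card F = q ^ 2) (h3 : q ≠ 3) (h5 : q ≠ 5)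
    {K : Subalgebra F (Matrix (Fin 3) (Fin 3) F)} (hK : IsFieldSubalgebra 3 K)
    (hadj : IsAdjointClosedFor (hermForm 3 F q) K) : ¬ subalgebraNormalizer K ⊓ SU3 F q ≤ X := by
  intro hle
  have h11 := h.eleven_le h3 h5
  obtain ⟨c, hcM, hcK, hN, hc⟩ := exists_singer hF (by omega) hK hadj
  have h1 := orderOf_dvd_natCard (⟨c, hcM⟩ : (subalgebraNormalizer K ⊓ SU3 F q : Subgroup (GL (Fin 3) F)))
  rw [← Subgroup.orderOf_coe] at h1
  have hN' := hN.trans (mul_dvd_mul_left 3 (h1.trans (Residual.card_dvd h.core h.le hle)))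
  have h9 := nine_not_dvd q
  set N := q ^ 2 + 1 - q with hNdef
  have hbig : 111 ≤ N := by
    have h12 : 11 * q ≤ q ^ 2 := by rw [sq]; exact Nat.mul_le_mul_right q h11
    omega
  have hodd : Nat.Coprime N 2 := by
    rw [Nat.coprime_comm, Nat.prime_two.coprime_iff_not_dvd]
    intro h2
    rcases Nat.even_or_odd q with ⟨k, hk⟩ | ⟨k, hk⟩
    · have : q ^ 2 = 4 * (k * k) := by rw [hk]; ring
      omega
    · have : q ^ 2 = 4 * (k * k) + 4 * k + 1 := by rw [hk]; ring
      omega
  have hfive : Nat.Coprime N 5 := by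
    rw [Nat.coprime_comm, (by norm_num : Nat.Prime 5).coprime_iff_not_dvd]
    intro h2
    have hle2 : q ≤ q ^ 2 + 1 := by nlinarith
    have h3' : (q ^ 2 + 1) % 5 = q % 5 := by omega
    rw [Nat.add_mod, Nat.pow_mod] at h3'
    have := Nat.mod_lt q (by norm_num : 5 > 0)
    interval_cases hr : q % 5 <;> norm_num at h3'
  rcases h.aut_cases with ⟨e, -⟩ | ⟨e, -⟩ | ⟨-, e⟩
  · have h2 := hN'.trans (mul_dvd_mul_left 3 (mul_dvd_mul_left 3 e))
    rw [show 3 * (3 * 336) = 2 ^ 4 * 189 by norm_num] at h2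
    have h3' : N ∈ Nat.divisors 189 :=
      Nat.mem_divisors.mpr ⟨(hodd.pow_right 4).dvd_of_dvd_mul_left h2, by norm_num⟩
    rw [show Nat.divisors 189 = {1, 3, 7, 9, 21, 27, 63, 189} by decide +kernel] at h3'
    simp only [Finset.mem_insert, Finset.mem_singleton] at h3'
    omega
  · have h2 := hN'.trans (mul_dvd_mul_left 3 (mul_dvd_mul_left 3 e))
    rw [show 3 * (3 * 1440) = 2 ^ 5 * 5 * 81 by norm_num] at h2
    have h3' := Nat.le_of_dvd (by norm_num)
      (((hodd.pow_right 5).mul_right hfive).dvd_of_dvd_mul_left h2)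
    omega
  · exact h5 e

theorem no_sub_two (hF : Fintype.card F = q ^ 2) (hqo : Odd q) (h7 : 7 ≤ q) {F₀ : Subfield F}
    (hcard : Fintype.card F = Nat.card F₀ ^ 2) {U : GL (Fin 3) F} (hU : U ∈ GU 3 F q) :
    ¬ subfieldSubgroup F₀ U ⊓ SU3 F q ≤ X := by
  intro hle
  rcases h.three_or_five (by omega) (h.small_prime hle (sub_two_prime_dvd hF hqo h.prime hcard hU)) with e | e <;>
    omega

theorem no_R (hF : Fintype.card F = q ^ 2) (h11 : 11 ≤ q) {R : Subgroup (GL (Fin 3) F)} (hR : RSetup q R) :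
    ¬ subgroupNormalizer R ⊓ SU3 F q ≤ X := by
  classical
  intro hle
  have hRX : R ≤ X := hR.le_normalizer_inf.trans hle
  rcases h.types with ⟨⟨e⟩, -, -⟩ | ⟨⟨e⟩, -⟩ | ⟨-, hm⟩
  · have h1 := (Residual.card_dvd h.core h.le hRX).trans (mul_dvd_mul_left 3
      ((Nat.card_congr (MulAut.congr e).toEquiv).dvd.trans card_mulAut_L32))
    rw [hR.card] at h1
    omega
  swap
  · omega
  -- the alternating group of degree six
  haveI := Fact.mk h.prime
  haveI := Cfsg.Agent.Lib.PrimeDim.SU3Model.charP_of_card (p := q) hF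
  have hA6 : Nat.card (alternatingGroup (Fin 6)) = 360 := by
    rw [nat_card_alternatingGroup, Nat.card_eq_fintype_card, Fintype.card_fin]; rfl
  have hidx : Nat.Coprime 3
      (MulAut.conj : alternatingGroup (Fin 6) →* MulAut (alternatingGroup (Fin 6))).range.index := by
    have hi := h.index_dvd (show 5 ≤ 6 by norm_num) card_mulAut_A6
    rw [hA6] at hi
    exact Nat.Coprime.coprime_dvd_right (Nat.dvd_of_mul_dvd_mul_left (by norm_num) (show 360 * _ ∣ 360 * 4 from hi))
      (by norm_num)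
  have hinj := conj_injective_alt (show 5 ≤ 6 by norm_num)
  choose s hs using fun r : R => inner_of_coprime (α := Residual.modelHom h.core e ⟨r.1, hRX r.2⟩) (k := 3)
    (by rw [← map_pow, show (⟨r.1, hRX r.2⟩ : X) ^ 3 = 1 from Subtype.ext (hR.pow_three r.2), map_one]) hidx
  let ρ : R →* alternatingGroup (Fin 6) := MonoidHom.mk' s fun r r' => hinj (by
    rw [map_mul, hs, hs, hs, ← map_mul]; rfl)
  have hker : ρ.ker = Subgroup.center R := by
    ext r
    rw [MonoidHom.mem_ker, Subgroup.mem_center_iff]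
    constructor
    · intro h1 t
      have h2 : Residual.modelHom h.core e ⟨r.1, hRX r.2⟩ = 1 := by
        rw [← hs r, show s r = 1 from h1, map_one]
      exact Subtype.ext (scalar_comm ((Residual.modelHom_eq_one h.core e _).mp h2) t.1).symm
    · intro h1
      have hsc : r.1 ∈ scalars (Fin 3) F :=
        hR.scalar_of_commute fun x hx => (congrArg Subtype.val (h1 ⟨x, hx⟩)).symm
      exact hinj (by rw [show ρ r = s r from rfl, hs, map_one, Residual.modelHom_eq_one]; exact hsc)
  have h9 : Nat.card ρ.range = 9 := by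
    have h1 := ρ.ker.card_mul_index
    rw [Subgroup.index_ker, hker, hR.center, hR.card] at h1
    omega
  obtain ⟨w, hw⟩ := conj_sylow3 h9
  set e' := e.trans (MulAut.conj w) with he'
  set Ψ := Residual.modelHom h.core e' with hΨ
  set ρ' := ((MulAut.conj w).toMonoidHom).comp ρ with hρ'
  have hconj : ∀ r : R, Ψ ⟨r.1, hRX r.2⟩ = MulAut.conj (ρ' r) := by
    intro r
    refine MulEquiv.ext fun a => ?_
    have h1 := congrArg (fun f : MulAut (alternatingGroup (Fin 6)) => f ((MulAut.conj w).symm a)) (hs r)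
    simp only [Residual.modelHom_apply] at h1
    rw [hΨ, Residual.modelHom_apply, he', MulEquiv.symm_trans_apply, MulEquiv.trans_apply, ← h1]
    simp [hρ', ρ, mul_assoc]
  have hrange : ρ'.range = sylow3 := by rw [hρ', MonoidHom.range_comp, hw]
  obtain ⟨X₀, hX₀⟩ : ∃ r, ρ' r = a6 := by rw [← MonoidHom.mem_range, hrange]; exact gens_mem.1
  obtain ⟨Y₀, hY₀⟩ : ∃ r, ρ' r = a6 * b6 := by rw [← MonoidHom.mem_range, hrange]; exact gens_mem.2
  obtain ⟨ne1, ne2, ne3, ne4, ha3⟩ := gens_ne
  have hρ'1 : ∀ r : R, r.1 ∈ scalars (Fin 3) F → ρ' r = 1 := fun r hr => hinj (by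
    rw [map_one, ← hconj, hΨ, Residual.modelHom_eq_one]; exact hr)
  have hne : X₀.1 * Y₀.1 ≠ Y₀.1 * X₀.1 := by
    intro hc
    set C := (Subgroup.centralizer ({X₀} : Set R)) with hC
    have hXC : X₀ ∈ C := Subgroup.mem_centralizer_singleton_iff.mpr rfl
    have hYC : Y₀ ∈ C := Subgroup.mem_centralizer_singleton_iff.mpr (Subtype.ext hc.symm)
    have hsub : ρ'.ker ≤ C := by
      intro r hr
      have h1 : Ψ ⟨r.1, hRX r.2⟩ = 1 := by rw [hconj, MonoidHom.mem_ker.mp hr, map_one]
      rw [hΨ, Residual.modelHom_eq_one] at h1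
      exact Subgroup.mem_centralizer_singleton_iff.mpr (Subtype.ext (scalar_comm h1 X₀.1))
    have hmap : C.map ρ' = sylow3 := by
      refine Subgroup.eq_of_le_of_card_ge (hrange ▸ Subgroup.map_le_range ρ' C) ?_
      rw [card_sylow3]
      have hd : Nat.card (C.map ρ') ∣ 9 := by
        rw [← card_sylow3]
        exact Subgroup.card_dvd_of_le (hrange ▸ Subgroup.map_le_range ρ' C)
      have h4 : 4 ≤ Nat.card (C.map ρ') := by
        let f : Fin 4 → C.map ρ' := ![1, ⟨a6, hX₀ ▸ ⟨X₀, hXC, rfl⟩⟩, ⟨a6 * b6, hY₀ ▸ ⟨Y₀, hYC, rfl⟩⟩,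
          ⟨a6, hX₀ ▸ ⟨X₀, hXC, rfl⟩⟩ * ⟨a6 * b6, hY₀ ▸ ⟨Y₀, hYC, rfl⟩⟩]
        have hf : Function.Injective f := by
          intro i j hij
          have hij' := congrArg Subtype.val hij
          fin_cases i <;> fin_cases j <;> simp [f] at hij' ⊢ <;> revert hij' <;> decide +kernel
        simpa using Nat.card_le_card_of_injective f hf
      obtain ⟨k, hk, hk'⟩ := (Nat.dvd_prime_pow Nat.prime_three).mp (show Nat.card (C.map ρ') ∣ 3 ^ 2 from hd)
      rw [hk'] at h4 ⊢
      interval_cases k <;> omega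
    have hall : ∀ r : R, r ∈ C := by
      intro r
      obtain ⟨c, hcC, hce⟩ : ρ' r ∈ C.map ρ' := by rw [hmap, ← hrange]; exact ⟨r, rfl⟩
      have h1 : r * c⁻¹ ∈ C := hsub (by rw [MonoidHom.mem_ker, map_mul, map_inv, hce, mul_inv_cancel])
      simpa using mul_mem h1 hcC
    have hsc : X₀.1 ∈ scalars (Fin 3) F := hR.scalar_of_commute fun x hx =>
      (congrArg Subtype.val (Subgroup.mem_centralizer_singleton_iff.mp (hall ⟨x, hx⟩))).symm
    exact ne4 (hX₀ ▸ hρ'1 X₀ hsc)
  obtain ⟨g, hg, hgX, hgY⟩ := hR.exists_fourier hF X₀.2 Y₀.2 hne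
  set g' : X := ⟨g, hle hg⟩ with hg'
  set α := Ψ g' with hα
  have hact : ∀ r r' : R, g * r.1 * g⁻¹ = r'.1 → α (ρ' r) = ρ' r' := by
    intro r r' hr
    refine hinj ?_
    rw [← hconj r', show (⟨r'.1, hRX r'.2⟩ : X) = g' * ⟨r.1, hRX r.2⟩ * g'⁻¹ from Subtype.ext hr.symm, map_mul,
      map_mul, map_inv, hconj, ← hα]
    exact MulEquiv.ext fun b => by simp [MulAut.mul_apply, MulAut.inv_def]
  have ha : α a6 = (a6 * b6)⁻¹ := by
    rw [← hY₀, ← map_inv, ← hX₀]
    exact hact X₀ Y₀⁻¹ (by simpa using hgX)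
  have hab : α (a6 * b6) = a6 := by
    rw [← hY₀, ← hX₀]
    exact hact Y₀ X₀ hgY
  obtain ⟨v, hv⟩ := class_swap α ha hab
  obtain ⟨u₀, hu₀⟩ := Residual.modelHom_surj h.core e' u6
  obtain ⟨v₀, hv₀⟩ := Residual.modelHom_surj h.core e' v
  set u : X := ⟨u₀.1, h.core.le u₀.2⟩ with hu
  set v' : X := ⟨v₀.1, h.core.le v₀.2⟩ with hv'
  rw [← hΨ] at hu₀ hv₀
  have hu5 : Ψ (u ^ 5) = 1 := by rw [map_pow, hu₀, ← map_pow, u6_pow.1, map_one]
  have hcube : ∀ z : X, z.1 ∈ scalars (Fin 3) F → z ^ 3 = 1 := by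
    intro z hz
    obtain ⟨c, hc⟩ := (mem_scalars_iff _).mp hz
    have hd := mem_specialLinear.mp (h.le z.2).2
    rw [hc, Matrix.det_smul, Matrix.det_one, mul_one, Fintype.card_fin] at hd
    refine Subtype.ext (Units.ext ?_)
    show (z.1 ^ 3 : GL (Fin 3) F).val = 1
    rw [Units.val_pow_eq_pow_val, hc, smul_pow, hd, one_pow, one_smul]
  rw [hΨ, Residual.modelHom_eq_one] at hu5
  set u₁ := u ^ 6 with hu₁
  have h15 : u₁ ^ 5 = 1 := by
    rw [hu₁, ← pow_mul, show 6 * 5 = 5 * (3 * 2) from rfl, pow_mul, pow_mul, hcube _ hu5, one_pow]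
  have hΨu : Ψ u₁ = MulAut.conj u6 := by
    rw [hu₁, map_pow, hu₀, ← map_pow, pow_succ u6 5, u6_pow.1, one_mul]
  have hne1 : u₁ ≠ 1 := fun e1 => u6_pow.2 (hinj (by rw [← hΨu, e1, map_one, map_one]))
  clear_value u₁
  set z := g' * u₁ * g'⁻¹ * (v' * u₁ ^ 2 * v'⁻¹)⁻¹ with hzdef
  have hz : z.1 ∈ scalars (Fin 3) F := by
    rw [← Residual.modelHom_eq_one h.core e' z, ← hΨ, hzdef]
    simp only [map_mul, map_inv, map_pow, hΨu, hv₀, ← hα, mul_inv_eq_one]
    refine MulEquiv.ext fun b => ?_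
    have hv2 : α u6 = v * u6 ^ 2 * v⁻¹ := hv
    simp [MulAut.mul_apply, MulAut.inv_def, sq, hv2, mul_assoc]
  have hzc : Commute z (v' * u₁ ^ 2 * v'⁻¹) := Subtype.ext (scalar_comm hz _)
  have hz5 : z ^ 5 = 1 := by
    have h1 : z * (v' * u₁ ^ 2 * v'⁻¹) = g' * u₁ * g'⁻¹ := by rw [hzdef, inv_mul_cancel_right]
    have h2 := congrArg (fun t => t ^ 5) h1
    simp only [hzc.mul_pow, conj_pow, ← pow_mul] at h2
    rwa [show 2 * 5 = 5 * 2 from rfl, pow_mul, h15, one_pow, mul_one, mul_inv_cancel, mul_one, mul_one,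
      mul_inv_cancel] at h2
  have hz1 : z = 1 := by
    calc z = (z ^ 3) ^ 2 * (z ^ 5)⁻¹ := by group
      _ = 1 := by rw [hcube z hz, hz5, one_pow, inv_one, one_mul]
  have hfin : (v'⁻¹ * g') * u₁ * (v'⁻¹ * g')⁻¹ = u₁ ^ 2 := by
    have h1 : g' * u₁ * g'⁻¹ = v' * u₁ ^ 2 * v'⁻¹ := mul_inv_eq_one.mp (hzdef ▸ hz1)
    calc v'⁻¹ * g' * u₁ * (v'⁻¹ * g')⁻¹ = v'⁻¹ * (g' * u₁ * g'⁻¹) * v' := by group
      _ = u₁ ^ 2 := by rw [h1]; group
  have hchar : ∀ k : ℕ, k.Prime → k ≠ q → (k : F) ≠ 0 := fun k hk hkq h0 =>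
    hkq ((Nat.prime_dvd_prime_iff_eq h.prime hk).mp ((CharP.cast_eq_zero_iff F q k).mp h0)).symm
  exact hne1 (Subtype.ext (eq_one_of_conj_sq (h := (v'⁻¹ * g').1)
    (by simpa using hchar 3 Nat.prime_three (by omega)) (by simpa using hchar 5 (by norm_num) (by omega))
    (mem_specialLinear.mp (h.le u₁.2).2) (congrArg Subtype.val h15) (congrArg Subtype.val hfin)))

end ResidualData

end Cfsg.Agent.Lib.SU3Max96
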