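import Cfsg.Agent.Lib.SU3Max96.RGroup

set_option autoImplicit false
set_option linter.style.haveILetI false
set_option linter.unusedSectionVars false
set_option linter.unusedVariables false

/-!
Stabilisers of orthogonal frames in `SU(3, q)` lie in no other geometric class.
-/

namespace Cfsg.Agent.Lib.SU3Max96

open Cfsg.Geo Cfsg.Agent.Lib.PrimeDim.Basic Cfsg.Agent.Lib.PrimeDim.Fields Cfsg.Agent.Lib.PrimeDim.Unitary
open Cfsg.Agent.Lib.PrimeDim.UnitaryBase Cfsg.Agent.Lib.PrimeDim.Symplectic Cfsg.Agent.Lib.Unitary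
open scoped Matrix MatrixGroups commutatorElement

variable {F : Type*} [Field F] [Fintype F] {q : ℕ}

/-- Orthogonal frames are images of the standard frame under unitary elements. -/
lemma exists_frame_U (hF : Fintype.card F = q ^ 2) {D : Fin 3 → Submodule F (Fin 3 → F)}
    (hD : IsNondegenerateMDecomposition (hermForm 3 F q) 1 D) :
    ∃ U ∈ GU 3 F q, ∀ i, D i = Submodule.span F {U.val *ᵥ Pi.single i 1} := by
  have hnd : ∀ i, Nondeg q (D i) := fun i u hu h => by
    by_contra hu0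
    obtain ⟨-, x, hx, hne⟩ := hD.nondegenerate i u hu hu0
    exact hne (h x hx)
  choose b hb hb1 using fun i => exists_norm_one_of_nondeg hF (hnd i) (fun h => by
    have := hD.decomp.finrank_eq i
    rw [h, finrank_bot] at this
    exact zero_ne_one this)
  obtain ⟨A, hA⟩ := exists_GU_cols hF (f := b) (fun i j => by
    rcases eq_or_ne i j with rfl | hij
    · rw [if_pos rfl, hb1]
    · rw [if_neg hij, hD.orthogonal i j hij _ (hb i) _ (hb j)])
  refine ⟨A.1, A.2, fun i => ?_⟩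
  rw [hA]
  exact line_eq_span (hD.decomp.finrank_eq i) (hb i) (fun h => by
    have := hb1 i
    rw [h, Cfsg.Agent.Lib.Unitary.herm_zero_left] at this
    exact zero_ne_one this)

lemma U_single_ne (U : GL (Fin 3) F) (i : Fin 3) : U.val *ᵥ Pi.single i 1 ≠ 0 := fun h => by
  have := inv_mulVec_cancel U (Pi.single i (1 : F))
  rw [h, Matrix.mulVec_zero] at this
  have := congrFun this i
  simp at this

lemma U_ext (U : GL (Fin 3) F) {g g' : GL (Fin 3) F}
    (h : ∀ i, g.val *ᵥ (U.val *ᵥ Pi.single i 1) = g'.val *ᵥ (U.val *ᵥ Pi.single i 1)) : g = g' := by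
  refine mul_right_cancel (b := U) (Units.ext (Matrix.ext_of_mulVec_single fun i => ?_))
  rw [Units.val_mul, Units.val_mul, ← Matrix.mulVec_mulVec, ← Matrix.mulVec_mulVec, h]

lemma mem_decomp_of {U : GL (Fin 3) F} {D : Fin 3 → Submodule F (Fin 3 → F)}
    (hD : ∀ i, D i = Submodule.span F {U.val *ᵥ Pi.single i 1}) {g : GL (Fin 3) F} {σ : Equiv.Perm (Fin 3)}
    {c : Fin 3 → F} (hc : ∀ i, c i ≠ 0)
    (h : ∀ i, g.val *ᵥ (U.val *ᵥ Pi.single i 1) = c i • (U.val *ᵥ Pi.single (σ i) 1)) :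
    g ∈ decompositionStabilizer D :=
  ⟨σ, fun i => by
    rw [hD, hD, Submodule.map_span, Set.image_singleton, Matrix.toLin'_apply, h]
    exact Submodule.span_singleton_smul_eq (IsUnit.mk0 _ (hc i)) _⟩

/-- Diagonal elements with respect to a frame. -/
lemma exists_diag (hF : Fintype.card F = q ^ 2) {U : GL (Fin 3) F} (hU : U ∈ GU 3 F q) {c : Fin 3 → F}
    (hc : ∀ i, c i * c i ^ q = 1) :
    ∃ g ∈ GU 3 F q, (∀ i, g.val *ᵥ (U.val *ᵥ Pi.single i 1) = c i • (U.val *ᵥ Pi.single i 1)) ∧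
      g.val.det = c 0 * c 1 * c 2 ∧ g.val.trace = c 0 + c 1 + c 2 := by
  obtain ⟨A, hA⟩ := exists_GU_cols hF (f := fun i => c i • (Pi.single i 1 : Fin 3 → F)) (fun i j => by
    rw [herm_smul_left, herm_smul_right, herm_std hF]
    split
    · next h => subst h; rw [mul_one]; exact hc i
    · rw [mul_zero, mul_zero])
  have hAd : A.1.val = Matrix.diagonal c := Matrix.ext_of_mulVec_single fun i => by
    rw [hA]
    funext k
    by_cases hki : k = i
    · subst hki; simp
    · simp [hki]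
  refine ⟨U * A.1 * U⁻¹, mul_mem (mul_mem hU A.2) (inv_mem hU), fun i => ?_, ?_, ?_⟩
  · rw [Units.val_mul, Units.val_mul, ← Matrix.mulVec_mulVec, inv_mulVec_cancel, ← Matrix.mulVec_mulVec, hA,
      Matrix.mulVec_smul]
  · rw [det_conj, hAd, Matrix.det_diagonal, Fin.prod_univ_three]
  · rw [Units.val_mul, Units.val_mul, Matrix.trace_mul_cycle, Units.inv_mul, one_mul, hAd, Matrix.trace_diagonal,
      Fin.sum_univ_three]

lemma exists_torus (hF : Fintype.card F = q ^ 2) {U : GL (Fin 3) F} (hU : U ∈ GU 3 F q)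
    {D : Fin 3 → Submodule F (Fin 3 → F)} (hD : ∀ i, D i = Submodule.span F {U.val *ᵥ Pi.single i 1})
    {c : Fin 3 → F} (hc : ∀ i, c i * c i ^ q = 1) (hc1 : c 0 * c 1 * c 2 = 1) :
    ∃ g ∈ decompositionStabilizer D ⊓ SU3 F q,
      (∀ i, g.val *ᵥ (U.val *ᵥ Pi.single i 1) = c i • (U.val *ᵥ Pi.single i 1)) ∧
      g.val.trace = c 0 + c 1 + c 2 := by
  obtain ⟨g, hg, hgi, hdet, htr⟩ := exists_diag hF hU hc
  refine ⟨g, ⟨mem_decomp_of hD (σ := 1) (fun i h => ?_) hgi, hg, mem_specialLinear.mpr (hdet.trans hc1)⟩, hgi, htr⟩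
  have := hc i
  rw [h, zero_mul] at this
  exact zero_ne_one this

lemma exists_perm (hF : Fintype.card F = q ^ 2) {U : GL (Fin 3) F} (hU : U ∈ GU 3 F q)
    {D : Fin 3 → Submodule F (Fin 3 → F)} (hD : ∀ i, D i = Submodule.span F {U.val *ᵥ Pi.single i 1})
    (σ : Equiv.Perm (Fin 3)) :
    ∃ g ∈ decompositionStabilizer D ⊓ SU3 F q, ∃ c : Fin 3 → F, (∀ i, c i * c i ^ q = 1) ∧
      ∀ i, g.val *ᵥ (U.val *ᵥ Pi.single i 1) = c i • (U.val *ᵥ Pi.single (σ i) 1) := by
  obtain ⟨A, hA⟩ := exists_GU_cols hF (f := fun i => (Pi.single (σ i) 1 : Fin 3 → F)) (fun i j => by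
    rw [herm_std hF]
    simp)
  have hd := det_norm_one hF A
  obtain ⟨t, ht, hti, htd, -⟩ := exists_diag hF hU (c := ![(A.1.val.det)⁻¹, 1, 1]) (fun i => by
    fin_cases i
    · exact inv_norm_one hF hd
    · simp
    · simp)
  let c : Fin 3 → F := fun i => ![(A.1.val.det)⁻¹, 1, 1] (σ i)
  have hc : ∀ i, c i * c i ^ q = 1 := by
    intro i
    show ![(A.1.val.det)⁻¹, 1, 1] (σ i) * ![(A.1.val.det)⁻¹, 1, 1] (σ i) ^ q = 1
    generalize σ i = k
    fin_cases k
    · exact inv_norm_one hF hd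
    · simp
    · simp
  have hgi : ∀ i, (t * (U * A.1 * U⁻¹)).val *ᵥ (U.val *ᵥ Pi.single i 1) = c i • (U.val *ᵥ Pi.single (σ i) 1) := by
    intro i
    rw [Units.val_mul, ← Matrix.mulVec_mulVec, Units.val_mul, Units.val_mul, ← Matrix.mulVec_mulVec,
      inv_mulVec_cancel, ← Matrix.mulVec_mulVec, hA, hti]
  refine ⟨_, ⟨mem_decomp_of hD (fun i h => ?_) hgi, (mul_mem ht (mul_mem (mul_mem hU A.2) (inv_mem hU)) : _ ∈ GU 3 F q),
    mem_specialLinear.mpr ?_⟩, c, hc, hgi⟩
  · have := hc i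
    rw [h, zero_mul] at this
    exact zero_ne_one this
  · rw [Units.val_mul, Matrix.det_mul, htd, det_conj]
    simp
    exact inv_mul_cancel₀ fun h => by rw [h, zero_mul] at hd; exact zero_ne_one hd

/-- The order of a frame stabiliser. -/
theorem frame_card (hF : Fintype.card F = q ^ 2) {D : Fin 3 → Submodule F (Fin 3 → F)}
    (hD : IsNondegenerateMDecomposition (hermForm 3 F q) 1 D) :
    Nat.card (decompositionStabilizer D ⊓ SU3 F q : Subgroup (GL (Fin 3) F)) = 6 * (q + 1) ^ 2 := by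
  classical
  obtain ⟨U, hU, hDU⟩ := exists_frame_U hF hD
  set M := (decompositionStabilizer D ⊓ SU3 F q : Subgroup (GL (Fin 3) F))
  set e : Fin 3 → Fin 3 → F := fun i => U.val *ᵥ Pi.single i 1 with he
  choose p hp cp hcp hpi using exists_perm hF hU hDU
  let μ := {x : F // x ^ (q + 1) = 1}
  have hμ : ∀ x : μ, x.1 * x.1 ^ q = 1 := fun x => by rw [← pow_succ']; exact x.2
  have hprod : ∀ a b : μ, (a.1 * b.1)⁻¹ * (a.1 * b.1)⁻¹ ^ q = 1 := fun a b =>
    inv_norm_one hF (by rw [mul_pow, mul_mul_mul_comm, hμ, hμ, mul_one])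
  choose t ht hti htr using fun a : μ × μ => exists_torus hF hU hDU (c := ![a.1.1, a.2.1, (a.1.1 * a.2.1)⁻¹])
    (fun i => by
      fin_cases i
      · exact hμ _
      · exact hμ _
      · exact hprod _ _)
    (by
      show a.1.1 * a.2.1 * (a.1.1 * a.2.1)⁻¹ = 1
      refine mul_inv_cancel₀ (mul_ne_zero ?_ ?_) <;> intro h
      · have := hμ a.1; simp [h] at this
      · have := hμ a.2; simp [h] at this)
  let f : Equiv.Perm (Fin 3) × μ × μ → M := fun x => ⟨p x.1 * t x.2, mul_mem (hp x.1) (ht x.2)⟩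
  have hfi : ∀ x i, (f x).1.val *ᵥ e i =
      (![x.2.1.1, x.2.2.1, (x.2.1.1 * x.2.2.1)⁻¹] i * cp x.1 i) • e (x.1 i) := by
    intro x i
    show (p x.1 * t x.2).val *ᵥ e i = _
    rw [Units.val_mul, ← Matrix.mulVec_mulVec, hti, Matrix.mulVec_smul, hpi, smul_smul]
  have hne : ∀ i, e i ≠ 0 := U_single_ne U
  have hei : ∀ {i j : Fin 3} {a b : F}, a ≠ 0 → a • e i = b • e j → i = j ∧ a = b := by
    intro i j a b ha h
    have h1 := congrArg (fun w => (U⁻¹).val *ᵥ w) h
    simp only [he, Matrix.mulVec_smul, inv_mulVec_cancel] at h1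
    have h2 := congrFun h1 i
    by_cases hij : i = j
    · subst hij; exact ⟨rfl, by simpa using h2⟩
    · simp [hij] at h2
      exact absurd h2 ha
  have hnz : ∀ {x : F}, x * x ^ q = 1 → x ≠ 0 := fun h h0 => by
    rw [h0, zero_mul] at h
    exact zero_ne_one h
  have hf : Function.Bijective f := by
    constructor
    · intro x y hxy
      have key : ∀ i, x.1 i = y.1 i ∧ ![x.2.1.1, x.2.2.1, (x.2.1.1 * x.2.2.1)⁻¹] i * cp x.1 i
          = ![y.2.1.1, y.2.2.1, (y.2.1.1 * y.2.2.1)⁻¹] i * cp y.1 i := by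
        intro i
        have h1 := congrArg (fun g : M => g.1.val *ᵥ e i) hxy
        simp only [hfi] at h1
        refine hei (mul_ne_zero ?_ (hnz (hcp _ _))) h1
        fin_cases i
        · exact hnz (hμ _)
        · exact hnz (hμ _)
        · exact hnz (hprod _ _)
      have hσ : x.1 = y.1 := Equiv.ext fun i => (key i).1
      have h0 := (key 0).2
      have h1 := (key 1).2
      rw [hσ] at h0 h1
      simp only [Matrix.cons_val_zero, Matrix.cons_val_one] at h0 h1
      exact Prod.ext hσ (Prod.ext (Subtype.ext (mul_right_cancel₀ (hnz (hcp _ _)) h0))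
        (Subtype.ext (mul_right_cancel₀ (hnz (hcp _ _)) h1)))
    · rintro ⟨g, hgD, hgU, hgS⟩
      obtain ⟨σ, hσ⟩ := hgD
      set g' := (p σ)⁻¹ * g with hg'
      have hg'M : g' ∈ M := mul_mem (inv_mem (hp σ)) ⟨⟨σ, hσ⟩, hgU, hgS⟩
      have heig : ∀ i, ∃ a : F, g'.val *ᵥ e i = a • e i := by
        intro i
        have h1 : g.val *ᵥ e i ∈ D (σ i) := hσ i ▸ ⟨e i, hDU i ▸ Submodule.mem_span_singleton_self _, by simp⟩
        rw [hDU, Submodule.mem_span_singleton] at h1
        obtain ⟨a, ha⟩ := h1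
        refine ⟨a / cp σ i, ?_⟩
        rw [hg', Units.val_mul, ← Matrix.mulVec_mulVec, ← ha, Matrix.mulVec_smul]
        have h2 : e (σ i) = (cp σ i)⁻¹ • ((p σ).val *ᵥ e i) := by
          rw [hpi, inv_smul_smul₀ (hnz (hcp _ _))]
        show a • ((p σ)⁻¹.val *ᵥ e (σ i)) = _
        rw [h2, Matrix.mulVec_smul, inv_mulVec_cancel, smul_smul, div_eq_mul_inv]
      choose a ha using heig
      have han : ∀ i, a i * a i ^ q = 1 := by
        intro i
        have h1 := mem_GU_iff.mp hg'M.2.1 (e i) (e i)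
        rw [ha, herm_smul_left, herm_smul_right, ← mul_assoc] at h1
        refine (mul_eq_right₀ ?_).mp h1
        rw [he]
        simp only [mem_GU_iff.mp hU, herm_std hF, if_true]
        exact one_ne_zero
      let A : μ × μ := (⟨a 0, by rw [pow_succ']; exact han 0⟩, ⟨a 1, by rw [pow_succ']; exact han 1⟩)
      refine ⟨(σ, A), Subtype.ext ?_⟩
      show p σ * t A = g
      have h2 : t A = g' := by
        obtain ⟨d, hd, hdi, hdd, -⟩ := exists_diag hF hU han
        have e1 : g' = d := U_ext U fun i => (ha i).trans (hdi i).symm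
        have hdet : a 0 * a 1 * a 2 = 1 := by
          rw [← hdd, ← e1]; exact mem_specialLinear.mp hg'M.2.2
        refine U_ext U fun i => (hti A i).trans (Eq.trans ?_ (ha i).symm)
        congr 1
        fin_cases i
        · rfl
        · rfl
        · exact inv_eq_of_mul_eq_one_right hdet
      rw [h2, hg', mul_inv_cancel_left]
  rw [← Nat.card_congr (Equiv.ofBijective f hf), Nat.card_prod, Nat.card_prod, card_norm_one hF, Nat.card_perm,
    Nat.card_eq_fintype_card (α := Fin 3), Fintype.card_fin, sq]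
  rfl

lemma norm_one_gen (hF : Fintype.card F = q ^ 2) : ∃ s : F, s * s ^ q = 1 ∧ ∀ k, s ^ k = 1 → q + 1 ∣ k := by
  have h := card_normHom hF
  obtain ⟨g, hg⟩ := IsCyclic.exists_ofOrder_eq_natCard (α := (normHom F q).ker)
  rw [h.1] at hg
  refine ⟨(g.1 : F), ?_, fun k hk => hg ▸ orderOf_dvd_of_pow_eq_one (Subtype.ext (Units.ext (by simpa using hk)))⟩
  have h2 : g.1 ^ (q + 1) = 1 := g.2
  rw [← pow_succ', ← Units.val_pow_eq_pow_val, h2, Units.val_one]

lemma pow_eig {U t : GL (Fin 3) F} {c : Fin 3 → F}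
    (h : ∀ i, t.val *ᵥ (U.val *ᵥ Pi.single i 1) = c i • (U.val *ᵥ Pi.single i 1)) (k : ℕ) (i : Fin 3) :
    (t ^ k).val *ᵥ (U.val *ᵥ Pi.single i 1) = c i ^ k • (U.val *ᵥ Pi.single i 1) := by
  induction k with
  | zero => simp
  | succ k ih =>
    rw [pow_succ', Units.val_mul, ← Matrix.mulVec_mulVec, ih, Matrix.mulVec_smul, h, smul_smul, pow_succ]

/-- Common eigenvectors of two diagonal elements. -/
lemma two_torus_eigen {U t₁ t₂ : GL (Fin 3) F} {s : F}
    (h1 : ∀ i, t₁.val *ᵥ (U.val *ᵥ Pi.single i 1) = ![s, s⁻¹, 1] i • (U.val *ᵥ Pi.single i 1))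
    (h2 : ∀ i, t₂.val *ᵥ (U.val *ᵥ Pi.single i 1) = ![s, 1, s⁻¹] i • (U.val *ᵥ Pi.single i 1))
    {k : ℕ} (hk : s ^ k ≠ 1) {v : Fin 3 → F} {a b : F} (ha : (t₁ ^ k).val *ᵥ v = a • v)
    (hb : (t₂ ^ k).val *ᵥ v = b • v) : ∃ (i : Fin 3) (l : F), v = l • (U.val *ᵥ Pi.single i 1) := by
  have hs1 : s⁻¹ ^ k ≠ 1 := by rwa [inv_pow, ne_eq, inv_eq_one]
  set w := (U⁻¹).val *ᵥ v with hw
  have hv : v = ∑ i, w i • (U.val *ᵥ Pi.single i 1) := by
    rw [← mulVec_inv_cancel U v, ← hw]
    conv_lhs => rw [pi_eq_sum_univ' w]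
    rw [Matrix.mulVec_sum]
    simp only [Matrix.mulVec_smul]
  have hco : ∀ (t : GL (Fin 3) F) (c : Fin 3 → F) (x : F),
      (∀ i, t.val *ᵥ (U.val *ᵥ Pi.single i 1) = c i • (U.val *ᵥ Pi.single i 1)) →
      (t ^ k).val *ᵥ v = x • v → ∀ i, c i ^ k * w i = x * w i := by
    intro t c x h hx i
    have h1 := congrArg (fun y => (U⁻¹).val *ᵥ y) hx
    rw [hv] at h1
    simp only [Matrix.mulVec_sum, Matrix.mulVec_smul, pow_eig h k, smul_smul, Finset.smul_sum, inv_mulVec_cancel] at h1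
    have h2 := congrFun h1 i
    simp [Finset.sum_apply, Pi.single_apply] at h2
    linear_combination h2
  have hA := hco t₁ _ a h1 ha
  have hB := hco t₂ _ b h2 hb
  have a0 : s ^ k * w 0 = a * w 0 := by simpa using hA 0
  have a1 : s⁻¹ ^ k * w 1 = a * w 1 := by simpa using hA 1
  have a2 : 1 * w 2 = a * w 2 := by simpa using hA 2
  have b0 : s ^ k * w 0 = b * w 0 := by simpa using hB 0
  have b1 : 1 * w 1 = b * w 1 := by simpa using hB 1
  have b2 : s⁻¹ ^ k * w 2 = b * w 2 := by simpa using hB 2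
  have key : ∀ {x y z : F}, x ≠ 0 → y * x = z * x → y = z := fun hx h => mul_right_cancel₀ hx h
  have e01 : w 0 = 0 ∨ w 1 = 0 := by
    by_contra! hne
    exact hk ((key hne.1 b0).trans (key hne.2 b1).symm)
  have e02 : w 0 = 0 ∨ w 2 = 0 := by
    by_contra! hne
    exact hk ((key hne.1 a0).trans (key hne.2 a2).symm)
  have e12 : w 1 = 0 ∨ w 2 = 0 := by
    by_contra! hne
    exact hs1 ((key hne.1 a1).trans (key hne.2 a2).symm)
  rw [Fin.sum_univ_three] at hv
  rcases e01 with e | e <;> rcases e02 with e' | e' <;> rcases e12 with e'' | e''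
  all_goals first
    | exact ⟨0, w 0, by rw [e'', e] at hv; simpa using hv⟩
    | exact ⟨0, w 0, by rw [e, e'] at hv; simpa using hv⟩
    | exact ⟨0, w 0, by rw [e'', e'] at hv; simpa using hv⟩
    | exact ⟨1, w 1, by rw [e, e'] at hv; simpa using hv⟩
    | exact ⟨1, w 1, by rw [e, e''] at hv; simpa using hv⟩
    | exact ⟨2, w 2, by rw [e, e''] at hv; simpa using hv⟩
    | exact ⟨2, w 2, by rw [e, e'] at hv; simpa using hv⟩
    | exact ⟨2, w 2, by rw [e', e''] at hv; simpa using hv⟩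

/-- Two commuting elements of the torus with common eigenvectors only in the frame. -/
lemma exists_two_torus (hF : Fintype.card F = q ^ 2) {U : GL (Fin 3) F} (hU : U ∈ GU 3 F q)
    {D : Fin 3 → Submodule F (Fin 3 → F)} (hD : ∀ i, D i = Submodule.span F {U.val *ᵥ Pi.single i 1})
    {s : F} (hs : s * s ^ q = 1) :
    ∃ t₁ ∈ decompositionStabilizer D ⊓ SU3 F q, ∃ t₂ ∈ decompositionStabilizer D ⊓ SU3 F q,
      ∀ k : ℕ, s ^ k ≠ 1 → ∀ v : Fin 3 → F, v ≠ 0 → (∃ a : F, (t₁ ^ k).val *ᵥ v = a • v) →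
        (∃ b : F, (t₂ ^ k).val *ᵥ v = b • v) → ∃ (i : Fin 3) (l : F), v = l • (U.val *ᵥ Pi.single i 1) := by
  have hs0 : s ≠ 0 := fun h => by rw [h, zero_mul] at hs; exact zero_ne_one hs
  have hsi := inv_norm_one hF hs
  obtain ⟨t₁, ht₁, h1, -⟩ := exists_torus hF hU hD (c := ![s, s⁻¹, 1])
    (fun i => by fin_cases i <;> first | exact hs | exact hsi | simp) (by simp [hs0])
  obtain ⟨t₂, ht₂, h2, -⟩ := exists_torus hF hU hD (c := ![s, 1, s⁻¹])
    (fun i => by fin_cases i <;> first | exact hs | exact hsi | simp) (by simp [hs0])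
  exact ⟨t₁, ht₁, t₂, ht₂, fun k hk v hv0 ⟨a, ha⟩ ⟨b, hb⟩ => two_torus_eigen h1 h2 hk ha hb⟩

/-- A frame stabiliser fixes no point. -/
lemma frame_not_line (hF : Fintype.card F = q ^ 2) {D : Fin 3 → Submodule F (Fin 3 → F)}
    (hD : IsNondegenerateMDecomposition (hermForm 3 F q) 1 D) {W : Submodule F (Fin 3 → F)}
    (hW : Module.finrank F W = 1) : ¬ decompositionStabilizer D ⊓ SU3 F q ≤ subspaceStabilizer W := by
  intro hle
  obtain ⟨U, hU, hDU⟩ := exists_frame_U hF hD
  obtain ⟨s, hs, hsk⟩ := norm_one_gen hF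
  obtain ⟨t₁, ht₁, t₂, ht₂, hk⟩ := exists_two_torus hF hU hDU hs
  obtain ⟨w, hw, hw0, hspan⟩ := exists_line_vec hW
  have h1q := one_lt_q hF
  obtain ⟨i, l, hl⟩ := hk 1 (fun h => by have := Nat.le_of_dvd one_pos (hsk 1 h); omega) w hw0
    (stab_eigen (hle (pow_mem ht₁ 1)) hspan) (stab_eigen (hle (pow_mem ht₂ 1)) hspan)
  obtain ⟨g, hg, c, hc, hgi⟩ := exists_perm hF hU hDU (Equiv.swap i (i + 1))
  obtain ⟨a, ha⟩ := stab_eigen (hle hg) hspan
  have hl0 : l ≠ 0 := fun h => hw0 (by rw [hl, h, zero_smul])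
  rw [hl, Matrix.mulVec_smul, hgi, Equiv.swap_apply_left, smul_smul, smul_smul] at ha
  have h1 := congrArg (fun y => ((U⁻¹).val *ᵥ y) (i + 1)) ha
  simp only [Matrix.mulVec_smul, inv_mulVec_cancel, Pi.smul_apply, smul_eq_mul, Pi.single_eq_same, mul_one] at h1
  rw [Pi.single_eq_of_ne (by fin_cases i <;> decide), mul_zero] at h1
  have := hc i
  rw [(mul_eq_zero.mp h1).resolve_left hl0, zero_mul] at this
  exact zero_ne_one this

/-- The frame of a frame stabiliser is unique. -/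
lemma frame_unique (hF : Fintype.card F = q ^ 2) (hq : 3 ≤ q) (h5 : q ≠ 5) {D D' : Fin 3 → Submodule F (Fin 3 → F)}
    (hD : IsNondegenerateMDecomposition (hermForm 3 F q) 1 D)
    (hD' : IsNondegenerateMDecomposition (hermForm 3 F q) 1 D')
    (hle : decompositionStabilizer D ⊓ SU3 F q ≤ decompositionStabilizer D') :
    decompositionStabilizer D' ≤ decompositionStabilizer D := by
  classical
  obtain ⟨U, hU, hDU⟩ := exists_frame_U hF hD
  obtain ⟨U', hU', hDU'⟩ := exists_frame_U hF hD'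
  obtain ⟨s, hs, hsk⟩ := norm_one_gen hF
  obtain ⟨t₁, ht₁, t₂, ht₂, hk⟩ := exists_two_torus hF hU hDU hs
  have hfix : ∀ t ∈ decompositionStabilizer D ⊓ SU3 F q, ∀ j, ∃ a : F,
      (t ^ 6).val *ᵥ (U'.val *ᵥ Pi.single j 1) = a • (U'.val *ᵥ Pi.single j 1) := by
    intro t ht j
    obtain ⟨σ, hσ⟩ := hle ht
    have hpow : ∀ n, ∀ x ∈ D' j, (t ^ n).val *ᵥ x ∈ D' ((σ ^ n) j) := by
      intro n
      induction n with
      | zero => intro x hx; simpa using hx
      | succ n ih =>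
        intro x hx
        rw [pow_succ' t, Units.val_mul, ← Matrix.mulVec_mulVec, pow_succ' σ, Equiv.Perm.mul_apply, ← hσ]
        exact ⟨_, ih x hx, by simp⟩
    have h6 : σ ^ 6 = 1 := by
      have := pow_card_eq_one (G := Equiv.Perm (Fin 3)) (x := σ)
      rwa [Fintype.card_perm, Fintype.card_fin] at this
    have h := hpow 6 _ (hDU' j ▸ Submodule.mem_span_singleton_self _)
    rw [h6, Equiv.Perm.one_apply, hDU', Submodule.mem_span_singleton] at h
    obtain ⟨a, ha⟩ := h
    exact ⟨a, ha.symm⟩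
  have hτ : ∀ j, ∃ i, D' j = D i := by
    intro j
    obtain ⟨i, l, hl⟩ := hk 6 (fun h => by
      have h1 := Nat.le_of_dvd (by norm_num) (hsk 6 h)
      have h2 := hsk 6 h
      have h3 : q < 6 := by omega
      interval_cases q <;> omega) _ (U_single_ne U' j) (hfix t₁ ht₁ j) (hfix t₂ ht₂ j)
    refine ⟨i, ?_⟩
    rw [hDU, hDU', hl]
    refine Submodule.span_singleton_smul_eq (IsUnit.mk0 _ ?_) _
    rintro rfl
    exact U_single_ne U' j (by rw [hl, zero_smul])
  choose τ hτ using hτ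
  have hinj : Function.Injective τ := by
    intro a b h
    by_contra hab
    have hd := hD'.decomp.indep.pairwiseDisjoint hab
    rw [Function.onFun, hτ a, hτ b, h, disjoint_self] at hd
    have := hD.decomp.finrank_eq (τ b)
    rw [hd, finrank_bot] at this
    exact zero_ne_one this
  set π := Equiv.ofBijective τ (Finite.injective_iff_bijective.mp hinj)
  rintro g ⟨σ, hσ⟩
  refine ⟨(π.symm.trans σ).trans π, fun i => ?_⟩
  obtain ⟨j, rfl⟩ : ∃ j, τ j = i := ⟨π.symm i, π.apply_symm_apply i⟩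
  have hj : π.symm (τ j) = j := π.symm_apply_apply j
  rw [← hτ, hσ, hτ, Equiv.trans_apply, Equiv.trans_apply, hj]
  rfl

/-- A frame stabiliser does not normalise a cubic field. -/
lemma frame_not_field (hF : Fintype.card F = q ^ 2) (hq : 3 ≤ q) {D : Fin 3 → Submodule F (Fin 3 → F)}
    (hD : IsNondegenerateMDecomposition (hermForm 3 F q) 1 D) {K : Subalgebra F (Matrix (Fin 3) (Fin 3) F)}
    (hK : IsFieldSubalgebra 3 K) : ¬ decompositionStabilizer D ⊓ SU3 F q ≤ subalgebraNormalizer K := by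
  intro hle
  obtain ⟨U, hU, hDU⟩ := exists_frame_U hF hD
  obtain ⟨s, hs, hsk⟩ := norm_one_gen hF
  obtain ⟨t₁, ht₁, t₂, ht₂, hk⟩ := exists_two_torus hF hU hDU hs
  have hs3 : s ^ 3 ≠ 1 := fun h => by have := Nat.le_of_dvd (by norm_num) (hsk 3 h); omega
  have hsc : ∀ t ∈ decompositionStabilizer D ⊓ SU3 F q, ∀ c : Fin 3 → F,
      (∀ i, t.val *ᵥ (U.val *ᵥ Pi.single i 1) = c i • (U.val *ᵥ Pi.single i 1)) → ∀ x : Fin 3 → F,
      ∃ a : F, (t ^ 3).val *ᵥ x = a • x := by
    intro t ht c hc x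
    have h := cube_scalar_of_eigen hK (hle ht) (U_single_ne U 0) (pow_eig hc 3 0)
    exact ⟨c 0 ^ 3, by rw [h, Matrix.smul_mulVec, Matrix.one_mulVec]⟩
  have hs0 : s ≠ 0 := fun h => by rw [h, zero_mul] at hs; exact zero_ne_one hs
  have hsi := inv_norm_one hF hs
  obtain ⟨t, ht, hti, -⟩ := exists_torus hF hU hDU (c := ![s, s⁻¹, 1])
    (fun i => by fin_cases i <;> first | exact hs | exact hsi | simp) (by simp [hs0])
  have h := cube_scalar_of_eigen hK (hle ht) (U_single_ne U 2) (pow_eig hti 3 2)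
  have h0 := pow_eig hti 3 0
  rw [h, Matrix.smul_mulVec, Matrix.one_mulVec] at h0
  have h1 := smul_left_injective F (U_single_ne U 0) h0
  simp at h1
  exact hs3 h1.symm

lemma mem_of_sq_mem {F₀ : Subfield F} {r : ℕ} (hr : Odd r) (hcard : Fintype.card F = Nat.card F₀ ^ r) {x : F}
    (hx : x ^ 2 ∈ F₀) : x ∈ F₀ := by
  set Q := Nat.card F₀
  rw [mem_subfield_iff, ← pow_mul, mul_comm, pow_mul] at hx
  rcases sq_eq_sq_iff_eq_or_eq_neg.mp hx with h | h
  · exact (mem_subfield_iff F₀).mpr h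
  · have key : ∀ n, x ^ Q ^ n = (-1 : F) ^ n * x := by
      intro n
      induction n with
      | zero => simp
      | succ n ih =>
        have hneg : ((-1 : F) ^ n) ^ Q = (-1 : F) ^ n := (mem_subfield_iff F₀).mp (pow_mem (neg_mem (one_mem _)) n)
        rw [pow_succ, pow_mul, ih, mul_pow, hneg, h]
        ring
    have := key r
    rw [← hcard, FiniteField.pow_card, hr.neg_one_pow] at this
    rw [mem_subfield_iff, h]
    linear_combination -this

/-- A root of a quadratic over a subfield of odd index lies in it. -/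
lemma mem_of_roots {F₀ : Subfield F} {r : ℕ} (hr : Odd r) (hcard : Fintype.card F = Nat.card F₀ ^ r) {s t : F}
    (h1 : s + t ∈ F₀) (h2 : s * t ∈ F₀) : s ∈ F₀ := by
  set Q := Nat.card F₀
  rw [mem_subfield_iff]
  obtain ⟨p, f, _, _, hf, hFp⟩ := exists_char_card (F := F)
  obtain ⟨e, he, hdvd, hQe, -⟩ := card_subfield F₀ hFp
  have hadd : ∀ x y : F, (x + y) ^ Q = x ^ Q + y ^ Q := fun x y => by
    show (x + y) ^ Nat.card F₀ = x ^ Nat.card F₀ + y ^ Nat.card F₀
    rw [hQe]; exact add_pow_char_pow ..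
  have a1 : s ^ Q + t ^ Q = s + t := by rw [← hadd]; exact (mem_subfield_iff F₀).mp h1
  have a2 : s ^ Q * t ^ Q = s * t := by rw [← mul_pow]; exact (mem_subfield_iff F₀).mp h2
  have h4 : (s ^ Q - s) * (s ^ Q - t) = 0 := by linear_combination s ^ Q * a1 - a2
  rcases mul_eq_zero.mp h4 with h | h
  · exact sub_eq_zero.mp h
  · have hst : s ^ Q = t := sub_eq_zero.mp h
    have hts : t ^ Q = s := by linear_combination a1 - hst
    have key : ∀ n, s ^ Q ^ (2 * n) = s := by
      intro n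
      induction n with
      | zero => simp
      | succ n ih =>
        rw [show 2 * (n + 1) = 2 * n + 1 + 1 by ring, pow_succ, pow_succ, pow_mul, pow_mul, ih, hst, hts]
    obtain ⟨m, rfl⟩ := hr
    have h5 := FiniteField.pow_card s
    rw [hcard, pow_succ, pow_mul, key m] at h5
    exact h5

lemma mem_of_quad {F₀ : Subfield F} {r : ℕ} (hr : Odd r) (hcard : Fintype.card F = Nat.card F₀ ^ r) {s : F}
    (hs : s ≠ 0) (h : s + s⁻¹ ∈ F₀) : s ∈ F₀ :=
  mem_of_roots hr hcard h (by rw [mul_inv_cancel₀ hs]; exact one_mem _)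

/-- Frame stabilisers lie in no subfield group. -/
lemma frame_not_subfield (hF : Fintype.card F = q ^ 2) (hq : 3 ≤ q) (h5 : q ≠ 5)
    {D : Fin 3 → Submodule F (Fin 3 → F)} (hD : IsNondegenerateMDecomposition (hermForm 3 F q) 1 D)
    {F₀ : Subfield F} {r : ℕ} (hr : r.Prime) (hcase : Odd r ∨ (r = 2 ∧ Odd q))
    (hcard : Fintype.card F = Nat.card F₀ ^ r) {P : GL (Fin 3) F} :
    ¬ decompositionStabilizer D ⊓ SU3 F q ≤ subfieldSubgroup F₀ P := by
  classical
  intro hle
  obtain ⟨U, hU, hDU⟩ := exists_frame_U hF hD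
  -- traces in a subfield group
  have hinv : ∀ g ∈ decompositionStabilizer D ⊓ SU3 F q, g.val.trace * g.val.trace ^ q ∈ F₀ ∧
      ∃ z : F, z ^ 3 ∈ F₀ ∧ z ≠ 0 ∧ ∃ y ∈ F₀, g.val.trace = z * y := by
    intro g hg
    obtain ⟨z, h, hgh⟩ := subfield_repr (hle hg)
    set G := F₀.subtype.mapMatrix h.val with hG
    have htr : g.val.trace = (z : F) * (F₀.subtype h.val.trace) := by
      rw [AddMonoidHom.map_trace, ← RingHom.mapMatrix_apply, ← hG, ← smul_eq_mul, ← Matrix.trace_smul, ← hgh,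
        Units.val_mul, Units.val_mul, Matrix.trace_mul_cycle, Units.mul_inv, one_mul]
    have hgi : (P⁻¹ * g⁻¹ * P : GL (Fin 3) F).val = (z : F)⁻¹ • F₀.subtype.mapMatrix (h⁻¹).val := by
      rw [show (P⁻¹ * g⁻¹ * P : GL (Fin 3) F) = (P⁻¹ * g * P)⁻¹ by group]
      rw [Matrix.coe_units_inv (P⁻¹ * g * P)]
      refine Matrix.inv_eq_right_inv ?_
      rw [hgh, Matrix.smul_mul, Matrix.mul_smul, ← map_mul, Units.mul_inv, map_one, smul_smul,
        mul_inv_cancel₀ z.ne_zero, one_smul]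
    have htri : (g⁻¹).val.trace = (z : F)⁻¹ * (F₀.subtype (h⁻¹).val.trace) := by
      rw [AddMonoidHom.map_trace, ← RingHom.mapMatrix_apply, ← smul_eq_mul, ← Matrix.trace_smul, ← hgi,
        Units.val_mul, Units.val_mul, Matrix.trace_mul_cycle, Units.mul_inv, one_mul]
    have hz3 : (z : F) ^ 3 ∈ F₀ := by
      have hd := congrArg Matrix.det hgh
      rw [Matrix.det_smul, Fintype.card_fin, Units.val_mul, Units.val_mul, Matrix.det_mul, Matrix.det_mul,
        mem_specialLinear.mp hg.2.2, mul_one, ← Matrix.det_mul, Units.inv_mul, Matrix.det_one, ← RingHom.map_det] at hd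
      rw [eq_inv_of_mul_eq_one_left hd.symm]
      exact inv_mem h.val.det.2
    refine ⟨?_, z, hz3, z.ne_zero, _, (h.val.trace).2, htr⟩
    rw [← trace_inv hF hg.2.1, htr, htri, mul_mul_mul_comm, mul_inv_cancel₀ z.ne_zero, one_mul]
    exact mul_mem (h.val.trace).2 ((h⁻¹).val.trace).2
  have h1q := one_lt_q hF
  have hQ1 : 1 < Nat.card F₀ := Finite.one_lt_card
  rcases hcase with ho | ⟨rfl, hqo⟩
  · set Q := Nat.card F₀
    have hall : ∀ s : F, s * s ^ q = 1 → s ∈ F₀ := by
      intro s hs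
      have hs0 : s ≠ 0 := fun h => by rw [h, zero_mul] at hs; exact zero_ne_one hs
      have hsi := inv_norm_one hF hs
      obtain ⟨t, ht, -, htr⟩ := exists_torus hF hU hDU (c := ![s, s⁻¹, 1])
        (fun i => by fin_cases i <;> first | exact hs | exact hsi | simp) (by simp [hs0])
      have h1 := (hinv t ht).1
      have hsq : s ^ q = s⁻¹ := eq_inv_of_mul_eq_one_right hs
      simp only [Matrix.cons_val_zero, Matrix.cons_val_one, Matrix.cons_val_two, Matrix.head_cons,
        Matrix.tail_cons] at htr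
      rw [htr, add_pow_q hF, add_pow_q hF, one_pow, inv_pow, hsq, inv_inv] at h1
      have hT : s + s⁻¹ ∈ F₀ := by
        have h2 : s + s⁻¹ + 1 ∈ F₀ := mem_of_sq_mem ho hcard (by
          rw [sq]; convert h1 using 1; ring)
        simpa using sub_mem h2 (one_mem _)
      exact mem_of_quad ho hcard hs0 hT
    have hcnt : q + 1 ≤ Q := by
      rw [← card_norm_one hF]
      exact Nat.card_le_card_of_injective (fun x => (⟨x.1, hall x.1 (by rw [← pow_succ']; exact x.2)⟩ : F₀))
        fun a b h => Subtype.ext (congrArg (fun y : F₀ => (y : F)) h)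
    have h3r : 2 < r := by
      have := hr.two_le
      obtain ⟨m, rfl⟩ := ho
      omega
    have : Q ^ 2 < q ^ 2 := by
      rw [← hF, hcard]
      exact Nat.pow_lt_pow_right hQ1 h3r
    have h6 := Nat.pow_le_pow_left hcnt 2
    have h7 : q ^ 2 < (q + 1) ^ 2 := Nat.pow_lt_pow_left (by omega) two_ne_zero
    omega
  · have hFQ : Nat.card F₀ = q := Nat.pow_left_injective two_ne_zero (hcard.symm.trans hF)
    obtain ⟨a, ha, hak⟩ := norm_one_gen hF
    have ha0 : a ≠ 0 := fun h => by rw [h, zero_mul] at ha; exact zero_ne_one ha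
    have ha6 : a ^ 6 ≠ 1 := fun h => by
      have h1 := Nat.le_of_dvd (by norm_num) (hak 6 h)
      have h2 := hak 6 h
      have h3 : q < 6 := by omega
      interval_cases q <;> omega
    have hb : (a⁻¹ * a⁻¹) * (a⁻¹ * a⁻¹) ^ q = 1 := by
      rw [mul_pow, mul_mul_mul_comm, inv_norm_one hF ha, mul_one]
    obtain ⟨t, ht, -, htr⟩ := exists_torus hF hU hDU (c := ![a, a, a⁻¹ * a⁻¹])
      (fun i => by fin_cases i <;> first | exact ha | exact hb) (by simp; field_simp)
    obtain ⟨-, z, hz3, hz0, y, hy, htz⟩ := hinv t ht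
    simp only [Matrix.cons_val_zero, Matrix.cons_val_one, Matrix.cons_val_two, Matrix.head_cons,
      Matrix.tail_cons] at htr
    rw [mem_subfield_iff, hFQ] at hz3 hy
    have haq : a ^ q = a⁻¹ := eq_inv_of_mul_eq_one_right ha
    -- the multiplier
    set w := z ^ q / z with hw
    have hw3 : w ^ 3 = 1 := by
      rw [hw, div_pow, ← pow_mul, mul_comm, pow_mul, hz3, div_self (pow_ne_zero _ hz0)]
    have hS : (a + a + a⁻¹ * a⁻¹) ^ q = w * (a + a + a⁻¹ * a⁻¹) := by
      rw [← htr, htz, mul_pow, hy, hw]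
      field_simp
    rw [add_pow_q hF, add_pow_q hF, mul_pow, inv_pow, haq, inv_inv] at hS
    have hR : 2 * a + a ^ 4 - 2 * w * a ^ 3 - w = 0 := by
      field_simp at hS
      linear_combination hS
    have hprod : (1 - w * a ^ 2) ^ 2 * (a - w) = 0 := by
      linear_combination (1 + w ^ 2 * a) * hR + (2 * a ^ 4 + a - a ^ 4) * hw3
    rcases mul_eq_zero.mp hprod with h | h
    · apply ha6
      have h1 : w * a ^ 2 = 1 := (sub_eq_zero.mp (pow_eq_zero_iff two_ne_zero |>.mp h)).symm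
      calc a ^ 6 = (w * a ^ 2) ^ 3 := by rw [mul_pow, hw3]; ring
        _ = 1 := by rw [h1, one_pow]
    · apply ha6
      rw [sub_eq_zero.mp h, show w ^ 6 = (w ^ 3) ^ 2 by ring, hw3, one_pow]

/-- Frame stabilisers do not normalise groups of order `27`. -/
lemma frame_not_R (hF : Fintype.card F = q ^ 2) (hq : 3 ≤ q) (h5 : q ≠ 5)
    {D : Fin 3 → Submodule F (Fin 3 → F)} (hD : IsNondegenerateMDecomposition (hermForm 3 F q) 1 D)
    {R : Subgroup (GL (Fin 3) F)} (h : RSetup q R) :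
    ¬ decompositionStabilizer D ⊓ SU3 F q ≤ subgroupNormalizer R := by
  intro hle
  have h1 := Subgroup.card_le_of_le (le_inf hle inf_le_right)
  rw [frame_card hF hD] at h1
  have h2 := Nat.le_of_dvd (by norm_num) h.card_dvd
  have hmod := h.mod
  have hpr := h.prime
  have h11 : 11 ≤ q := by
    by_contra hlt
    have hlt' : q < 11 := by omega
    interval_cases q <;> first | omega | norm_num at hpr
  have := Nat.pow_le_pow_left (show 12 ≤ q + 1 by omega) 2
  omega

/-- Point stabilisers do not normalise groups of order `27`. -/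
lemma line_not_R (hF : Fintype.card F = q ^ 2) (hq : 3 ≤ q) {W : Submodule F (Fin 3 → F)}
    (hW : Module.finrank F W = 1) {R : Subgroup (GL (Fin 3) F)} (h : RSetup q R) :
    ¬ subspaceStabilizer W ⊓ SU3 F q ≤ subgroupNormalizer R := by
  intro hle
  haveI := Fact.mk h.prime
  haveI := Cfsg.Agent.Lib.PrimeDim.SU3Model.charP_of_card (p := q) hF
  obtain ⟨v, hv0, hv, htv⟩ := exists_line_tv hF hW
  obtain ⟨lam, hlam0, hlam⟩ := exists_trace_zero_ne_zero hF
  obtain ⟨t, ht, htx⟩ := htv lam hlam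
  have hpow : ∀ (k : ℕ), TvElt q v ((k : F) * lam) (t ^ k) := by
    intro k
    induction k with
    | zero => intro x; simp
    | succ k ih =>
      intro x
      rw [pow_succ', Units.val_mul, ← Matrix.mulVec_mulVec, ih, htx, herm_add_left, herm_smul_left, hv, mul_zero,
        add_zero, add_assoc, ← add_smul]
      congr 2
      push_cast
      ring
  have hord : orderOf t = q := by
    refine orderOf_eq_prime ?_ ?_
    · exact ((hpow q).eq_one_iff hF hv0).mpr (by rw [CharP.cast_eq_zero, zero_mul])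
    · exact fun e => hlam0 ((htx.eq_one_iff hF hv0).mp e)
  set X := (subgroupNormalizer R ⊓ SU3 F q : Subgroup (GL (Fin 3) F))
  have hmem : t ∈ X := ⟨hle ht, ht.2⟩
  have hdvd : q ∣ 648 := by
    rw [← hord]
    have := orderOf_dvd_natCard (⟨t, hmem⟩ : X)
    rw [← Subgroup.orderOf_coe] at this
    exact this.trans h.card_dvd
  rw [show 648 = 2 ^ 3 * 3 ^ 4 by norm_num] at hdvd
  have hmod := h.mod
  rcases (Nat.Prime.dvd_mul h.prime).mp hdvd with e | e
  · have := (Nat.prime_dvd_prime_iff_eq h.prime Nat.prime_two).mp (h.prime.dvd_of_dvd_pow e)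
    omega
  · have := (Nat.prime_dvd_prime_iff_eq h.prime Nat.prime_three).mp (h.prime.dvd_of_dvd_pow e)
    omega

end Cfsg.Agent.Lib.SU3Max96
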