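import Cfsg.Agent.Lib.SU3Max96.SmallAut
import Cfsg.Agent.Lib.SU3Max96.Frame

set_option autoImplicit false
set_option linter.style.haveILetI false
set_option linter.unusedSectionVars false
set_option linter.unusedVariables false

/-!
Maximal subgroups of the residual class: the action on the simple socle.
-/

namespace Cfsg.Agent.Lib.SU3Max96

open Cfsg.Geo Cfsg.Agent.Lib.PrimeDim.Basic Cfsg.Agent.Lib.PrimeDim.Fields Cfsg.Agent.Lib.PrimeDim.Unitary
open Cfsg.Agent.Lib.PrimeDim.UnitaryBase Cfsg.Agent.Lib.PrimeDim.Symplectic Cfsg.Agent.Lib.Unitary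
open scoped Matrix MatrixGroups commutatorElement

variable {F : Type*} [Field F] [Fintype F] {q : ℕ}

/-- The socle modulo scalars. -/
abbrev Socle (P : Subgroup (GL (Fin 3) F)) : Type _ := P ⧸ (scalars (Fin 3) F).subgroupOf P

/-- The alternatives for a residual core in dimension three. -/
def CoreTypes (q : ℕ) (P : Subgroup (GL (Fin 3) F)) : Prop :=
  (Nonempty (Socle P ≃* Matrix.ProjectiveSpecialLinearGroup (Fin 3) (ZMod 2)) ∧ q ≠ 5 ∧
      (q % 7 = 3 ∨ q % 7 = 5 ∨ q % 7 = 6)) ∨
  (Nonempty (Socle P ≃* alternatingGroup (Fin 6)) ∧ (q % 15 = 11 ∨ q % 15 = 14 ∨ q = 5)) ∨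
  (Nonempty (Socle P ≃* alternatingGroup (Fin 7)) ∧ q = 5)

/-- Scalars in the special unitary group. -/
lemma card_scalar_dvd {Z : Subgroup (GL (Fin 3) F)} (hZ : Z ≤ SU3 F q) (hs : Z ≤ scalars (Fin 3) F) :
    Nat.card Z ∣ 3 := by
  let ψ : Z →* Fˣ :=
    { toFun := fun g => Units.mk0 (g.1.val 0 0) (by
        obtain ⟨c, hc⟩ := (mem_scalars_iff _).mp (hs g.2)
        rw [hc]; simp)
      map_one' := Units.ext (by simp)
      map_mul' := fun a b => Units.ext (by
        obtain ⟨c, hc⟩ := (mem_scalars_iff _).mp (hs a.2)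
        show (a.1.val * b.1.val) 0 0 = a.1.val 0 0 * b.1.val 0 0
        rw [hc, Matrix.smul_mul, one_mul]
        simp) }
  have hψ : Function.Injective ψ := by
    intro a b e
    obtain ⟨c, hc⟩ := (mem_scalars_iff _).mp (hs a.2)
    obtain ⟨d, hd⟩ := (mem_scalars_iff _).mp (hs b.2)
    have e' : a.1.val 0 0 = b.1.val 0 0 := congrArg Units.val e
    rw [hc, hd] at e'
    refine Subtype.ext (Units.ext ?_)
    rw [hc, hd, show (c : F) = d by simpa using e']
  haveI : IsCyclic Z := isCyclic_of_injective ψ hψ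
  rw [← IsCyclic.exponent_eq_card]
  refine Monoid.exponent_dvd_of_forall_pow_eq_one fun g => ?_
  obtain ⟨c, hc⟩ := (mem_scalars_iff _).mp (hs g.2)
  have hd := mem_specialLinear.mp (hZ g.2).2
  rw [hc, Matrix.det_smul, Matrix.det_one, mul_one, Fintype.card_fin] at hd
  refine Subtype.ext (Units.ext ?_)
  show (g.1 ^ 3 : GL (Fin 3) F).val = 1
  rw [Units.val_pow_eq_pow_val, hc, smul_pow, hd, one_pow, one_smul]

/-- In characteristic three scalars of determinant one are trivial. -/
lemma scalar_eq_one [CharP F 3] {g : GL (Fin 3) F} (hg : g ∈ SU3 F q) (hs : g ∈ scalars (Fin 3) F) : g = 1 := by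
  haveI : Fact (Nat.Prime 3) := ⟨Nat.prime_three⟩
  obtain ⟨c, hc⟩ := (mem_scalars_iff _).mp hs
  have hd := mem_specialLinear.mp hg.2
  rw [hc, Matrix.det_smul, Matrix.det_one, mul_one, Fintype.card_fin] at hd
  have hc1 : (c : F) = 1 := frobenius_inj F 3 (by simp only [frobenius_def, one_pow, hd])
  exact Units.ext (by rw [hc, hc1, one_smul, Units.val_one])

namespace Residual

variable {X P : Subgroup (GL (Fin 3) F)} (hP : IsResidualCore X P)

/-- Conjugation on the core. -/
def conjP (h : X) : P ≃* P where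
  toFun x := ⟨h.1 * x.1 * h.1⁻¹, hP.normal h.1 h.2 x.1 x.2⟩
  invFun x := ⟨h.1⁻¹ * x.1 * h.1, by simpa using hP.normal h.1⁻¹ (inv_mem h.2) x.1 x.2⟩
  left_inv x := Subtype.ext (by simp [mul_assoc])
  right_inv x := Subtype.ext (by simp [mul_assoc])
  map_mul' x y := Subtype.ext (by simp [mul_assoc])

lemma conjP_map (h : X) : ((scalars (Fin 3) F).subgroupOf P).map (conjP hP h).toMonoidHom =
    (scalars (Fin 3) F).subgroupOf P := by
  ext x
  constructor
  · rintro ⟨y, hy, rfl⟩
    show h.1 * y.1 * h.1⁻¹ ∈ scalars (Fin 3) F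
    rw [← scalar_comm (show y.1 ∈ scalars (Fin 3) F from hy) h.1, mul_inv_cancel_right]
    exact hy
  · intro hx
    refine ⟨(conjP hP h).symm x, ?_, (conjP hP h).apply_symm_apply x⟩
    show h.1⁻¹ * x.1 * h.1 ∈ scalars (Fin 3) F
    rw [← scalar_comm (show x.1 ∈ scalars (Fin 3) F from hx) h.1⁻¹, inv_mul_cancel_right]
    exact hx

/-- The action on the socle. -/
def autHom : X →* MulAut (Socle P) := MonoidHom.mk'
  (fun h => QuotientGroup.congr _ _ (conjP hP h) (conjP_map hP h))
  (fun g h => MulEquiv.ext fun x => by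
    induction x using QuotientGroup.induction_on with
    | H x =>
      show QuotientGroup.mk _ = QuotientGroup.mk _
      exact congrArg _ (Subtype.ext (by simp [conjP, mul_assoc])))

lemma autHom_mk (h : X) (x : P) :
    autHom hP h (QuotientGroup.mk x) = QuotientGroup.mk ⟨h.1 * x.1 * h.1⁻¹, hP.normal h.1 h.2 x.1 x.2⟩ := rfl

lemma autHom_eq_one (h : X) : autHom hP h = 1 ↔ h.1 ∈ scalars (Fin 3) F := by
  constructor
  · intro e
    refine hP.centralizer_scalar h.1 h.2 fun x hx => ?_
    have h1 : autHom hP h (QuotientGroup.mk ⟨x, hx⟩) = QuotientGroup.mk (⟨x, hx⟩ : P) := by rw [e]; rfl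
    rw [autHom_mk, QuotientGroup.eq_iff_div_mem, Subgroup.mem_subgroupOf] at h1
    simpa [div_eq_mul_inv] using h1
  · intro hs
    refine MulEquiv.ext fun x => ?_
    induction x using QuotientGroup.induction_on with
    | H x =>
      rw [autHom_mk]
      exact congrArg _ (Subtype.ext (by show h.1 * x.1 * h.1⁻¹ = x.1; rw [scalar_comm hs x.1, mul_inv_cancel_right]))

lemma autHom_inner (x : P) : autHom hP ⟨x.1, hP.le x.2⟩ = MulAut.conj (QuotientGroup.mk x) := by
  refine MulEquiv.ext fun y => ?_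
  induction y using QuotientGroup.induction_on with
  | H y => rfl

include hP in
/-- The order of a subgroup of the maximal subgroup. -/
lemma card_dvd_kernel {M : Subgroup (GL (Fin 3) F)} (hM : M ≤ X) :
    ∃ Z : Subgroup (GL (Fin 3) F), Z ≤ M ∧ Z ≤ scalars (Fin 3) F ∧
      Nat.card M = Nat.card Z * Nat.card ((autHom hP).comp (Subgroup.inclusion hM)).range := by
  set φ := (autHom hP).comp (Subgroup.inclusion hM) with hφ
  refine ⟨φ.ker.map M.subtype, Subgroup.map_subtype_le _, ?_, ?_⟩
  · rintro _ ⟨g, hg, rfl⟩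
    exact (autHom_eq_one hP _).mp hg
  · rw [← Nat.card_congr (φ.ker.equivMapOfInjective _ M.subtype_injective).toEquiv, ← Subgroup.index_ker,
      Subgroup.card_mul_index]

include hP in
lemma card_dvd (hXG : X ≤ SU3 F q) {M : Subgroup (GL (Fin 3) F)} (hM : M ≤ X) :
    Nat.card M ∣ 3 * Nat.card (MulAut (Socle P)) := by
  obtain ⟨Z, hZM, hZs, he⟩ := card_dvd_kernel hP hM
  rw [he]
  exact mul_dvd_mul (card_scalar_dvd ((hZM.trans hM).trans hXG) hZs) (Subgroup.card_subgroup_dvd_card _)

include hP in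
lemma card_dvd_char_three [CharP F 3] (hXG : X ≤ SU3 F q) {M : Subgroup (GL (Fin 3) F)} (hM : M ≤ X) :
    Nat.card M ∣ Nat.card (MulAut (Socle P)) := by
  obtain ⟨Z, hZM, hZs, he⟩ := card_dvd_kernel hP hM
  have hZ : Z = ⊥ := by
    rw [eq_bot_iff]
    exact fun g hg => Subgroup.mem_bot.mpr (scalar_eq_one (hXG (hM (hZM hg))) (hZs hg))
  rw [he, hZ, Subgroup.card_bot, one_mul]
  exact Subgroup.card_subgroup_dvd_card _

variable {A : Type*} [Group A] (e : Socle P ≃* A)

/-- The action transported to a model of the socle. -/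
def modelHom : X →* MulAut A := (MulAut.congr e).toMonoidHom.comp (autHom hP)

lemma modelHom_apply (h : X) (a : A) : modelHom hP e h a = e (autHom hP h (e.symm a)) := rfl

lemma modelHom_eq_one (h : X) : modelHom hP e h = 1 ↔ h.1 ∈ scalars (Fin 3) F := by
  rw [← autHom_eq_one hP h]
  exact map_eq_one_iff _ (MulAut.congr e).injective

lemma modelHom_surj (a : A) : ∃ x : P, modelHom hP e ⟨x.1, hP.le x.2⟩ = MulAut.conj a := by
  obtain ⟨x, hx⟩ := QuotientGroup.mk_surjective (e.symm a)
  refine ⟨x, MulEquiv.ext fun b => ?_⟩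
  rw [modelHom_apply, autHom_inner, MulAut.conj_apply, MulAut.conj_apply, map_mul, map_mul, map_inv, hx,
    e.apply_symm_apply, e.apply_symm_apply]

end Residual

/-- Inner automorphisms form a normal subgroup: elements of coprime order are inner. -/
lemma inner_of_coprime {A : Type*} [Group A] [Finite A] {α : MulAut A} {k : ℕ} (hα : α ^ k = 1)
    (hk : Nat.Coprime k (MulAut.conj : A →* MulAut A).range.index) : ∃ a : A, MulAut.conj a = α := by
  haveI : (MulAut.conj : A →* MulAut A).range.Normal := by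
    refine ⟨?_⟩
    rintro _ ⟨a, rfl⟩ g
    exact ⟨g a, MulEquiv.ext fun b => by simp [MulAut.mul_apply, MulAut.inv_def]⟩
  rw [← MonoidHom.mem_range, ← QuotientGroup.eq_one_iff, ← orderOf_eq_one_iff]
  refine Nat.eq_one_of_dvd_coprimes hk ?_ ?_
  · refine orderOf_dvd_of_pow_eq_one ?_
    rw [← QuotientGroup.mk_pow, hα, QuotientGroup.mk_one]
  · exact orderOf_dvd_natCard _

/-- The alternating groups on six and seven points have trivial centre. -/
lemma conj_injective_alt {n : ℕ} (hn : 5 ≤ n) :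
    Function.Injective (MulAut.conj : alternatingGroup (Fin n) →* MulAut (alternatingGroup (Fin n))) := by
  haveI : IsSimpleGroup (alternatingGroup (Fin n)) := alternatingGroup.isSimpleGroup (by simpa using hn)
  rw [injective_iff_map_eq_one]
  intro a ha
  have hc : a ∈ Subgroup.center (alternatingGroup (Fin n)) := Subgroup.mem_center_iff.mpr fun b => by
    have h := congrArg (fun f : MulAut (alternatingGroup (Fin n)) => f b) ha
    simp only [MulAut.conj_apply, MulAut.one_apply] at h
    exact (mul_inv_eq_iff_eq_mul.mp h).symm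
  rcases (inferInstance : (Subgroup.center (alternatingGroup (Fin n))).Normal).eq_bot_or_eq_top with e | e
  · rwa [e, Subgroup.mem_bot] at hc
  · exfalso
    have h5 : ∃ x y : alternatingGroup (Fin n), x * y ≠ y * x := by
      let i : Fin 5 → Fin n := fun j => ⟨j, lt_of_lt_of_le j.2 hn⟩
      have hi : ∀ a b, a ≠ b → i a ≠ i b := fun a b h h' => h (Fin.ext (congrArg (fun t : Fin n => (t : ℕ)) h'))
      refine ⟨⟨Equiv.swap (i 0) (i 1) * Equiv.swap (i 1) (i 2), ?_⟩,
        ⟨Equiv.swap (i 2) (i 3) * Equiv.swap (i 3) (i 4), ?_⟩, fun h => ?_⟩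
      · rw [Equiv.Perm.mem_alternatingGroup, map_mul, Equiv.Perm.sign_swap (hi _ _ (by decide)),
          Equiv.Perm.sign_swap (hi _ _ (by decide))]
        rfl
      · rw [Equiv.Perm.mem_alternatingGroup, map_mul, Equiv.Perm.sign_swap (hi _ _ (by decide)),
          Equiv.Perm.sign_swap (hi _ _ (by decide))]
        rfl
      · have h1 := congrArg (fun t : alternatingGroup (Fin n) => t.1 (i 2)) h
        simp [Equiv.swap_apply_def, hi] at h1
    obtain ⟨x, y, hxy⟩ := h5
    exact hxy (Subgroup.mem_center_iff.mp (show y ∈ Subgroup.center _ from e ▸ Subgroup.mem_top y) x)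

end Cfsg.Agent.Lib.SU3Max96
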