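import Cfsg.Agent.Lib.SU3Max96.RGroup

set_option autoImplicit false
set_option linter.style.haveILetI false
set_option linter.unusedSectionVars false
set_option linter.unusedVariables false

/-!
Elements of order four in the normaliser of a group of order `27`.
-/

namespace Cfsg.Agent.Lib.SU3Max96

open Cfsg.Geo Cfsg.Agent.Lib.PrimeDim.Basic Cfsg.Agent.Lib.PrimeDim.Fields Cfsg.Agent.Lib.PrimeDim.Unitary
open Cfsg.Agent.Lib.PrimeDim.UnitaryBase Cfsg.Agent.Lib.PrimeDim.Symplectic Cfsg.Agent.Lib.Unitary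
open scoped Matrix MatrixGroups commutatorElement

variable {F : Type*} [Field F] [Fintype F] {q : ℕ}

lemma cube_root_pow (hq : q % 3 = 2) {η : F} (hη : η ^ 3 = 1) : η ^ q = η ^ 2 := by
  conv_lhs => rw [← Nat.div_add_mod q 3, hq, pow_add, pow_mul, hη, one_pow, one_mul]

/-- The discrete Fourier matrix in `SU(3, q)`. -/
lemma exists_fourier_std (hF : Fintype.card F = q ^ 2) (hq : q % 3 = 2) {η : F} (hη : η ^ 3 = 1) (hη1 : η ≠ 1) :
    ∃ (g : GL (Fin 3) F) (l : F), g ∈ SU3 F q ∧ g.val = l • !![1, 1, 1; 1, η, η ^ 2; 1, η ^ 2, η] := by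
  have hs : η ^ 2 + η + 1 = 0 := by
    have h : (η - 1) * (η ^ 2 + η + 1) = 0 := by linear_combination hη
    exact (mul_eq_zero.mp h).resolve_left (sub_ne_zero.mpr hη1)
  have hηq := cube_root_pow hq hη
  have hd0 : η - η ^ 2 ≠ 0 := by
    intro h
    have h0 : η ≠ 0 := fun e => by simp [e] at hη
    exact hη1 (mul_left_cancel₀ h0 (by linear_combination -h))
  set l := (η - η ^ 2)⁻¹ with hl
  have hlq : l ^ q = -l := by
    rw [hl, inv_pow, sub_pow_q hF, ← pow_mul, mul_comm 2 q, pow_mul, hηq, ← inv_neg]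
    congr 1
    linear_combination (-η) * hη
  have h3l : 3 * (-(l * l)) = 1 := by
    have : l * (η - η ^ 2) = 1 := inv_mul_cancel₀ hd0
    have e : (η - η ^ 2) * (η - η ^ 2) = -3 := by linear_combination (η ^ 2 - 3 * η + 3) * hs
    linear_combination (-(l * l)) * e + (l * (η - η ^ 2) + 1) * this
  have h1q := one_lt_q hF
  set M : Matrix (Fin 3) (Fin 3) F := !![1, 1, 1; 1, η, η ^ 2; 1, η ^ 2, η] with hM
  have h2q : (η ^ 2) ^ q = η := by
    rw [← pow_mul, mul_comm, pow_mul, hηq]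
    linear_combination η * hη
  have horth : Orthonormal' q (fun j i => l * M i j) := by
    intro i j
    simp only [hermForm, Fin.sum_univ_three, mul_pow, hlq]
    fin_cases i <;> fin_cases j <;> simp [hM, hηq, h2q]
    · linear_combination h3l
    · linear_combination (-(l * l)) * hs
    · linear_combination (-(l * l)) * hs
    · linear_combination (-(l * l)) * hs
    · linear_combination h3l + (-(2 * (l * l))) * hη
    · linear_combination (-(l * l)) * hs - (l * l * η) * hη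
    · linear_combination (-(l * l)) * hs
    · linear_combination (-(l * l)) * hs - (l * l * η) * hη
    · linear_combination h3l + (-(2 * (l * l))) * hη
  obtain ⟨A, hA⟩ := exists_GU_cols hF horth
  have hval : A.1.val = l • M := by
    refine Matrix.ext_of_mulVec_single fun j => ?_
    rw [hA]
    funext i
    simp
  refine ⟨A.1, l, ⟨A.2, mem_specialLinear.mpr ?_⟩, hval⟩
  rw [hval, hM, Matrix.det_fin_three]
  simp
  have hlu : l * (η - η ^ 2) = 1 := inv_mul_cancel₀ hd0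
  linear_combination (l * (η - η ^ 2)) * h3l + hlu - (l ^ 3 * η) * hη

namespace RSetup

variable {R : Subgroup (GL (Fin 3) F)} (h : RSetup q R)
include h

/-- For two non-commuting elements there is an element of the normaliser sending one to a power of the other. -/
theorem exists_fourier (hF : Fintype.card F = q ^ 2) {X Y : GL (Fin 3) F} (hX : X ∈ R) (hY : Y ∈ R)
    (hXY : X * Y ≠ Y * X) :
    ∃ g ∈ subgroupNormalizer R ⊓ SU3 F q, g * X * g⁻¹ = Y⁻¹ ∧ g * Y * g⁻¹ = X := by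
  classical
  have hXs : X ∉ scalars (Fin 3) F := fun hs => hXY (scalar_comm hs Y)
  obtain ⟨v, hv0, hXv⟩ := h.exists_fixed hX hXs
  set z := Y * X * Y⁻¹ * X⁻¹ with hz
  have hzs : z ∈ scalars (Fin 3) F := h.comm (Subgroup.commutator_mem_commutator hY hX)
  obtain ⟨ω, hω⟩ := (mem_scalars_iff z).mp hzs
  have hz3 : z ^ 3 = 1 := h.pow_three (mul_mem (mul_mem (mul_mem hY hX) (inv_mem hY)) (inv_mem hX))
  have hω3 : (ω : F) ^ 3 = 1 := by
    have e := congrArg (fun t : GL (Fin 3) F => t.val 0 0) hz3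
    simpa [Units.val_pow_eq_pow_val, hω, smul_pow] using e
  have hω1 : (ω : F) ≠ 1 := by
    intro e
    apply hXY
    have hz1 : z = 1 := Units.ext (by rw [hω, e, one_smul, Units.val_one])
    rw [hz, mul_inv_eq_one, mul_inv_eq_iff_eq_mul] at hz1
    exact hz1.symm
  set η : F := ((ω : F))⁻¹ with hη
  have hη3 : η ^ 3 = 1 := by rw [hη, inv_pow, hω3, inv_one]
  have hη1 : η ≠ 1 := fun e => hω1 (inv_eq_one.mp e)
  have hηq := cube_root_pow h.mod hη3
  have hXYv : ∀ w, X.val *ᵥ (Y.val *ᵥ w) = η • (Y.val *ᵥ (X.val *ᵥ w)) := by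
    intro w
    have e : z * (X * Y) = Y * X := by rw [hz]; group
    have e2 := congrArg (fun t : GL (Fin 3) F => t.val *ᵥ w) e
    simp only [Units.val_mul, hω, Matrix.smul_mul, one_mul, Matrix.smul_mulVec, ← Matrix.mulVec_mulVec] at e2
    rw [← e2, hη, smul_smul, inv_mul_cancel₀ ω.ne_zero, one_smul]
  let b : Fin 3 → Fin 3 → F := ![v, Y.val *ᵥ v, Y.val *ᵥ (Y.val *ᵥ v)]
  have hXb : ∀ i : Fin 3, X.val *ᵥ b i = η ^ (i : ℕ) • b i := by
    intro i
    fin_cases i
    · simp [b, hXv]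
    · show X.val *ᵥ (Y.val *ᵥ v) = η ^ 1 • (Y.val *ᵥ v)
      rw [hXYv, hXv, pow_one]
    · show X.val *ᵥ (Y.val *ᵥ (Y.val *ᵥ v)) = η ^ 2 • (Y.val *ᵥ (Y.val *ᵥ v))
      rw [hXYv, hXYv, hXv, Matrix.mulVec_smul, smul_smul, sq]
  have hYb : ∀ i : Fin 3, Y.val *ᵥ b i = b (i + 1) := by
    intro i
    fin_cases i <;> simp [b]
    rw [← Units.val_mul, ← Units.val_mul, show Y * (Y * Y) = Y ^ 3 by rw [pow_succ', pow_two], h.pow_three hY,
      Units.val_one, Matrix.one_mulVec]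
  have hb0 : ∀ i, b i ≠ 0 := by
    intro i
    have hinj : ∀ w, w ≠ 0 → Y.val *ᵥ w ≠ 0 := fun w hw e => hw (by rw [← inv_mulVec_cancel Y w, e, Matrix.mulVec_zero])
    fin_cases i
    · exact hv0
    · exact hinj _ hv0
    · exact hinj _ (hinj _ hv0)
  have hinjη : Function.Injective fun i : Fin 3 => η ^ (i : ℕ) := by
    have hprim : IsPrimitiveRoot η 3 := by
      have e := orderOf_eq_prime hη3 hη1
      exact e ▸ IsPrimitiveRoot.orderOf η
    exact fun a c e => Fin.ext (hprim.pow_inj a.isLt c.isLt e)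
  have hli : LinearIndependent F b := Module.End.eigenvectors_linearIndependent' (Matrix.toLin' X.val) _ hinjη b
    fun k => ⟨Module.End.mem_eigenspace_iff.mpr (by simpa using hXb k), hb0 k⟩
  have horth : ∀ i j, i ≠ j → hermForm 3 F q (b i) (b j) = 0 := by
    intro i j hij
    have e := mem_GU_iff.mp (h.le hX).1 (b i) (b j)
    rw [hXb, hXb, herm_smul_left, herm_smul_right, ← mul_assoc] at e
    by_contra hne
    have e1 := (mul_eq_right₀ hne).mp e
    apply hij
    apply hinjη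
    show η ^ (i : ℕ) = η ^ (j : ℕ)
    have e2 : (η ^ (j : ℕ)) ^ q * η ^ (j : ℕ) = 1 := by
      rw [← pow_mul, mul_comm (j : ℕ) q, pow_mul, hηq, ← mul_pow, ← pow_succ, hη3, one_pow]
    calc η ^ (i : ℕ) = η ^ (i : ℕ) * ((η ^ (j : ℕ)) ^ q * η ^ (j : ℕ)) := by rw [e2, mul_one]
      _ = η ^ (j : ℕ) := by rw [← mul_assoc, e1, one_mul]
  have hdiag : ∀ i, hermForm 3 F q (b i) (b i) = hermForm 3 F q v v := by
    have hpres : ∀ w, hermForm 3 F q (Y.val *ᵥ w) (Y.val *ᵥ w) = hermForm 3 F q w w :=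
      fun w => mem_GU_iff.mp (h.le hY).1 w w
    intro i
    fin_cases i
    · rfl
    · exact hpres v
    · exact (hpres _).trans (hpres v)
  have hd0 : hermForm 3 F q v v ≠ 0 := by
    intro h0
    refine hv0 (herm_nondeg_left hF fun x => ?_)
    have hx : x ∈ Submodule.span F (Set.range b) := by
      rw [hli.span_eq_top_of_card_eq_finrank (by simp)]; exact Submodule.mem_top
    obtain ⟨c, rfl⟩ := (Submodule.mem_span_range_iff_exists_fun F).mp hx
    rw [herm_sum_right _ hF]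
    refine Finset.sum_eq_zero fun i _ => ?_
    rw [herm_smul_right]
    by_cases hi : (0 : Fin 3) = i
    · subst hi
      show c 0 ^ q * hermForm 3 F q v v = 0
      rw [h0, mul_zero]
    · exact mul_eq_zero_of_right _ (horth 0 i hi)
  obtain ⟨ν, hν⟩ := norm_surj hF (y := (hermForm 3 F q v v)⁻¹) (by rw [inv_pow, herm_self_fixed v hF])
  obtain ⟨U, hU⟩ := exists_GU_cols hF (f := fun i => ν • b i) (fun i j => by
    rw [herm_smul_left, herm_smul_right, ← mul_assoc, hν]
    by_cases hij : i = j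
    · subst hij; rw [if_pos rfl, hdiag, inv_mul_cancel₀ hd0]
    · rw [if_neg hij, horth i j hij, mul_zero])
  obtain ⟨g₀, l, hg₀, hg₀v⟩ := exists_fourier_std hF h.mod hη3 hη1
  set g := U.1 * g₀ * U.1⁻¹ with hg
  have hXU : (U.1⁻¹ * X * U.1).val = Matrix.diagonal fun i : Fin 3 => η ^ (i : ℕ) := by
    refine Matrix.ext_of_mulVec_single fun j => ?_
    rw [Units.val_mul, Units.val_mul, ← Matrix.mulVec_mulVec, hU, Matrix.mulVec_smul, ← Matrix.mulVec_mulVec, hXb,
      Matrix.mulVec_smul, smul_comm, ← Matrix.mulVec_smul, ← hU, inv_mulVec_cancel]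
    funext i
    by_cases hij : i = j
    · subst hij; simp
    · simp [hij]
  have hYU : (U.1⁻¹ * Y * U.1).val = !![0, 0, 1; 1, 0, 0; 0, 1, 0] := by
    refine Matrix.ext_of_mulVec_single fun j => ?_
    rw [Units.val_mul, Units.val_mul, ← Matrix.mulVec_mulVec, hU, Matrix.mulVec_smul, ← Matrix.mulVec_mulVec, hYb,
      ← Matrix.mulVec_smul, ← hU, inv_mulVec_cancel]
    funext i
    fin_cases i <;> fin_cases j <;> simp
  have hη4 : η ^ 2 * η ^ 2 = η := by linear_combination η * hη3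
  have hη21 : η ^ 2 * η = 1 := by linear_combination hη3
  have hη12 : η * η ^ 2 = 1 := by linear_combination hη3
  have m1 : U.1⁻¹ * Y * U.1 * g₀ * (U.1⁻¹ * X * U.1) = g₀ := Units.ext (by
    rw [Units.val_mul (U.1⁻¹ * Y * U.1 * g₀), Units.val_mul (U.1⁻¹ * Y * U.1), hXU, hYU, hg₀v, Matrix.mul_smul,
      Matrix.smul_mul]
    congr 1
    ext i j
    fin_cases i <;> fin_cases j <;>
      simp [Matrix.mul_apply, Fin.sum_univ_three, hη4, hη21, hη12, ← sq])
  have m2 : g₀ * (U.1⁻¹ * Y * U.1) = U.1⁻¹ * X * U.1 * g₀ := Units.ext (by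
    rw [Units.val_mul g₀, Units.val_mul (U.1⁻¹ * X * U.1), hXU, hYU, hg₀v, Matrix.mul_smul, Matrix.smul_mul]
    congr 1
    ext i j
    fin_cases i <;> fin_cases j <;>
      simp [Matrix.mul_apply, Fin.sum_univ_three, hη4, hη21, hη12, ← sq])
  have e1 : Y * g * X = g := by
    calc Y * g * X = U.1 * (U.1⁻¹ * Y * U.1 * g₀ * (U.1⁻¹ * X * U.1)) * U.1⁻¹ := by rw [hg]; group
      _ = g := by rw [m1]
  have e2 : g * Y = X * g := by
    calc g * Y = U.1 * (g₀ * (U.1⁻¹ * Y * U.1)) * U.1⁻¹ := by rw [hg]; group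
      _ = U.1 * (U.1⁻¹ * X * U.1 * g₀) * U.1⁻¹ := by rw [m2]
      _ = X * g := by rw [hg]; group
  have hgX : g * X * g⁻¹ = Y⁻¹ := by
    rw [mul_inv_eq_iff_eq_mul, eq_inv_mul_iff_mul_eq, ← mul_assoc, e1]
  have hgY : g * Y * g⁻¹ = X := by rw [e2, mul_inv_cancel_right]
  refine ⟨g, ⟨?_, (conj_mem_iff U.2).mpr hg₀⟩, hgX, hgY⟩
  have hcl : Subgroup.closure {X, Y} = R := h.eq_of_noncomm
    ((Subgroup.closure_le _).mpr (Set.insert_subset hX (Set.singleton_subset_iff.mpr hY)))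
    (Subgroup.subset_closure (Set.mem_insert X {Y})) (Subgroup.subset_closure (Set.mem_insert_of_mem X rfl)) hXY
  have hle : R.map (MulAut.conj g).toMonoidHom ≤ R := by
    conv_lhs => rw [← hcl, MonoidHom.map_closure]
    rw [Subgroup.closure_le, Set.image_subset_iff]
    intro t ht
    rcases ht with rfl | rfl
    · show g * t * g⁻¹ ∈ R
      rw [hgX]; exact inv_mem hY
    · show g * t * g⁻¹ ∈ R
      rw [hgY]; exact hX
  have heq : R.map (MulAut.conj g).toMonoidHom = R := Subgroup.eq_of_le_of_card_ge hle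
    (by rw [Subgroup.card_map_of_injective (MulAut.conj g).injective])
  show g ∈ Subgroup.normalizer (R : Set (GL (Fin 3) F))
  rw [Subgroup.mem_normalizer_iff]
  intro t
  constructor
  · intro ht
    exact heq ▸ Subgroup.mem_map_of_mem (MulAut.conj g).toMonoidHom ht
  · intro ht
    have ht' : g * t * g⁻¹ ∈ R.map (MulAut.conj g).toMonoidHom := heq.symm ▸ ht
    obtain ⟨s, hs, hst⟩ := Subgroup.mem_map.mp ht'
    rwa [← mul_left_cancel (mul_right_cancel (show g * s * g⁻¹ = g * t * g⁻¹ from hst))]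

/-- An element of the normaliser moving every non-central element of `R` off its centraliser. -/
theorem exists_fpf (hF : Fintype.card F = q ^ 2) :
    ∃ g ∈ subgroupNormalizer R ⊓ SU3 F q, ∀ a ∈ R, a * (g * a * g⁻¹) = g * a * g⁻¹ * a → a ∈ scalars (Fin 3) F := by
  classical
  obtain ⟨X, hX, Y, hY, hXY⟩ := h.exists_noncomm
  obtain ⟨g, hg, hgX, hgY⟩ := h.exists_fourier hF hX hY hXY
  refine ⟨g, hg, fun a ha hc => ?_⟩
  set π := QuotientGroup.mk' (scalars (Fin 3) F) with hπ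
  have hker : ∀ t, π t = 1 ↔ t ∈ scalars (Fin 3) F := fun t => QuotientGroup.eq_one_iff t
  have hcom : Commute (π X) (π Y) := by
    have e : π (Y * X * Y⁻¹ * X⁻¹) = 1 := (hker _).mpr (h.comm (Subgroup.commutator_mem_commutator hY hX))
    rw [map_mul, map_mul, map_mul, map_inv, map_inv, mul_inv_eq_one, mul_inv_eq_iff_eq_mul] at e
    exact e.symm
  have hX3 : π X ^ 3 = 1 := by rw [← map_pow, h.pow_three hX, map_one]
  have hY3 : π Y ^ 3 = 1 := by rw [← map_pow, h.pow_three hY, map_one]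
  have hcl : Subgroup.closure {X, Y} = R := h.eq_of_noncomm
    ((Subgroup.closure_le _).mpr (Set.insert_subset hX (Set.singleton_subset_iff.mpr hY)))
    (Subgroup.subset_closure (Set.mem_insert X {Y})) (Subgroup.subset_closure (Set.mem_insert_of_mem X rfl)) hXY
  have hform : ∃ i j : ℕ, π a = π X ^ i * π Y ^ j := by
    rw [← hcl] at ha
    clear hc
    induction ha using Subgroup.closure_induction with
    | mem t ht =>
      rcases ht with rfl | rfl
      · exact ⟨1, 0, by simp⟩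
      · exact ⟨0, 1, by simp⟩
    | one => exact ⟨0, 0, by simp⟩
    | mul x y _ _ hx hy =>
      obtain ⟨i, j, hx⟩ := hx
      obtain ⟨k, l, hy⟩ := hy
      exact ⟨i + k, j + l, by rw [map_mul, hx, hy, pow_add, pow_add,
        Commute.mul_mul_mul_comm (hcom.symm.pow_pow j k)]⟩
    | inv x _ hx =>
      obtain ⟨i, j, hx⟩ := hx
      refine ⟨2 * i, 2 * j, ?_⟩
      rw [map_inv, hx, inv_eq_iff_mul_eq_one, Commute.mul_mul_mul_comm (hcom.symm.pow_pow j (2 * i)), ← pow_add,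
        ← pow_add, show i + 2 * i = 3 * i by ring, show j + 2 * j = 3 * j by ring, pow_mul, pow_mul, hX3, hY3,
        one_pow, one_pow, mul_one]
  obtain ⟨i, j, hij⟩ := hform
  rw [pow_eq_pow_mod i hX3, pow_eq_pow_mod j hY3, ← map_pow, ← map_pow, ← map_mul] at hij
  set m := i % 3 with hm
  set n := j % 3 with hn
  set c := (X ^ m * Y ^ n)⁻¹ * a with hcdef
  have hcs : c ∈ scalars (Fin 3) F := (hker c).mp (by rw [hcdef, map_mul, map_inv, hij, inv_mul_cancel])
  have hac : a = X ^ m * Y ^ n * c := by rw [hcdef, mul_inv_cancel_left]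
  have hga : g * a * g⁻¹ = (Y⁻¹) ^ m * X ^ n * c := by
    rw [hac]
    calc g * (X ^ m * Y ^ n * c) * g⁻¹ = g * X ^ m * g⁻¹ * (g * Y ^ n * g⁻¹) * (g * c * g⁻¹) := by group
      _ = (Y⁻¹) ^ m * X ^ n * c := by
        rw [← conj_pow, ← conj_pow, hgX, hgY, ← scalar_comm hcs g, mul_inv_cancel_right]
  rw [hga, hac, mul_assoc (X ^ m * Y ^ n) c, ← mul_assoc c, scalar_comm hcs (Y⁻¹ ^ m * X ^ n), mul_assoc (Y⁻¹ ^ m * X ^ n) c,
    mul_assoc (Y⁻¹ ^ m * X ^ n) c, scalar_comm hcs (X ^ m * Y ^ n * c)] at hc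
  simp only [← mul_assoc] at hc
  have hc' : X ^ m * Y ^ n * (Y⁻¹ ^ m * X ^ n) = Y⁻¹ ^ m * X ^ n * (X ^ m * Y ^ n) :=
    mul_right_cancel (b := c * c) (by simpa [mul_assoc] using hc)
  clear hc hga
  have hx3 : X ^ 3 = 1 := h.pow_three hX
  have hy3 : Y ^ 3 = 1 := h.pow_three hY
  have hyi : Y⁻¹ = Y ^ 2 := inv_eq_iff_mul_eq_one.mpr (by rw [← pow_succ', hy3])
  have hxi : X ^ 2 * X ^ 2 = X := by rw [← pow_add, show 2 + 2 = 3 + 1 from rfl, pow_add, hx3, one_mul, pow_one]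
  have hm3 : m < 3 := Nat.mod_lt _ (by norm_num)
  have hn3 : n < 3 := Nat.mod_lt _ (by norm_num)
  have hXc : ¬ Commute X Y := hXY
  have hX2 : ∀ {t : GL (Fin 3) F}, Commute (X ^ 2) t → Commute X t := fun {t} e => by
    have := e.mul_left e
    rwa [hxi] at this
  have hY2 : ∀ {t : GL (Fin 3) F}, Commute t (Y ^ 2) → Commute t Y := fun {t} e => by
    have h2 := e.mul_right e
    rwa [← pow_add, show 2 + 2 = 3 + 1 from rfl, pow_add, hy3, one_mul, pow_one] at h2
  rcases Nat.eq_zero_or_pos (m + n) with hz | hpos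
  · rw [hac, show m = 0 by omega, show n = 0 by omega, pow_zero, pow_zero, one_mul, one_mul]
    exact hcs
  exfalso
  apply hXc
  interval_cases m <;> interval_cases n
  · omega
  · simp only [pow_zero, pow_one, one_mul] at hc'
    exact (show Commute X Y from hc'.symm)
  · simp only [pow_zero, one_mul, mul_one] at hc'
    exact (hY2 (hX2 (t := Y ^ 2) (show Commute (X ^ 2) (Y ^ 2) from hc'.symm)))
  · simp only [pow_zero, pow_one, one_mul, mul_one, hyi] at hc'
    exact hY2 hc'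
  · simp only [pow_one, hyi] at hc'
    have e1 : X * Y * (Y ^ 2 * X) = X ^ 2 := by
      rw [show X * Y * (Y ^ 2 * X) = X * (Y * Y ^ 2) * X by group, ← pow_succ', hy3, mul_one, sq]
    rw [e1] at hc'
    refine hX2 (hY2 (show Commute (X ^ 2) (Y ^ 2) from ?_))
    show X ^ 2 * Y ^ 2 = Y ^ 2 * X ^ 2
    calc X ^ 2 * Y ^ 2 = Y ^ 2 * X * (X * Y) * Y ^ 2 := by rw [hc']
      _ = Y ^ 2 * X ^ 2 * Y ^ 3 := by simp only [pow_succ, pow_zero, one_mul, mul_assoc]
      _ = Y ^ 2 * X ^ 2 := by rw [hy3, mul_one]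
  · simp only [pow_one, hyi] at hc'
    have e2 : Y ^ 2 * X ^ 2 * (X * Y ^ 2) = Y := by
      rw [show Y ^ 2 * X ^ 2 * (X * Y ^ 2) = Y ^ 2 * X ^ 3 * Y ^ 2 by group, hx3, mul_one, ← pow_add,
        show 2 + 2 = 3 + 1 from rfl, pow_add, hy3, one_mul, pow_one]
    rw [e2] at hc'
    show X * Y = Y * X
    calc X * Y = X * Y * X ^ 3 := by rw [hx3, mul_one]
      _ = X * Y ^ 2 * (Y ^ 2 * X ^ 2) * X := by
        rw [show X * Y ^ 2 * (Y ^ 2 * X ^ 2) * X = X * (Y ^ 3 * Y) * X ^ 3 by group, hy3, one_mul]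
      _ = Y * X := by rw [hc']
  · simp only [pow_zero, one_mul, mul_one, hyi, ← pow_mul] at hc'
    have hy4 : Y ^ (2 * 2) = Y := by rw [show 2 * 2 = 3 + 1 from rfl, pow_add, hy3, one_mul, pow_one]
    rw [hy4] at hc'
    exact hX2 hc'
  · simp only [pow_one, hyi, ← pow_mul] at hc'
    have hy4 : Y ^ (2 * 2) = Y := by rw [show 2 * 2 = 3 + 1 from rfl, pow_add, hy3, one_mul, pow_one]
    rw [hy4] at hc'
    have e3 : Y * X * (X ^ 2 * Y) = Y ^ 2 := by
      rw [show Y * X * (X ^ 2 * Y) = Y * X ^ 3 * Y by group, hx3, mul_one, sq]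
    rw [e3] at hc'
    refine hY2 (show X * Y ^ 2 = Y ^ 2 * X from ?_)
    calc X * Y ^ 2 = X * (X ^ 2 * Y * (Y * X)) := by rw [hc']
      _ = X ^ 3 * Y ^ 2 * X := by simp only [pow_succ, pow_zero, one_mul, mul_assoc]
      _ = Y ^ 2 * X := by rw [hx3, one_mul]
  · simp only [hyi, ← pow_mul] at hc'
    have hy4 : Y ^ (2 * 2) = Y := by rw [show 2 * 2 = 3 + 1 from rfl, pow_add, hy3, one_mul, pow_one]
    rw [hy4] at hc'
    have e4 : X ^ 2 * Y ^ 2 * (Y * X ^ 2) = X := by
      rw [show X ^ 2 * Y ^ 2 * (Y * X ^ 2) = X ^ 2 * Y ^ 3 * X ^ 2 by group, hy3, mul_one, hxi]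
    rw [e4] at hc'
    show X * Y = Y * X
    calc X * Y = Y * X ^ 2 * (X ^ 2 * Y ^ 2) * Y := by rw [← hc']
      _ = Y * (X ^ 3 * X) * Y ^ 3 := by group
      _ = Y * X := by rw [hx3, hy3, one_mul, mul_one]

end RSetup

end Cfsg.Agent.Lib.SU3Max96
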