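import Cfsg.Agent.Lib.SU3Max96.Residual
import Cfsg.Agent.Lib.SU3Max96.Subfield

set_option autoImplicit false
set_option linter.style.haveILetI false
set_option linter.unusedSectionVars false
set_option linter.unusedVariables false

/-!
The geometric maximal subgroups of `SU(3, q)`, given the list of maximal subgroups of the residual class.
-/

namespace Cfsg.Agent.Lib.SU3Max96

open Cfsg.Geo Cfsg.Agent.Lib.PrimeDim.Basic Cfsg.Agent.Lib.PrimeDim.Fields Cfsg.Agent.Lib.PrimeDim.Unitary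
open Cfsg.Agent.Lib.PrimeDim.UnitaryBase Cfsg.Agent.Lib.PrimeDim.Symplectic Cfsg.Agent.Lib.Unitary
open scoped Matrix MatrixGroups commutatorElement

variable {F : Type*} [Field F] [Fintype F] {q : ℕ}

/-- The list of maximal subgroups of the residual class, for one group. -/
def ResidualList (F : Type*) [Field F] [Fintype F] (q : ℕ) : Prop :=
  ∀ H : Subgroup (GL (Fin 3) F), IsMaximalIn (SU3 F q) H → InUnitaryResidualClass H →
    ∃ P : Subgroup (GL (Fin 3) F), IsResidualCore H P ∧ q.Prime ∧ CoreTypes q P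

lemma ResidualList.data (h : ResidualList F q) {X : Subgroup (GL (Fin 3) F)} (hX : IsMaximalIn (SU3 F q) X)
    (hres : InUnitaryResidualClass X) : ∃ P, ResidualData q X P := by
  obtain ⟨P, hc, hp, ht⟩ := h X hX hres
  exact ⟨P, hp, hX.1.le, hc, ht⟩

lemma exists_std_frame (hF : Fintype.card F = q ^ 2) :
    ∃ D : Fin 3 → Submodule F (Fin 3 → F), IsNondegenerateMDecomposition (hermForm 3 F q) 1 D :=
  ⟨_, Cfsg.Agent.Lib.Aschbacher.Unitary.frameDec_spec hF (by norm_num) (one_mem _)⟩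

/-- Point stabilisers are maximal. -/
theorem line_maximal (hF : Fintype.card F = q ^ 2) (hq : 3 ≤ q) (hres : ResidualList F q)
    {W : Submodule F (Fin 3 → F)} (hW : Module.finrank F W = 1) :
    IsMaximalIn (SU3 F q) (subspaceStabilizer W ⊓ SU3 F q) := by
  refine maximal_of (fun hle => ?_) fun X hX hCX => ?_
  · obtain ⟨D, hD⟩ := exists_std_frame hF
    exact frame_not_line hF hD hW (inf_le_right.trans hle)
  · rcases overgroup_cases hF hX with ⟨W', hW', hle⟩ | ⟨D, hD, hle⟩ | ⟨K, hK, hadj, hle⟩ |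
      ⟨F₀, r, P, hr, hcase, hcard, hP, hle⟩ | ⟨R, hp, hm, habs, hRS, hcomm, hR27, hRc, hle⟩ | hS
    · obtain rfl := line_unique hF hW hW' (hCX.trans hle)
      exact hle
    · exact absurd (hCX.trans hle) (line_not_frame hF hq hW hD)
    · exact absurd (hCX.trans hle) (line_not_field hF hW hK)
    · exact absurd (hCX.trans hle) (line_not_subfield hF hW hr hcase hcard hP)
    · exact absurd (hCX.trans hle) (line_not_R hF hq hW ⟨hp, hm, hRS, habs, hcomm, hR27, hRc⟩)
    · obtain ⟨P, hd⟩ := hres.data hX hS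
      exact absurd hCX (hd.no_line hF hq hW)

/-- Frame stabilisers are maximal for `q ≠ 5`. -/
theorem frame_maximal (hF : Fintype.card F = q ^ 2) (hq : 3 ≤ q) (h5 : q ≠ 5) (hres : ResidualList F q)
    {D : Fin 3 → Submodule F (Fin 3 → F)} (hD : IsNondegenerateMDecomposition (hermForm 3 F q) 1 D) :
    IsMaximalIn (SU3 F q) (decompositionStabilizer D ⊓ SU3 F q) := by
  refine maximal_of (fun hle => ?_) fun X hX hCX => ?_
  · exact line_not_frame hF hq (hD.decomp.finrank_eq 0) hD (inf_le_right.trans hle)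
  · rcases overgroup_cases hF hX with ⟨W', hW', hle⟩ | ⟨D', hD', hle⟩ | ⟨K, hK, hadj, hle⟩ |
      ⟨F₀, r, P, hr, hcase, hcard, hP, hle⟩ | ⟨R, hp, hm, habs, hRS, hcomm, hR27, hRc, hle⟩ | hS
    · exact absurd (hCX.trans hle) (frame_not_line hF hD hW')
    · exact hle.trans (frame_unique hF hq h5 hD hD' (hCX.trans hle))
    · exact absurd (hCX.trans hle) (frame_not_field hF hq hD hK)
    · exact absurd (hCX.trans hle) (frame_not_subfield hF hq h5 hD hr hcase hcard)
    · exact absurd (hCX.trans hle) (frame_not_R hF hq h5 hD ⟨hp, hm, hRS, habs, hcomm, hR27, hRc⟩)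
    · obtain ⟨P, hd⟩ := hres.data hX hS
      exact absurd hCX (hd.no_frame hF hq h5 hD)

/-- Field normalisers are maximal for `q ≠ 3, 5`. -/
theorem field_maximal (hF : Fintype.card F = q ^ 2) (hq : 3 ≤ q) (h3 : q ≠ 3) (h5 : q ≠ 5)
    (hres : ResidualList F q) {K : Subalgebra F (Matrix (Fin 3) (Fin 3) F)} (hK : IsFieldSubalgebra 3 K)
    (hadj : IsAdjointClosedFor (hermForm 3 F q) K) :
    IsMaximalIn (SU3 F q) (subalgebraNormalizer K ⊓ SU3 F q) := by
  have h4 : 4 ≤ q := by omega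
  refine maximal_of (fun hle => ?_) fun X hX hCX => ?_
  · obtain ⟨D, hD⟩ := exists_std_frame hF
    exact line_not_field hF (hD.decomp.finrank_eq 0) hK (inf_le_right.trans hle)
  · rcases overgroup_cases hF hX with ⟨W', hW', hle⟩ | ⟨D', hD', hle⟩ | ⟨K', hK', hadj', hle⟩ |
      ⟨F₀, r, P, hr, hcase, hcard, hP, hle⟩ | ⟨R, hp, hm, habs, hRS, hcomm, hR27, hRc, hle⟩ | hS
    · exact absurd (hCX.trans hle) (field_not_line hF h4 hK hadj hW')
    · exact absurd (hCX.trans hle) (field_not_frame hF h4 hK hadj hD')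
    · obtain rfl := field_unique hF h4 hK hadj hK' (hCX.trans hle)
      exact hle
    · exact absurd (hCX.trans hle) (field_not_subfield hF h4 hK hadj hr hcase hcard)
    · exact absurd (hCX.trans hle) (field_not_R hF h4 hK hadj ⟨hp, hm, hRS, habs, hcomm, hR27, hRc⟩)
    · obtain ⟨P, hd⟩ := hres.data hX hS
      exact absurd hCX (hd.no_field hF h3 h5 hK hadj)

/-- Subfield groups of odd index are maximal. -/
theorem sub_odd_maximal (hF : Fintype.card F = q ^ 2) (hres : ResidualList F q)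
    {F₀ : Subfield F} {r : ℕ} {P : GL (Fin 3) F} (hr : r.Prime) (ho : Odd r)
    (hcard : Fintype.card F = Nat.card F₀ ^ r) (hP : IsFormRationalStructure (hermForm 3 F q) F₀ 1 P) :
    IsMaximalIn (SU3 F q) (subfieldSubgroup F₀ P ⊓ SU3 F q) := by
  have hnp : ¬ q.Prime := fun hqp => prime_no_odd_index hF hqp ho hr hcard
  obtain ⟨U, hU, he⟩ := exists_GU_subfield hF (Or.inl ho) hcard hP
  rw [he]
  refine maximal_of (fun hle => ?_) fun X hX hCX => ?_
  · obtain ⟨D, hD⟩ := exists_std_frame hF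
    exact line_not_subfield hF (hD.decomp.finrank_eq 0) hr (Or.inl ho) hcard hP
      (he ▸ inf_le_right.trans hle)
  · rcases overgroup_cases hF hX with ⟨W', hW', hle⟩ | ⟨D', hD', hle⟩ | ⟨K', hK', hadj', hle⟩ |
      ⟨F₁, r', P', hr', hcase', hcard', hP', hle⟩ | ⟨R, hp, hm, habs, hRS, hcomm, hR27, hRc, hle⟩ | hS
    · exact absurd (hCX.trans hle) (subfield_not_line hF (Or.inl ho) hcard hU hW')
    · exact absurd (hCX.trans hle) (sub_odd_not_frame hF ho hcard hU hD')
    · exact absurd (hCX.trans hle) (sub_odd_not_field hF ho hcard hU hK')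
    · exact (le_inf hle hX.1.le).trans (sub_odd_subfield hF hr ho hcard hU hr' hcase' hcard' hP' (hCX.trans hle))
    · exact absurd hp hnp
    · obtain ⟨P', hd⟩ := hres.data hX hS
      exact absurd hd.prime hnp

/-- Orthogonal members are maximal for `q ≥ 7`. -/
theorem sub_two_maximal (hF : Fintype.card F = q ^ 2) (hqo : Odd q) (h7 : 7 ≤ q) (hres : ResidualList F q)
    {F₀ : Subfield F} {P : GL (Fin 3) F} (hcard : Fintype.card F = Nat.card F₀ ^ 2)
    (hP : IsFormRationalStructure (hermForm 3 F q) F₀ 1 P) :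
    IsMaximalIn (SU3 F q) (subfieldSubgroup F₀ P ⊓ SU3 F q) := by
  have hcase : Odd 2 ∨ (2 = 2 ∧ Odd q) := Or.inr ⟨rfl, hqo⟩
  obtain ⟨U, hU, he⟩ := exists_GU_subfield hF hcase hcard hP
  rw [he]
  refine maximal_of (fun hle => ?_) fun X hX hCX => ?_
  · obtain ⟨D, hD⟩ := exists_std_frame hF
    exact line_not_subfield hF (hD.decomp.finrank_eq 0) Nat.prime_two hcase hcard hP
      (he ▸ inf_le_right.trans hle)
  · rcases overgroup_cases hF hX with ⟨W', hW', hle⟩ | ⟨D', hD', hle⟩ | ⟨K', hK', hadj', hle⟩ |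
      ⟨F₁, r', P', hr', hcase', hcard', hP', hle⟩ | ⟨R, hp, hm, habs, hRS, hcomm, hR27, hRc, hle⟩ | hS
    · exact absurd (hCX.trans hle) (subfield_not_line hF hcase hcard hU hW')
    · exact absurd (hCX.trans hle) (sub_two_not_frame hF hqo h7 hcard hU hD')
    · exact absurd (hCX.trans hle) (sub_two_not_field hF hqo h7 hcard hU hK')
    · exact (le_inf hle hX.1.le).trans (sub_two_subfield hF hqo hcard hU hr' hcase' hcard' hP' (hCX.trans hle))
    · exact absurd (hCX.trans hle) (sub_not_R hF h7 hqo hcard hU ⟨hp, hm, hRS, habs, hcomm, hR27, hRc⟩)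
    · obtain ⟨P', hd⟩ := hres.data hX hS
      exact absurd hCX (hd.no_sub_two hF hqo h7 hcard hU)

/-- Symplectic type members are maximal for primes `q ≥ 11`. -/
theorem R_maximal (hF : Fintype.card F = q ^ 2) (h11 : 11 ≤ q) (hres : ResidualList F q)
    {R : Subgroup (GL (Fin 3) F)} (h : RSetup q R) :
    IsMaximalIn (SU3 F q) (subgroupNormalizer R ⊓ SU3 F q) := by
  haveI := Fact.mk h.prime
  haveI := Cfsg.Agent.Lib.PrimeDim.SU3Model.charP_of_card (p := q) hF
  refine maximal_of ?_ fun X hX hCX => ?_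
  · exact Cfsg.Agent.Lib.PrimeDim.SU3R.not_le_normalizer hF (by omega) h.abs h.le_SL h.comm h.card h.center
  · rcases overgroup_cases hF hX with ⟨W', hW', hle⟩ | ⟨D', hD', hle⟩ | ⟨K', hK', hadj', hle⟩ |
      ⟨F₁, r', P', hr', hcase', hcard', hP', hle⟩ | ⟨R', hp, hm, habs, hRS, hcomm, hR27, hRc, hle⟩ | hS
    · exact absurd (hCX.trans hle) (h.not_line hW')
    · exact absurd (hCX.trans hle) (h.not_frame hF hD')
    · exact absurd (hCX.trans hle) (h.not_field hF hK')
    · exact absurd (hCX.trans hle) (h.not_subfield hF hr' hcase' hcard' P')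
    · obtain rfl := h.eq_of_le_normalizer hF ⟨hp, hm, hRS, habs, hcomm, hR27, hRc⟩ (hCX.trans hle)
      exact hle
    · obtain ⟨P', hd⟩ := hres.data hX hS
      exact absurd hCX (hd.no_R hF h11 h)

/-- The seven conjuncts. -/
theorem of_residual (hF : Fintype.card F = q ^ 2) (hq : 3 ≤ q) (hres : ResidualList F q) :
    (∀ W : Submodule F (Fin 3 → F), W ≠ ⊥ → IsTotallySingularFor (hermForm 3 F q) W →
      IsMaximalIn (GU 3 F q ⊓ specialLinear (Fin 3) F) (subspaceStabilizer W ⊓ (GU 3 F q ⊓ specialLinear (Fin 3) F))) ∧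
    (∀ W : Submodule F (Fin 3 → F), W ≠ ⊥ → IsNondegenerateOn (hermForm 3 F q) W → 2 * Module.finrank F W < 3 →
      IsMaximalIn (GU 3 F q ⊓ specialLinear (Fin 3) F) (subspaceStabilizer W ⊓ (GU 3 F q ⊓ specialLinear (Fin 3) F))) ∧
    (q ≠ 5 → ∀ D : Fin 3 → Submodule F (Fin 3 → F), IsNondegenerateMDecomposition (hermForm 3 F q) 1 D →
      IsMaximalIn (GU 3 F q ⊓ specialLinear (Fin 3) F)
        (decompositionStabilizer D ⊓ (GU 3 F q ⊓ specialLinear (Fin 3) F))) ∧
    (q ≠ 3 → q ≠ 5 → ∀ K : Subalgebra F (Matrix (Fin 3) (Fin 3) F), IsFieldSubalgebra 3 K →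
      IsAdjointClosedFor (hermForm 3 F q) K →
      IsMaximalIn (GU 3 F q ⊓ specialLinear (Fin 3) F)
        (subalgebraNormalizer K ⊓ (GU 3 F q ⊓ specialLinear (Fin 3) F))) ∧
    (∀ (F₀ : Subfield F) (r : ℕ) (P : Matrix.GeneralLinearGroup (Fin 3) F), r.Prime → Odd r →
      Fintype.card F = Nat.card F₀ ^ r → IsFormRationalStructure (hermForm 3 F q) F₀ 1 P →
      IsMaximalIn (GU 3 F q ⊓ specialLinear (Fin 3) F)
        (subfieldSubgroup F₀ P ⊓ (GU 3 F q ⊓ specialLinear (Fin 3) F))) ∧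
    (Odd q → 7 ≤ q → ∀ (F₀ : Subfield F) (P : Matrix.GeneralLinearGroup (Fin 3) F),
      Fintype.card F = Nat.card F₀ ^ 2 → IsFormRationalStructure (hermForm 3 F q) F₀ 1 P →
      IsMaximalIn (GU 3 F q ⊓ specialLinear (Fin 3) F)
        (subfieldSubgroup F₀ P ⊓ (GU 3 F q ⊓ specialLinear (Fin 3) F))) ∧
    (∀ (p : ℕ) (R : Subgroup (Matrix.GeneralLinearGroup (Fin 3) F)), p.Prime → q = p → p % 3 = 2 → 11 ≤ p →
      IsSymplecticTypeGroup 3 R → ActsAbsolutelyIrreducibly (matrixSet R) →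
      R ≤ similarityGroup (hermForm 3 F q) → Nat.card R = 27 → Nat.card (Subgroup.center R) = 3 →
      IsMaximalIn (GU 3 F q ⊓ specialLinear (Fin 3) F)
        (subgroupNormalizer R ⊓ (GU 3 F q ⊓ specialLinear (Fin 3) F))) := by
  refine ⟨fun W hW hs => line_maximal hF hq hres ?_, fun W hW _ h2 => line_maximal hF hq hres ?_,
    fun h5 D hD => frame_maximal hF hq h5 hres hD,
    fun h3 h5 K hK hadj => field_maximal hF hq h3 h5 hres hK hadj,
    fun F₀ r P hr ho hc hP => sub_odd_maximal hF hres hr ho hc hP,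
    fun hqo h7 F₀ P hc hP => sub_two_maximal hF hqo h7 hres hc hP,
    fun p R hp hqp hm h11 hR habs hsim hc27 hcc => ?_⟩
  · have h1 : W ≤ perp q W := fun u hu v hv => hs u hu v hv
    have h2 := finrank_perp hF W
    have h3 := Submodule.finrank_mono h1
    have h4 : Module.finrank F W ≠ 0 := fun h => hW (Submodule.finrank_eq_zero.mp h)
    omega
  · have h4 : Module.finrank F W ≠ 0 := fun h => hW (Submodule.finrank_eq_zero.mp h)
    omega
  · subst hqp
    exact R_maximal hF h11 hres (rsetup_of hF hp hm hR habs hsim hc27 hcc)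

end Cfsg.Agent.Lib.SU3Max96
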