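import Cfsg.Agent.Lib.SU3Max96.Reducible

set_option autoImplicit false
set_option linter.style.haveILetI false
set_option linter.unusedSectionVars false
set_option linter.unusedVariables false

/-!
Normalisers of groups of order `27` in `SU(3, p)`: order and elements of order four.
-/

namespace Cfsg.Agent.Lib.SU3Max96

open Cfsg.Geo Cfsg.Agent.Lib.PrimeDim.Basic Cfsg.Agent.Lib.PrimeDim.Fields Cfsg.Agent.Lib.PrimeDim.Unitary
open Cfsg.Agent.Lib.PrimeDim.UnitaryBase Cfsg.Agent.Lib.PrimeDim.Symplectic Cfsg.Agent.Lib.Unitary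
open scoped Matrix MatrixGroups commutatorElement

variable {F : Type*} [Field F] [Fintype F] {q : ℕ}

/-- The data of the symplectic type member. -/
structure RSetup (q : ℕ) (R : Subgroup (GL (Fin 3) F)) : Prop where
  prime : q.Prime
  mod : q % 3 = 2
  le : R ≤ SU3 F q
  abs : ActsAbsolutelyIrreducibly (matrixSet R)
  comm : ⁅R, R⁆ ≤ scalars (Fin 3) F
  card : Nat.card R = 27
  center : Nat.card (Subgroup.center R) = 3

namespace RSetup

variable {R : Subgroup (GL (Fin 3) F)} (h : RSetup q R)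
include h

lemma le_SL : R ≤ specialLinear (Fin 3) F := h.le.trans inf_le_right

lemma pow_three {z : GL (Fin 3) F} (hz : z ∈ R) : z ^ 3 = 1 :=
  Cfsg.Agent.Lib.PrimeDim.Symplectic.pow_eq_one Nat.prime_three le_rfl h.le_SL h.abs h.comm hz

lemma scalar_of_commute {g : GL (Fin 3) F} (hg : ∀ x ∈ R, g * x = x * g) : g ∈ scalars (Fin 3) F := by
  obtain ⟨c, hc⟩ := h.abs.2 g.val (fun s hs => by
    obtain ⟨x, hx, rfl⟩ := mem_matrixSet.mp hs
    exact congrArg Units.val (hg x hx))
  have hc0 : c ≠ 0 := fun h0 => g.ne_zero (by rw [hc, h0, zero_smul])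
  exact (mem_scalars_iff g).mpr ⟨Units.mk0 c hc0, hc⟩

lemma exists_noncomm : ∃ x ∈ R, ∃ y ∈ R, x * y ≠ y * x := by
  by_contra! hc
  exact not_le_scalars (by simp) (irred_iff.mp h.abs.1) fun x hx => h.scalar_of_commute (hc x hx)

lemma eq_of_noncomm {H : Subgroup (GL (Fin 3) F)} (hH : H ≤ R) {x y : GL (Fin 3) F} (hx : x ∈ H) (hy : y ∈ H)
    (hxy : x * y ≠ y * x) : H = R := by
  have hd : Nat.card H ∣ 3 ^ 3 := by
    have := Subgroup.card_dvd_of_le hH
    rwa [h.card] at this
  obtain ⟨k, hk, hk'⟩ := (Nat.dvd_prime_pow Nat.prime_three).mp hd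
  by_cases hk2 : k ≤ 2
  · exfalso
    haveI : Fact (Nat.Prime 3) := ⟨Nat.prime_three⟩
    have hcomm : ∀ a b : H, a * b = b * a := by
      interval_cases k
      · haveI : Subsingleton H := (Nat.card_eq_one_iff_unique.mp (by simpa using hk')).1
        intro a b
        exact Subsingleton.elim _ _
      · haveI := isCyclic_of_prime_card (α := H) (p := 3) (by simpa using hk')
        exact fun a b => IsCyclic.commGroup.mul_comm a b
      · exact IsPGroup.commutative_of_card_eq_prime_sq hk'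
    exact hxy (congrArg Subtype.val (hcomm ⟨x, hx⟩ ⟨y, hy⟩))
  · refine Subgroup.eq_of_le_of_card_ge hH ?_
    rw [h.card, hk', show k = 3 by omega]
    norm_num

lemma scalar_of_commute_pair {g x y : GL (Fin 3) F} (hx : x ∈ R) (hy : y ∈ R) (hxy : x * y ≠ y * x)
    (hgx : g * x = x * g) (hgy : g * y = y * g) : g ∈ scalars (Fin 3) F := by
  have he : R ⊓ Subgroup.centralizer {g} = R := h.eq_of_noncomm inf_le_left
    (x := x) (y := y) ⟨hx, Subgroup.mem_centralizer_singleton_iff.mpr hgx.symm⟩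
    ⟨hy, Subgroup.mem_centralizer_singleton_iff.mpr hgy.symm⟩ hxy
  refine h.scalar_of_commute fun z hz => ?_
  rw [← he] at hz
  exact (Subgroup.mem_centralizer_singleton_iff.mp hz.2).symm

/-- The order of the normaliser divides `648`. -/
theorem card_dvd : Nat.card (subgroupNormalizer R ⊓ SU3 F q : Subgroup (GL (Fin 3) F)) ∣ 648 := by
  classical
  obtain ⟨x₀, hx₀, y₀, hy₀, hne⟩ := h.exists_noncomm
  set z₀ := y₀ * x₀ * y₀⁻¹ * x₀⁻¹ with hz₀
  have hz₀s : z₀ ∈ scalars (Fin 3) F := h.comm (Subgroup.commutator_mem_commutator hy₀ hx₀)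
  have hz₀R : z₀ ∈ R := mul_mem (mul_mem (mul_mem hy₀ hx₀) (inv_mem hy₀)) (inv_mem hx₀)
  have hz₀1 : z₀ ≠ 1 := fun e => hne (by
    rw [hz₀, mul_inv_eq_one, mul_inv_eq_iff_eq_mul] at e
    exact e.symm)
  set X := (subgroupNormalizer R ⊓ SU3 F q : Subgroup (GL (Fin 3) F)) with hX
  have hN : ∀ g : X, ∀ r ∈ R, g.1 * r * g.1⁻¹ ∈ R := fun g r hr =>
    (Subgroup.mem_normalizer_iff.mp g.2.1 r).mp hr
  let S := {ab : R × R // ab.2.1 * ab.1.1 * ab.2.1⁻¹ * ab.1.1⁻¹ = z₀}
  have hinv : ∀ (g a b : GL (Fin 3) F), b * a * b⁻¹ * a⁻¹ = z₀ →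
      g * b * g⁻¹ * (g * a * g⁻¹) * (g * b * g⁻¹)⁻¹ * (g * a * g⁻¹)⁻¹ = z₀ := by
    intro g a b e
    calc g * b * g⁻¹ * (g * a * g⁻¹) * (g * b * g⁻¹)⁻¹ * (g * a * g⁻¹)⁻¹
        = g * (b * a * b⁻¹ * a⁻¹) * g⁻¹ := by group
      _ = z₀ := by rw [e, ← scalar_comm hz₀s g, mul_inv_cancel_right]
  letI : SMul X S := ⟨fun g s =>
    ⟨(⟨g.1 * s.1.1.1 * g.1⁻¹, hN g _ s.1.1.2⟩, ⟨g.1 * s.1.2.1 * g.1⁻¹, hN g _ s.1.2.2⟩), hinv _ _ _ s.2⟩⟩
  letI : MulAction X S :=
    { one_smul := fun s => Subtype.ext (Prod.ext (Subtype.ext (by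
          show (1 : GL (Fin 3) F) * _ * (1 : GL (Fin 3) F)⁻¹ = _; simp)) (Subtype.ext (by
          show (1 : GL (Fin 3) F) * _ * (1 : GL (Fin 3) F)⁻¹ = _; simp)))
      mul_smul := fun g k s => Subtype.ext (Prod.ext (Subtype.ext (by
          show g.1 * k.1 * _ * (g.1 * k.1)⁻¹ = g.1 * (k.1 * _ * k.1⁻¹) * g.1⁻¹; group)) (Subtype.ext (by
          show g.1 * k.1 * _ * (g.1 * k.1)⁻¹ = g.1 * (k.1 * _ * k.1⁻¹) * g.1⁻¹; group))) }
  set Z := (scalars (Fin 3) F).subgroupOf X with hZdef
  have hstab : ∀ s : S, MulAction.stabilizer X s = Z := by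
    intro s
    ext g
    rw [MulAction.mem_stabilizer_iff, hZdef, Subgroup.mem_subgroupOf]
    constructor
    · intro e
      have e1 : g.1 * s.1.1.1 * g.1⁻¹ = s.1.1.1 := congrArg (fun t : S => t.1.1.1) e
      have e2 : g.1 * s.1.2.1 * g.1⁻¹ = s.1.2.1 := congrArg (fun t : S => t.1.2.1) e
      refine h.scalar_of_commute_pair s.1.1.2 s.1.2.2 ?_ (mul_inv_eq_iff_eq_mul.mp e1) (mul_inv_eq_iff_eq_mul.mp e2)
      intro c
      apply hz₀1
      rw [← s.2, ← c, mul_inv_cancel_right, mul_inv_cancel]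
    · intro hg
      refine Subtype.ext (Prod.ext (Subtype.ext ?_) (Subtype.ext ?_))
      · show g.1 * _ * g.1⁻¹ = _
        rw [scalar_comm hg, mul_inv_cancel_right]
      · show g.1 * _ * g.1⁻¹ = _
        rw [scalar_comm hg, mul_inv_cancel_right]
  have hS216 : Nat.card S = 216 := by
    have hcs : ∀ z : R, z ∈ Subgroup.center R ↔ (z : GL (Fin 3) F) ∈ scalars (Fin 3) F := by
      intro z
      rw [Subgroup.mem_center_iff]
      exact ⟨fun hz => h.scalar_of_commute fun x hx => (congrArg Subtype.val (hz ⟨x, hx⟩)).symm,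
        fun hz w => Subtype.ext (scalar_comm hz w.1).symm⟩
    have hzc : (⟨z₀, hz₀R⟩ : R) ∈ Subgroup.center R := (hcs _).mpr hz₀s
    have hfib : ∀ a : R, Nat.card {b : R // b.1 * a.1 * b.1⁻¹ * a.1⁻¹ = z₀} =
        if a ∈ Subgroup.center R then 0 else 9 := by
      intro a
      split
      next ha =>
        rw [Nat.card_eq_zero]
        refine Or.inl ⟨fun b => hz₀1 ?_⟩
        rw [← b.2, ← scalar_comm ((hcs a).mp ha) b.1.1, mul_inv_cancel_right, mul_inv_cancel]
      next ha =>
        let φ : R →* Subgroup.center R :=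
          { toFun := fun b => ⟨b * a * b⁻¹ * a⁻¹, (hcs _).mpr (h.comm (Subgroup.commutator_mem_commutator b.2 a.2))⟩
            map_one' := Subtype.ext (by simp)
            map_mul' := fun b c => Subtype.ext (by
              show b * c * a * (b * c)⁻¹ * a⁻¹ = b * a * b⁻¹ * a⁻¹ * (c * a * c⁻¹ * a⁻¹)
              have hc2 := Subgroup.mem_center_iff.mp
                ((hcs (c * a * c⁻¹ * a⁻¹)).mpr (h.comm (Subgroup.commutator_mem_commutator c.2 a.2))) (a * b⁻¹ * a⁻¹)
              calc b * c * a * (b * c)⁻¹ * a⁻¹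
                  = b * ((c * a * c⁻¹ * a⁻¹) * (a * b⁻¹ * a⁻¹)) := by group
                _ = b * ((a * b⁻¹ * a⁻¹) * (c * a * c⁻¹ * a⁻¹)) := congrArg (b * ·) hc2.symm
                _ = b * a * b⁻¹ * a⁻¹ * (c * a * c⁻¹ * a⁻¹) := by group) }
        have hsurj : φ.range = ⊤ := by
          haveI : Fact (Nat.card (Subgroup.center R)).Prime := ⟨h.center.symm ▸ Nat.prime_three⟩
          refine (Subgroup.eq_bot_or_eq_top_of_prime_card φ.range).resolve_left fun hb => ha ?_
          rw [Subgroup.mem_center_iff]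
          intro b
          have : φ b = 1 := by
            rw [MonoidHom.range_eq_bot_iff] at hb
            rw [hb]; rfl
          have e : b * a * b⁻¹ * a⁻¹ = 1 := congrArg Subtype.val this
          rwa [mul_inv_eq_one, mul_inv_eq_iff_eq_mul] at e
        obtain ⟨b₀, hb₀⟩ : (⟨⟨z₀, hz₀R⟩, hzc⟩ : Subgroup.center R) ∈ φ.range := hsurj ▸ Subgroup.mem_top _
        have hker : Nat.card φ.ker = 9 := by
          have e := φ.ker.card_mul_index
          rw [Subgroup.index_ker, hsurj, Subgroup.card_top, h.center, h.card] at e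
          omega
        rw [← hker]
        refine Nat.card_congr
          { toFun := fun b => ⟨b₀⁻¹ * b.1, by
              rw [MonoidHom.mem_ker, map_mul, map_inv, hb₀, inv_mul_eq_one]
              exact Subtype.ext (Subtype.ext b.2.symm)⟩
            invFun := fun k => ⟨b₀ * k.1, by
              have e : φ (b₀ * k.1) = ⟨⟨z₀, hz₀R⟩, hzc⟩ := by
                rw [map_mul, MonoidHom.mem_ker.mp k.2, mul_one, hb₀]
              exact congrArg (fun t : Subgroup.center R => t.1.1) e⟩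
            left_inv := fun b => Subtype.ext (by simp)
            right_inv := fun k => Subtype.ext (by simp) }
    rw [Nat.card_congr (Equiv.subtypeProdEquivSigmaSubtype fun a b : R => b.1 * a.1 * b.1⁻¹ * a.1⁻¹ = z₀)]
    rw [Nat.card_sigma]
    simp only [hfib, Finset.sum_ite, Finset.sum_const_zero, zero_add, Finset.sum_const, smul_eq_mul]
    have h24 : (Finset.univ.filter fun a : R => a ∉ Subgroup.center R).card = 24 := by
      have e1 := Finset.card_filter_add_card_filter_not (s := (Finset.univ : Finset R)) (fun a => a ∈ Subgroup.center R)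
      have e2 : (Finset.univ.filter fun a : R => a ∈ Subgroup.center R).card = 3 := by
        refine Eq.trans ?_ h.center
        rw [Nat.card_eq_fintype_card, Fintype.card_subtype]
      rw [Finset.card_univ, ← Nat.card_eq_fintype_card, h.card] at e1
      omega
    rw [h24]
  have hZ3 : Nat.card Z ∣ 3 := by
    have hle : ∀ g : Z, g.1.1 ∈ scalars (Fin 3) F := fun g => g.2
    -- scalars of determinant one are cube roots of unity
    have hcube : ∀ g : Z, g ^ 3 = 1 := by
      intro g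
      obtain ⟨c, hc⟩ := (mem_scalars_iff _).mp (hle g)
      have hd := mem_specialLinear.mp g.1.2.2.2
      rw [hc, Matrix.det_smul, Matrix.det_one, mul_one, Fintype.card_fin] at hd
      refine Subtype.ext (Subtype.ext (Units.ext ?_))
      show (g.1.1 ^ 3 : GL (Fin 3) F).val = 1
      rw [Units.val_pow_eq_pow_val, hc, smul_pow, hd, one_pow, one_smul]
    let ψ : Z →* Fˣ :=
      { toFun := fun g => Units.mk0 (g.1.1.val 0 0) (by
          obtain ⟨c, hc⟩ := (mem_scalars_iff _).mp (hle g)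
          rw [hc]; simp)
        map_one' := Units.ext (by simp)
        map_mul' := fun a b => Units.ext (by
          obtain ⟨c, hc⟩ := (mem_scalars_iff _).mp (hle a)
          show (a.1.1.val * b.1.1.val) 0 0 = a.1.1.val 0 0 * b.1.1.val 0 0
          rw [hc, Matrix.smul_mul, one_mul]
          simp) }
    have hψ : Function.Injective ψ := by
      intro a b e
      obtain ⟨c, hc⟩ := (mem_scalars_iff _).mp (hle a)
      obtain ⟨d, hd⟩ := (mem_scalars_iff _).mp (hle b)
      have e' : a.1.1.val 0 0 = b.1.1.val 0 0 := congrArg Units.val e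
      rw [hc, hd] at e'
      refine Subtype.ext (Subtype.ext (Units.ext ?_))
      rw [hc, hd, show (c : F) = d by simpa using e']
    haveI : IsCyclic Z := isCyclic_of_injective ψ hψ
    rw [← IsCyclic.exponent_eq_card]
    exact Monoid.exponent_dvd_of_forall_pow_eq_one hcube
  have e := Nat.card_congr (MulAction.selfEquivSigmaOrbitsQuotientStabilizer X S)
  simp only [hstab, Nat.card_sigma, Finset.sum_const, smul_eq_mul, hS216] at e
  rw [← Z.card_mul_index]
  exact (mul_dvd_mul hZ3 (Dvd.intro_left _ e.symm)).trans (by norm_num)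

/-- Fixed vectors of elements of `R`. -/
lemma exists_fixed {x : GL (Fin 3) F} (hx : x ∈ R) (hxs : x ∉ scalars (Fin 3) F) :
    ∃ v : Fin 3 → F, v ≠ 0 ∧ x.val *ᵥ v = v := by
  obtain ⟨-, -, -, -, -, hind, hxn⟩ := elem_facts Nat.prime_three le_rfl h.le_SL h.abs h.comm hx hxs
  set S : Matrix (Fin 3) (Fin 3) F := ∑ k : Fin 3, x.val ^ (k : ℕ) with hS
  have hS0 : S ≠ 0 := by
    intro h0
    have := Fintype.linearIndependent_iff.mp hind (fun _ => 1) (by simpa [hS] using h0) 0
    exact one_ne_zero this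
  obtain ⟨u, hu⟩ : ∃ u, S *ᵥ u ≠ 0 := by
    by_contra! h0
    exact hS0 (Matrix.ext_of_mulVec_single fun i => by rw [h0, Matrix.zero_mulVec])
  have hxS : x.val * S = S := by
    have h1 : (x.val - 1) * S = x.val ^ 3 - 1 := by
      rw [hS, Fin.sum_univ_eq_sum_range (fun i => x.val ^ i) 3, mul_geom_sum]
    rw [← Units.val_pow_eq_pow_val, hxn, Units.val_one, sub_self, sub_mul, one_mul, sub_eq_zero] at h1
    exact h1
  exact ⟨_, hu, by rw [Matrix.mulVec_mulVec, hxS]⟩

end RSetup

end Cfsg.Agent.Lib.SU3Max96
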