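import Cfsg.Agent.Lib.SU3Max96.Tv

set_option autoImplicit false
set_option linter.style.haveILetI false
set_option linter.unusedSectionVars false
set_option linter.unusedVariables false

/-!
Stabilisers of points in `SU(3, q)` lie in no other geometric class.
-/

namespace Cfsg.Agent.Lib.SU3Max96

open Cfsg.Geo Cfsg.Agent.Lib.PrimeDim.Basic Cfsg.Agent.Lib.PrimeDim.Fields Cfsg.Agent.Lib.PrimeDim.Unitary
open Cfsg.Agent.Lib.PrimeDim.UnitaryBase Cfsg.Agent.Lib.PrimeDim.Symplectic Cfsg.Agent.Lib.Unitary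
open scoped Matrix MatrixGroups commutatorElement

variable {F : Type*} [Field F] [Fintype F] {q : ℕ}

lemma line_eq_span {W : Submodule F (Fin 3 → F)} (hW : Module.finrank F W = 1) {w : Fin 3 → F} (hw : w ∈ W)
    (hw0 : w ≠ 0) : W = Submodule.span F {w} :=
  (Submodule.eq_of_le_of_finrank_le ((Submodule.span_singleton_le_iff_mem _ _).mpr hw)
    (by rw [hW, finrank_span_singleton hw0])).symm

lemma exists_line_vec {W : Submodule F (Fin 3 → F)} (hW : Module.finrank F W = 1) :
    ∃ w, w ∈ W ∧ w ≠ 0 ∧ W = Submodule.span F {w} := by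
  have hne : W ≠ ⊥ := fun h => by rw [h, finrank_bot] at hW; exact zero_ne_one hW
  obtain ⟨w, hw, hw0⟩ := Submodule.exists_mem_ne_zero_of_ne_bot hne
  exact ⟨w, hw, hw0, line_eq_span hW hw hw0⟩

lemma mem_stab_span {g : GL (Fin 3) F} {w : Fin 3 → F} {a : F} (h : g.val *ᵥ w = a • w) :
    g ∈ subspaceStabilizer (Submodule.span F {w}) := by
  have key : ∀ H : Subgroup (GL (Fin 3) F), H = Subgroup.zpowers g → H ≤ subspaceStabilizer (Submodule.span F {w}) := by
    rintro H rfl
    rw [Subgroup.zpowers_eq_closure, Subgroup.closure_le, Set.singleton_subset_iff]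
    intro x
    constructor
    · intro hx
      obtain ⟨b, rfl⟩ := Submodule.mem_span_singleton.mp hx
      show g.val *ᵥ (b • w) ∈ Submodule.span F {w}
      rw [Matrix.mulVec_smul, h, smul_smul]
      exact Submodule.smul_mem _ _ (Submodule.mem_span_singleton_self _)
    · intro hx
      obtain ⟨b, hb⟩ := Submodule.mem_span_singleton.mp hx
      have hb' : b • w = g.val *ᵥ x := hb
      by_cases ha : a = 0
      · rw [ha, zero_smul] at h
        have hw0 : w = 0 := by rw [← inv_mulVec_cancel g w, h, Matrix.mulVec_zero]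
        rw [hw0, smul_zero] at hb'
        have hx0 : x = 0 := by rw [← inv_mulVec_cancel g x, ← hb', Matrix.mulVec_zero]
        rw [hx0]; exact zero_mem _
      · refine Submodule.mem_span_singleton.mpr ⟨b / a, ?_⟩
        have h1 : g.val *ᵥ ((b / a) • w) = g.val *ᵥ x := by
          rw [Matrix.mulVec_smul, h, smul_smul, div_mul_cancel₀ _ ha, hb']
        rw [← inv_mulVec_cancel g ((b / a) • w), h1, inv_mulVec_cancel]
  exact key _ rfl (Subgroup.mem_zpowers g)

lemma stab_eigen {g : GL (Fin 3) F} {W : Submodule F (Fin 3 → F)} (hg : g ∈ subspaceStabilizer W)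
    {w : Fin 3 → F} (hW : W = Submodule.span F {w}) : ∃ a : F, g.val *ᵥ w = a • w := by
  have h : g.val *ᵥ w ∈ W := (hg w).mp (hW ▸ Submodule.mem_span_singleton_self w)
  rw [hW, Submodule.mem_span_singleton] at h
  obtain ⟨a, ha⟩ := h
  exact ⟨a, ha.symm⟩

lemma exists_tv_stab (hF : Fintype.card F = q ^ 2) {w v : Fin 3 → F} (hv : hermForm 3 F q v v = 0)
    (hwv : hermForm 3 F q w v = 0) {c : F} (hc : c + c ^ q = 0) :
    ∃ t ∈ subspaceStabilizer (Submodule.span F {w}) ⊓ SU3 F q, TvElt q v c t := by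
  obtain ⟨t, ht, htx⟩ := exists_tv' hF hv hc
  exact ⟨t, ⟨mem_stab_span (a := 1) (by rw [htx, hwv, mul_zero, zero_smul, add_zero, one_smul]), ht⟩, htx⟩

lemma exists_fixed_ne (hF : Fintype.card F = q ^ 2) (hq : 3 ≤ q) : ∃ z : F, z ^ q = z ∧ z ≠ 0 ∧ z ≠ 1 := by
  classical
  by_contra! h
  have hle : (Finset.univ.filter fun x : F => x ^ q = x).card ≤ ({0, 1} : Finset F).card := by
    refine Finset.card_le_card fun x hx => ?_
    simp only [Finset.mem_filter, Finset.mem_univ, true_and] at hx
    simp only [Finset.mem_insert, Finset.mem_singleton]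
    exact or_iff_not_imp_left.mpr (h x hx)
  have := card_fixed hF
  rw [Nat.card_eq_fintype_card, Fintype.card_subtype] at this
  have := hle.trans Finset.card_le_two
  omega

lemma exists_norm_one_ne (hF : Fintype.card F = q ^ 2) : ∃ u : F, u * u ^ q = 1 ∧ u ≠ 1 := by
  classical
  have h := card_norm_one hF
  have h1 := one_lt_q hF
  have : Nontrivial {x : F // x ^ (q + 1) = 1} := by
    rw [← Finite.one_lt_card_iff_nontrivial, h]; omega
  obtain ⟨⟨u, hu⟩, hne⟩ := exists_ne (⟨1, one_pow _⟩ : {x : F // x ^ (q + 1) = 1})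
  exact ⟨u, by rw [← pow_succ']; exact hu, fun h => hne (Subtype.ext h)⟩

/-- The hyperbolic pair of isotropic vectors orthogonal to a point off the cone. -/
lemma exists_iso_pair (hF : Fintype.card F = q ^ 2) {W : Submodule F (Fin 3 → F)} (hW : Module.finrank F W = 1)
    (hns : ¬ IsTotallySingularFor (hermForm 3 F q) W) :
    ∃ w v v', W = Submodule.span F {w} ∧ hermForm 3 F q w w = 1 ∧ hermForm 3 F q w v = 0 ∧
      hermForm 3 F q w v' = 0 ∧ v ≠ 0 ∧ v' ≠ 0 ∧ hermForm 3 F q v v = 0 ∧ hermForm 3 F q v' v' = 0 ∧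
      hermForm 3 F q v v' ≠ 0 := by
  obtain ⟨u, hu, hu0, hspan⟩ := exists_line_vec hW
  have huu : hermForm 3 F q u u ≠ 0 := by
    intro h
    apply hns
    intro a ha b hb
    rw [hspan, Submodule.mem_span_singleton] at ha hb
    obtain ⟨x, rfl⟩ := ha
    obtain ⟨y, rfl⟩ := hb
    rw [herm_smul_left, herm_smul_right, h, mul_zero, mul_zero]
  obtain ⟨ν, hν⟩ := norm_surj hF (y := (hermForm 3 F q u u)⁻¹) (by rw [inv_pow, herm_self_fixed u hF])
  have hν0 : ν ≠ 0 := fun h => by
    rw [h, zero_mul] at hν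
    exact inv_ne_zero huu hν.symm
  set w := ν • u with hw
  have hww : hermForm 3 F q w w = 1 := by
    rw [hw, herm_smul_left, herm_smul_right, ← mul_assoc, hν, inv_mul_cancel₀ huu]
  have hw0 : w ≠ 0 := smul_ne_zero hν0 hu0
  obtain ⟨g, hg, hgw⟩ := orthonormal_extend hF (show 1 + 2 = 3 from rfl) (f := ![w])
    (fun i j => by fin_cases i; fin_cases j; simpa using hww)
  obtain ⟨a, ha⟩ := norm_surj hF (y := (-1 : F)) (by rw [neg_pow_q hF, one_pow])
  obtain ⟨z, hz, hz1⟩ := exists_norm_one_ne hF
  have ha0 : a ≠ 0 := fun h => by rw [h, zero_mul] at ha; exact neg_ne_zero.mpr one_ne_zero ha.symm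
  have hpair : ∀ x y : F, hermForm 3 F q (g 0 + x • g 1) (g 0 + y • g 1) = 1 + x * y ^ q := by
    intro x y
    simp [herm_add_left, herm_add_right _ _ _ hF, herm_smul_left, herm_smul_right, hg _ _]
    ring
  have hperp : ∀ x : F, hermForm 3 F q w (g 0 + x • g 1) = 0 := fun x => herm_eq_zero_symm hF (by
    have h0 : hermForm 3 F q (g 0) w = 0 := by simpa using hgw 0 0
    have h1 : hermForm 3 F q (g 1) w = 0 := by simpa using hgw 1 0
    rw [herm_add_left, herm_smul_left, h0, h1, mul_zero, add_zero])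
  have hne : ∀ x : F, g 0 + x • g 1 ≠ 0 := fun x h => by
    have h1 : hermForm 3 F q (g 0 + x • g 1) (g 0) = 1 := by
      simp [herm_add_left, herm_smul_left, hg _ _]
    rw [h, herm_zero_left] at h1
    exact zero_ne_one h1
  refine ⟨w, g 0 + a • g 1, g 0 + (a * z) • g 1, line_eq_span hW (hspan ▸ Submodule.smul_mem _ _
    (Submodule.mem_span_singleton_self _)) hw0, hww, hperp _, hperp _, hne _, hne _, ?_, ?_, ?_⟩
  · rw [hpair, ha, add_neg_cancel]
  · rw [hpair, mul_pow, mul_mul_mul_comm, ha, hz, mul_one, add_neg_cancel]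
  · rw [hpair, mul_pow, ← mul_assoc, ha]
    intro h
    apply hz1
    have h2 : z ^ q = 1 := by linear_combination -h
    rw [← pow_q_q hF z, h2, one_pow]

lemma exists_line_tv (hF : Fintype.card F = q ^ 2) {W : Submodule F (Fin 3 → F)} (hW : Module.finrank F W = 1) :
    ∃ v : Fin 3 → F, v ≠ 0 ∧ hermForm 3 F q v v = 0 ∧
      ∀ c : F, c + c ^ q = 0 → ∃ t ∈ subspaceStabilizer W ⊓ SU3 F q, TvElt q v c t := by
  by_cases hs : IsTotallySingularFor (hermForm 3 F q) W
  · obtain ⟨w, hw, hw0, hspan⟩ := exists_line_vec hW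
    exact ⟨w, hw0, hs w hw w hw, fun c hc => hspan ▸ exists_tv_stab hF (hs w hw w hw) (hs w hw w hw) hc⟩
  · obtain ⟨w, v, v', hspan, -, hwv, -, hv0, -, hv, -, -⟩ := exists_iso_pair hF hW hs
    exact ⟨v, hv0, hv, fun c hc => hspan ▸ exists_tv_stab hF hv hwv hc⟩

/-- A point stabiliser fixes only its point. -/
lemma line_unique (hF : Fintype.card F = q ^ 2) {W W' : Submodule F (Fin 3 → F)} (hW : Module.finrank F W = 1)
    (hW' : Module.finrank F W' = 1) (hle : subspaceStabilizer W ⊓ SU3 F q ≤ subspaceStabilizer W') : W' = W := by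
  obtain ⟨w', hw', hw'0, hspan'⟩ := exists_line_vec hW'
  obtain ⟨lam, hlam0, hlam⟩ := exists_trace_zero_ne_zero hF
  have htv : ∀ {w v : Fin 3 → F}, W = Submodule.span F {w} → v ≠ 0 → hermForm 3 F q v v = 0 →
      hermForm 3 F q w v = 0 → hermForm 3 F q w' v = 0 ∨ ∃ b : F, w' = b • v := by
    intro w v hspan hv0 hv hwv
    obtain ⟨t, ht, htx⟩ := exists_tv_stab hF hv hwv hlam
    obtain ⟨a, ha⟩ := stab_eigen (hle (hspan ▸ ht)) hspan'
    rw [htx] at ha
    by_cases h0 : hermForm 3 F q w' v = 0
    · exact Or.inl h0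
    refine Or.inr ⟨((a - 1)⁻¹ * (lam * hermForm 3 F q w' v)), ?_⟩
    have hsm : (a - 1) • w' = (lam * hermForm 3 F q w' v) • v := by
      rw [sub_smul, one_smul, ← ha, add_sub_cancel_left]
    have ha1 : a - 1 ≠ 0 := fun h => by
      rw [h, zero_smul] at hsm
      exact (smul_eq_zero.mp hsm.symm).elim (mul_ne_zero hlam0 h0) hv0
    rw [mul_smul, ← hsm, inv_smul_smul₀ ha1]
  by_cases hs : IsTotallySingularFor (hermForm 3 F q) W
  · obtain ⟨w, hw, hw0, hspan⟩ := exists_line_vec hW
    have hww := hs w hw w hw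
    rcases htv hspan hw0 hww hww with h | ⟨b, hb⟩
    · obtain ⟨d, hd⟩ := exists_eich_param hF w'
      obtain ⟨A, hA, hdet⟩ := exists_eich hF hww h hd
      have hAw : A.1.val *ᵥ w = w := by
        rw [hA, hww, herm_eq_zero_symm hF h]; simp
      have hmem : A.1 ∈ subspaceStabilizer W ⊓ SU3 F q :=
        ⟨hspan ▸ mem_stab_span (a := 1) (by rw [hAw, one_smul]), A.2, mem_specialLinear.mpr hdet⟩
      obtain ⟨a, ha⟩ := stab_eigen (hle hmem) hspan'
      rw [hA, h, zero_smul, add_zero, mul_zero, zero_sub, neg_smul, ← sub_eq_add_neg] at ha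
      have hsm : hermForm 3 F q w' w' • w = (1 - a) • w' := by
        rw [sub_smul, one_smul, ← ha, sub_sub_cancel]
      by_cases h0 : hermForm 3 F q w' w' = 0
      · -- an isotropic vector in the polar line is a multiple
        by_contra hne
        have hnot : w' ∉ W := fun hm => hne (hspan' ▸ (line_eq_span hW hm hw'0).symm)
        set U := Submodule.span F ({w, w'} : Set (Fin 3 → F))
        have hU : U ≤ perp q U := by
          rw [Submodule.span_le]
          intro x hx
          rw [SetLike.mem_coe, mem_perp_span hF]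
          intro y hy
          rcases hx with rfl | rfl <;> rcases hy with rfl | rfl
          · exact hww
          · exact herm_eq_zero_symm hF h
          · exact h
          · exact h0
        have hU2 : 2 ≤ Module.finrank F U := by
          have hli : LinearIndependent F ![w, w'] := by
            rw [LinearIndependent.pair_iff' hw0]
            intro b hb
            exact hnot (hb ▸ hspan ▸ Submodule.smul_mem _ b (Submodule.mem_span_singleton_self w))
          have := finrank_span_eq_card hli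
          rw [Fintype.card_fin, Matrix.range_cons_cons_empty] at this
          exact this.ge
        have := Submodule.finrank_mono hU
        have := finrank_perp hF U
        omega
      · have hwmem : w ∈ W' := by
          rw [← inv_smul_smul₀ h0 w, hsm, hspan']
          exact Submodule.smul_mem _ _ (Submodule.smul_mem _ _ (Submodule.mem_span_singleton_self _))
        exact (line_eq_span hW' hwmem hw0).trans hspan.symm
    · refine (line_eq_span hW' hw' hw'0).trans ?_
      rw [hspan, hb]
      exact Submodule.span_singleton_smul_eq (IsUnit.mk0 _ (fun h => hw'0 (by rw [hb, h, zero_smul]))) _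
  · obtain ⟨w, v, v', hspan, hww, hwv, hwv', hv0, hv'0, hv, hv', hvv'⟩ := exists_iso_pair hF hW hs
    have hperp : ∀ {u u' : Fin 3 → F}, hermForm 3 F q u u' ≠ 0 → u ≠ 0 → u' ≠ 0 → hermForm 3 F q u u = 0 →
        hermForm 3 F q u' u' = 0 → hermForm 3 F q w u = 0 → hermForm 3 F q w u' = 0 →
        hermForm 3 F q w' u = 0 := by
      intro u u' huu hu0 hu'0 hu hu' hwu hwu'
      rcases htv hspan hu0 hu hwu with h | ⟨b, hb⟩
      · exact h
      · rw [hb, herm_smul_left, hu, mul_zero]
    have h1 := hperp hvv' hv0 hv'0 hv hv' hwv hwv'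
    have h2 := hperp (fun h => hvv' (herm_eq_zero_symm hF h)) hv'0 hv0 hv' hv hwv' hwv
    -- the common polar of `v` and `v'` is the point
    set r := hermForm 3 F q w' w with hr
    have hz : w' - r • w = 0 := by
      refine herm_nondeg_left hF fun x => ?_
      have hli : LinearIndependent F ![w, v, v'] := by
        rw [Fintype.linearIndependent_iff]
        intro c hc
        simp only [Fin.sum_univ_three, Matrix.cons_val_zero, Matrix.cons_val_one, Matrix.head_cons, Matrix.cons_val_two,
          Matrix.tail_cons] at hc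
        have e0 := congrArg (fun y => hermForm 3 F q y w) hc
        have e1 := congrArg (fun y => hermForm 3 F q y v) hc
        have e2 := congrArg (fun y => hermForm 3 F q y v') hc
        simp only [herm_add_left, herm_smul_left, herm_zero_left, hww, hv, hv', hwv, hwv',
          herm_eq_zero_symm hF hwv, herm_eq_zero_symm hF hwv', mul_zero, mul_one, add_zero, zero_add,
          mul_eq_zero, hvv', or_false] at e0 e1 e2
        replace e1 := e1.resolve_right fun h => hvv' (herm_eq_zero_symm hF h)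
        intro i
        fin_cases i <;> assumption
      have hx : x ∈ Submodule.span F (Set.range ![w, v, v']) := by
        rw [hli.span_eq_top_of_card_eq_finrank (by simp)]; exact Submodule.mem_top
      obtain ⟨c, rfl⟩ := (Submodule.mem_span_range_iff_exists_fun F).mp hx
      simp [Fin.sum_univ_three, herm_add_right _ _ _ hF, herm_smul_right, herm_sub_left, herm_smul_left, h1, h2,
        hwv, hwv', hww, ← hr]
    rw [sub_eq_zero] at hz
    refine (line_eq_span hW' hw' hw'0).trans ?_
    rw [hspan, hz]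
    exact Submodule.span_singleton_smul_eq (IsUnit.mk0 _ (fun h => hw'0 (by rw [hz, h, zero_smul]))) _

/-- A point stabiliser is not monomial. -/
lemma line_not_frame (hF : Fintype.card F = q ^ 2) (hq : 3 ≤ q) {W : Submodule F (Fin 3 → F)}
    (hW : Module.finrank F W = 1) {D : Fin 3 → Submodule F (Fin 3 → F)}
    (hD : IsNondegenerateMDecomposition (hermForm 3 F q) 1 D) :
    ¬ subspaceStabilizer W ⊓ SU3 F q ≤ decompositionStabilizer D := by
  intro hle
  obtain ⟨v, hv0, hv, htv⟩ := exists_line_tv hF hW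
  obtain ⟨lam, hlam0, hlam⟩ := exists_trace_zero_ne_zero hF
  obtain ⟨z, hz, hz0, hz1⟩ := exists_fixed_ne hF hq
  obtain ⟨t, ht, htx⟩ := htv lam hlam
  obtain ⟨t', ht', htx'⟩ := htv (z * lam) (by rw [mul_pow, hz, ← mul_add, hlam, mul_zero])
  exact tv_not_frame hF hv0 hv hlam0 (mul_ne_zero hz0 hlam0)
    (fun h => hz1 (mul_right_cancel₀ hlam0 (by rw [one_mul]; exact h.symm))) htx htx' hD (hle ht) (hle ht')

lemma line_not_field (hF : Fintype.card F = q ^ 2) {W : Submodule F (Fin 3 → F)} (hW : Module.finrank F W = 1)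
    {K : Subalgebra F (Matrix (Fin 3) (Fin 3) F)} (hK : IsFieldSubalgebra 3 K) :
    ¬ subspaceStabilizer W ⊓ SU3 F q ≤ subalgebraNormalizer K := by
  intro hle
  obtain ⟨v, hv0, hv, htv⟩ := exists_line_tv hF hW
  obtain ⟨lam, hlam0, hlam⟩ := exists_trace_zero_ne_zero hF
  obtain ⟨t, ht, htx⟩ := htv lam hlam
  exact tv_not_subalgebra hF hv0 hlam0 htx hK (hle ht)

lemma line_not_subfield (hF : Fintype.card F = q ^ 2) {W : Submodule F (Fin 3 → F)} (hW : Module.finrank F W = 1)
    {F₀ : Subfield F} {r : ℕ} (hr : r.Prime) (hcase : Odd r ∨ (r = 2 ∧ Odd q))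
    (hcard : Fintype.card F = Nat.card F₀ ^ r) {P : GL (Fin 3) F}
    (hP : IsFormRationalStructure (hermForm 3 F q) F₀ 1 P) :
    ¬ subspaceStabilizer W ⊓ SU3 F q ≤ subfieldSubgroup F₀ P := by
  intro hle
  obtain ⟨v, hv0, hv, htv⟩ := exists_line_tv hF hW
  obtain ⟨lam, hlam0, hlam⟩ := exists_trace_zero_ne_zero hF
  obtain ⟨t, ht, htx⟩ := htv lam hlam
  rcases hcase with ho | ⟨rfl, hqo⟩
  · have hfix : fixed hF ≤ F₀ := by
      intro z hz
      have hz' : z ^ q = z := hz
      obtain ⟨t', ht', htx'⟩ := htv (z * lam) (by rw [mul_pow, hz', ← mul_add, hlam, mul_zero])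
      have := tv_ratio hF hv0 hv htx' htx (hle ht') (hle ht)
      rwa [mul_div_assoc, div_self hlam0, mul_one] at this
    have hqle : q ≤ Nat.card F₀ := by
      have := Nat.card_le_card_of_injective _ (Subfield.inclusion hfix).injective
      rwa [card_fixed' hF] at this
    have hq1 := one_lt_q hF
    have h1 : q ^ r ≤ q ^ 2 := by
      rw [← hF, hcard]
      exact Nat.pow_le_pow_left hqle r
    have h2 := (Nat.pow_le_pow_iff_right hq1).mp h1
    obtain ⟨k, rfl⟩ := ho
    have := hr.two_le
    omega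
  · exact tv_not_subfield_two hF hqo hv0 hv hlam0 hlam htx hcard hP (hle ht)

end Cfsg.Agent.Lib.SU3Max96
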