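import Cfsg.Agent.Lib.SU3Max96.ResidualBase
import Cfsg.Agent.Lib.Aschbacher.UnitaryFrames

set_option autoImplicit false
set_option linter.style.haveILetI false
set_option linter.unusedSectionVars false
set_option linter.unusedVariables false

/-!
Point stabilisers lie in no subgroup of the residual class.
-/

namespace Cfsg.Agent.Lib.SU3Max96

open Cfsg.Geo Cfsg.Agent.Lib.PrimeDim.Basic Cfsg.Agent.Lib.PrimeDim.Fields Cfsg.Agent.Lib.PrimeDim.Unitary
open Cfsg.Agent.Lib.PrimeDim.UnitaryBase Cfsg.Agent.Lib.PrimeDim.Symplectic Cfsg.Agent.Lib.Unitary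
open scoped Matrix MatrixGroups commutatorElement

variable {F : Type*} [Field F] [Fintype F] {q : ℕ}

lemma TvElt.pow {v : Fin 3 → F} {c : F} {t : GL (Fin 3) F} (ht : TvElt q v c t)
    (hv : hermForm 3 F q v v = 0) (k : ℕ) : TvElt q v ((k : F) * c) (t ^ k) := by
  intro x
  induction k with
  | zero => simp
  | succ k ih =>
    rw [pow_succ', Units.val_mul, ← Matrix.mulVec_mulVec, ih, Matrix.mulVec_add, Matrix.mulVec_smul, ht, ht, hv,
      mul_zero, zero_smul, add_zero, add_assoc, ← add_smul, Nat.cast_succ]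
    congr 2
    ring

lemma TvElt.pow_prime [Fact q.Prime] [CharP F q] (hF : Fintype.card F = q ^ 2) {v : Fin 3 → F} (hv0 : v ≠ 0)
    {c : F} {t : GL (Fin 3) F} (ht : TvElt q v c t) (hv : hermForm 3 F q v v = 0) : t ^ q = 1 := by
  rw [(ht.pow hv q).eq_one_iff hF hv0, CharP.cast_eq_zero, zero_mul]

lemma line_prime_dvd [Fact q.Prime] [CharP F q] (hF : Fintype.card F = q ^ 2) {W : Submodule F (Fin 3 → F)}
    (hW : Module.finrank F W = 1) :
    q ∣ Nat.card (subspaceStabilizer W ⊓ SU3 F q : Subgroup (GL (Fin 3) F)) := by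
  obtain ⟨v, hv0, hv, htv⟩ := exists_line_tv hF hW
  obtain ⟨lam, hlam0, hlam⟩ := exists_trace_zero_ne_zero hF
  obtain ⟨t, ht, htx⟩ := htv lam hlam
  have h1 : orderOf t = q :=
    orderOf_eq_prime (htx.pow_prime hF hv0 hv) fun h => hlam0 ((htx.eq_one_iff hF hv0).mp h)
  have h2 := orderOf_dvd_natCard (⟨t, ht⟩ : (subspaceStabilizer W ⊓ SU3 F q : Subgroup (GL (Fin 3) F)))
  rwa [← Subgroup.orderOf_coe, h1] at h2

/-- The stabiliser of an isotropic point has order divisible by the square of the characteristic. -/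
lemma line_sq_dvd [Fact q.Prime] [CharP F q] (hF : Fintype.card F = q ^ 2) (h3 : 3 ≤ q)
    {W : Submodule F (Fin 3 → F)} (hW : Module.finrank F W = 1)
    (hs : IsTotallySingularFor (hermForm 3 F q) W) :
    q ^ 2 ∣ Nat.card (subspaceStabilizer W ⊓ SU3 F q : Subgroup (GL (Fin 3) F)) := by
  obtain ⟨w, hw, hw0, hspan⟩ := exists_line_vec hW
  have hww := hs w hw w hw
  obtain ⟨lam, hlam0, hlam⟩ := exists_trace_zero_ne_zero hF
  obtain ⟨t, ht, htx⟩ := exists_tv_stab (w := w) hF hww hww hlam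
  rw [← hspan] at ht
  obtain ⟨z, hz, hzn⟩ : ∃ z, hermForm 3 F q z w = 0 ∧ z ∉ W := by
    by_contra! hall
    have hle : perp q W ≤ W := fun x hx => hall x (hx w hw)
    have h1 := Submodule.finrank_mono hle
    have h2 := finrank_perp hF W
    omega
  obtain ⟨d, hd⟩ := exists_eich_param hF z
  obtain ⟨A, hA, hdet⟩ := exists_eich hF hww hz hd
  set a : GL (Fin 3) F := A.1 with ha
  have hax : ∀ x, a.val *ᵥ x = x + hermForm 3 F q x w • z +
      (d * hermForm 3 F q x w - hermForm 3 F q x z) • w := hA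
  have haw : a.val *ᵥ w = w := by
    rw [hax, hww, herm_eq_zero_symm hF hz]; simp
  have hamem : a ∈ subspaceStabilizer W ⊓ SU3 F q :=
    ⟨hspan ▸ mem_stab_span (a := 1) (by rw [haw, one_smul]), A.2, mem_specialLinear.mpr hdet⟩
  have hcomm : t * a = a * t := by
    refine Units.ext (Matrix.ext_of_mulVec_single fun i => ?_)
    rw [Units.val_mul, Units.val_mul, ← Matrix.mulVec_mulVec, ← Matrix.mulVec_mulVec]
    set x : Fin 3 → F := Pi.single i 1
    rw [htx (a.val *ᵥ x), htx x, Matrix.mulVec_add, Matrix.mulVec_smul, haw]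
    congr 2
    congr 1
    have h := mem_GU_iff.mp A.2 x w
    rwa [← ha, haw] at h
  have hN : ∀ x, (a.val - 1) *ᵥ x = hermForm 3 F q x w • z + (d * hermForm 3 F q x w - hermForm 3 F q x z) • w := by
    intro x
    rw [Matrix.sub_mulVec, Matrix.one_mulVec, hax]
    abel
  have hNw : (a.val - 1) *ᵥ w = 0 := by rw [Matrix.sub_mulVec, Matrix.one_mulVec, haw, sub_self]
  have hN3 : (a.val - 1) ^ 3 = 0 := by
    refine Matrix.ext_of_mulVec_single fun i => ?_
    set x : Fin 3 → F := Pi.single i 1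
    rw [pow_succ, pow_two, ← Matrix.mulVec_mulVec, ← Matrix.mulVec_mulVec, hN x, Matrix.mulVec_add,
      Matrix.mulVec_smul, Matrix.mulVec_smul, hNw, smul_zero, add_zero, hN z, hz, mul_zero, zero_smul, zero_add,
      smul_smul, Matrix.mulVec_smul, hNw, smul_zero, Matrix.zero_mulVec]
  have haq : a ^ q = 1 := by
    refine Units.ext ?_
    have h1 : a.val = 1 + (a.val - 1) := by abel
    rw [Units.val_pow_eq_pow_val, h1, add_pow_char_of_commute (p := q) (Commute.one_left _), one_pow,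
      pow_eq_zero_of_le h3 hN3, add_zero, Units.val_one]
  have htq : t ^ q = 1 := htx.pow_prime hF hw0 hww
  set H := Subgroup.closure ({t, a} : Set (GL (Fin 3) F)) with hH
  have hHle : H ≤ subspaceStabilizer W ⊓ SU3 F q :=
    (Subgroup.closure_le _).mpr (Set.insert_subset ht (Set.singleton_subset_iff.mpr hamem))
  have hc2 : ∀ x ∈ H, ∀ y ∈ H, Commute x y := by
    have hcl : ∀ x ∈ H, Commute x t ∧ Commute x a := by
      intro x hx
      induction hx using Subgroup.closure_induction with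
      | mem x hx =>
        rcases hx with rfl | rfl
        · exact ⟨rfl, hcomm⟩
        · exact ⟨hcomm.symm, rfl⟩
      | one => exact ⟨Commute.one_left t, Commute.one_left a⟩
      | mul x y _ _ ix iy => exact ⟨ix.1.mul_left iy.1, ix.2.mul_left iy.2⟩
      | inv x _ ix => exact ⟨ix.1.inv_left, ix.2.inv_left⟩
    intro x hx y hy
    induction hy using Subgroup.closure_induction with
    | mem y hy => rcases hy with rfl | rfl; exacts [(hcl x hx).1, (hcl x hx).2]
    | one => exact Commute.one_right x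
    | mul y z _ _ iy iz => exact iy.mul_right iz
    | inv y _ iy => exact iy.inv_right
  have hHc : ∀ x ∈ H, x ^ q = 1 := by
    intro x hx
    induction hx using Subgroup.closure_induction with
    | mem x hx =>
      rcases hx with rfl | rfl
      · exact htq
      · exact haq
    | one => exact one_pow _
    | mul x y hx hy ix iy => rw [(hc2 x hx y hy).mul_pow, ix, iy, one_mul]
    | inv x _ ix => rw [inv_pow, ix, inv_one]
  have hp : IsPGroup q H := fun x => ⟨1, Subtype.ext (by simpa using (hHc x.1 x.2))⟩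
  obtain ⟨k, hk⟩ := IsPGroup.iff_card.mp hp
  have hlt : q < Nat.card H := by
    have hle : Subgroup.zpowers t ≤ H := Subgroup.zpowers_le.mpr (Subgroup.subset_closure (Set.mem_insert _ _))
    have hcard : Nat.card (Subgroup.zpowers t) = q := by
      rw [Nat.card_zpowers]
      exact orderOf_eq_prime htq fun h => hlam0 ((htx.eq_one_iff hF hw0).mp h)
    rw [← hcard]
    refine lt_of_le_of_ne (Subgroup.card_le_of_le hle) fun he => ?_
    have heq := Subgroup.eq_of_le_of_card_ge hle he.ge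
    have ha' : a ∈ Subgroup.zpowers t := heq ▸ Subgroup.subset_closure (Set.mem_insert_of_mem _ rfl)
    obtain ⟨j, hj⟩ := mem_powers_iff_mem_zpowers.mpr ha'
    replace hj : t ^ j = a := hj
    obtain ⟨x, hx⟩ := exists_pairing hF hw0
    have h1 := (htx.pow hww j) x
    rw [hj, hax, add_assoc, add_right_inj] at h1
    apply hzn
    have h2 : hermForm 3 F q x w • z ∈ W := by
      rw [eq_sub_of_add_eq h1, ← sub_smul, hspan]
      exact Submodule.smul_mem _ _ (Submodule.mem_span_singleton_self _)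
    rw [← inv_smul_smul₀ hx z]
    exact W.smul_mem _ h2
  have hk2 : 2 ≤ k := by
    rw [hk] at hlt
    by_contra hne
    interval_cases k <;> simp at hlt
    have := (Fact.out : q.Prime).two_le
    omega
  exact ((pow_dvd_pow q hk2).trans hk.symm.dvd).trans (Subgroup.card_dvd_of_le hHle)

/-- An orthonormal basis through a point off the cone. -/
lemma exists_frame_zero (hF : Fintype.card F = q ^ 2) {W : Submodule F (Fin 3 → F)} (hW : Module.finrank F W = 1)
    (hns : ¬ IsTotallySingularFor (hermForm 3 F q) W) :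
    ∃ U ∈ GU 3 F q, W = Submodule.span F {U.val *ᵥ Pi.single 0 1} := by
  obtain ⟨w, v, v', hspan, hww, -⟩ := exists_iso_pair hF hW hns
  obtain ⟨g, hg, hgw⟩ := orthonormal_extend hF (show 1 + 2 = 3 from rfl) (f := ![w])
    (fun i j => by fin_cases i; fin_cases j; simpa using hww)
  have h0 : hermForm 3 F q (g 0) w = 0 := by simpa using hgw 0 0
  have h1 : hermForm 3 F q (g 1) w = 0 := by simpa using hgw 1 0
  obtain ⟨A, hA⟩ := exists_GU_cols hF (f := ![w, g 0, g 1]) (fun i j => by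
    fin_cases i <;> fin_cases j <;>
      simp [hww, h0, h1, herm_eq_zero_symm hF h0, herm_eq_zero_symm hF h1, hg _ _])
  refine ⟨A.1, A.2, ?_⟩
  rw [hA]
  exact hspan

/-- The permutation of the frame members. -/
lemma frame_hom {U : GL (Fin 3) F} {D : Fin 3 → Submodule F (Fin 3 → F)}
    (hDU : ∀ i, D i = Submodule.span F {U.val *ᵥ Pi.single i 1}) {M : Subgroup (GL (Fin 3) F)}
    (hM : M ≤ decompositionStabilizer D) :
    ∃ φ : M →* Equiv.Perm (Fin 3), ∀ x : M, ∀ i, ∃ a : F,
      x.1.val *ᵥ (U.val *ᵥ Pi.single i 1) = a • (U.val *ᵥ Pi.single (φ x i) 1) := by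
  classical
  choose σ hσ using fun x : M => hM x.2
  have hinjD : ∀ i j, D i = D j → i = j := by
    intro i j e
    have hm : U.val *ᵥ Pi.single i 1 ∈ D j := e ▸ hDU i ▸ Submodule.mem_span_singleton_self _
    rw [hDU j, Submodule.mem_span_singleton] at hm
    obtain ⟨a, ha⟩ := hm
    have h' := congrArg (fun z => ((U⁻¹).val *ᵥ z) i) ha
    simp only [Matrix.mulVec_smul, inv_mulVec_cancel, Pi.smul_apply, smul_eq_mul, Pi.single_eq_same] at h'
    by_contra hne
    rw [Pi.single_eq_of_ne hne, mul_zero] at h'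
    exact zero_ne_one h'
  refine ⟨MonoidHom.mk' σ fun x y => Equiv.ext fun i => hinjD _ _ ?_, fun x i => ?_⟩
  · rw [Equiv.Perm.mul_apply, ← hσ (x * y) i, ← hσ x, ← hσ y, ← Submodule.map_comp, ← Matrix.toLin'_mul,
      ← Units.val_mul]
    rfl
  · have hm : x.1.val *ᵥ (U.val *ᵥ Pi.single i 1) ∈ D (σ x i) :=
      (hσ x i).le ⟨_, hDU i ▸ Submodule.mem_span_singleton_self _, by simp⟩
    rw [hDU, Submodule.mem_span_singleton] at hm
    obtain ⟨a, ha⟩ := hm
    exact ⟨a, ha.symm⟩

/-- In `SU(3, 3)` a point off the cone has a stabiliser of order divisible by `32`. -/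
lemma line_thirtytwo_dvd (hF : Fintype.card F = q ^ 2) (h3 : q = 3) {W : Submodule F (Fin 3 → F)}
    (hW : Module.finrank F W = 1) (hns : ¬ IsTotallySingularFor (hermForm 3 F q) W) :
    32 ∣ Nat.card (subspaceStabilizer W ⊓ SU3 F q : Subgroup (GL (Fin 3) F)) := by
  classical
  obtain ⟨U, hU, hWU⟩ := exists_frame_zero hF hW hns
  set D := Cfsg.Agent.Lib.Aschbacher.Unitary.frameDec U
  have hD : IsNondegenerateMDecomposition (hermForm 3 F q) 1 D :=
    Cfsg.Agent.Lib.Aschbacher.Unitary.frameDec_spec hF (by norm_num) hU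
  have hDU : ∀ i, D i = Submodule.span F {U.val *ᵥ Pi.single i 1} := fun i => rfl
  obtain ⟨φ, hφ⟩ := frame_hom hDU (M := decompositionStabilizer D ⊓ SU3 F q) inf_le_left
  have hsurj : Function.Surjective φ := by
    intro τ
    obtain ⟨g, hg, c, hc, hgi⟩ := exists_perm hF hU hDU τ
    refine ⟨⟨g, hg⟩, Equiv.ext fun i => ?_⟩
    obtain ⟨a, ha⟩ := hφ ⟨g, hg⟩ i
    rw [hgi] at ha
    by_contra hne
    have h' := congrArg (fun z => ((U⁻¹).val *ᵥ z) (τ i)) ha
    simp only [Matrix.mulVec_smul, inv_mulVec_cancel, Pi.smul_apply, smul_eq_mul, Pi.single_eq_same, mul_one,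
      Pi.single_eq_of_ne (Ne.symm hne), mul_zero] at h'
    have := hc i
    rw [h', zero_mul] at this
    exact zero_ne_one this
  set H := (MulAction.stabilizer (Equiv.Perm (Fin 3)) (0 : Fin 3)).comap φ with hH
  have hidx : H.index = 3 := by
    rw [hH, Subgroup.index_comap_of_surjective _ hsurj, MulAction.index_stabilizer_of_transitive,
      Nat.card_eq_fintype_card, Fintype.card_fin]
  have hc := H.card_mul_index
  rw [hidx, frame_card hF hD] at hc
  have hq16 : (q + 1) ^ 2 = 16 := by subst h3; norm_num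
  rw [hq16] at hc
  have hle : H.map (decompositionStabilizer D ⊓ SU3 F q).subtype ≤ subspaceStabilizer W ⊓ SU3 F q := by
    rintro _ ⟨x, hx, rfl⟩
    refine ⟨?_, x.2.2⟩
    obtain ⟨a, ha⟩ := hφ x 0
    have hx0 : φ x 0 = 0 := hx
    rw [hx0] at ha
    exact hWU ▸ mem_stab_span ha
  have := Subgroup.card_dvd_of_le hle
  rw [← Nat.card_congr (H.equivMapOfInjective _ (Subgroup.subtype_injective _)).toEquiv] at this
  exact (dvd_of_eq (by omega)).trans this

/-- In characteristic five a point off the cone is fixed by an element of order ten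
generated by transvections. -/
lemma exists_ten [CharP F 5] [Fact (Nat.Prime 5)] (hF : Fintype.card F = q ^ 2) (h5 : q = 5)
    {W : Submodule F (Fin 3 → F)} (hW : Module.finrank F W = 1)
    (hns : ¬ IsTotallySingularFor (hermForm 3 F q) W) :
    ∃ (x z : GL (Fin 3) F) (e w : Fin 3 → F), x ∈ subspaceStabilizer W ⊓ SU3 F q ∧
      z ∈ subspaceStabilizer W ⊓ SU3 F q ∧ x ^ 5 = 1 ∧ z ^ 5 = 1 ∧
      ((x * z * x) ^ 2 * x) ^ 5 = (x * z * x) ^ 2 ∧ ((x * z * x) ^ 2 * x) ^ 10 = 1 ∧
      ((x * z * x) ^ 2).val *ᵥ e = -e ∧ ((x * z * x) ^ 2).val *ᵥ w = w ∧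
      e ≠ 0 ∧ w ≠ 0 ∧ (x ^ 2) ∉ scalars (Fin 3) F ∧ ((x * z * x) ^ 2 * x) ^ 2 = x ^ 2 := by
  subst h5
  obtain ⟨U, hU, hWU⟩ := exists_frame_zero hF hW hns
  have h2 : (2 : F) ≠ 0 := two_ne_zero_of_char (F := F)
  obtain ⟨a, ha0, ha⟩ := exists_norm_neg_one hF
  set u : Fin 3 → (Fin 3 → F) := fun i => U.val *ᵥ Pi.single i 1 with hu
  have huu : ∀ i j, hermForm 3 F 5 (u i) (u j) = if i = j then 1 else 0 := fun i j => by
    rw [hu, mem_GU_iff.mp hU, herm_std hF]
  set e := u 1 + a • u 2 with he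
  set f := (2⁻¹ : F) • (u 1 + (-a) • u 2) with hf
  have h2q : (2⁻¹ : F) ^ 5 = 2⁻¹ := by
    rw [inv_pow, show (2 : F) = 1 + 1 by norm_num, add_pow_q hF, one_pow]
  have hpair : ∀ s t : F, hermForm 3 F 5 (u 1 + s • u 2) (u 1 + t • u 2) = 1 + s * t ^ 5 := by
    intro s t
    rw [herm_add_left, herm_smul_left, herm_add_right _ _ _ hF, herm_add_right _ _ _ hF, herm_smul_right,
      herm_smul_right, huu, huu, huu, huu]
    simp
  have hee : hermForm 3 F 5 e e = 0 := by rw [he, hpair, ha, add_neg_cancel]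
  have hff : hermForm 3 F 5 f f = 0 := by
    rw [hf, herm_smul_left, herm_smul_right, hpair, neg_pow_q hF, neg_mul_neg, ha, add_neg_cancel, mul_zero, mul_zero]
  have hef : hermForm 3 F 5 e f = 1 := by
    rw [he, hf, herm_smul_right, hpair, h2q, neg_pow_q hF, mul_neg, ha, neg_neg, one_add_one_eq_two,
      inv_mul_cancel₀ h2]
  have hfe : hermForm 3 F 5 f e = 1 := by
    rw [← herm_conj e f hF, hef, one_pow]
  have h0e : hermForm 3 F 5 (u 0) e = 0 := by
    rw [he, herm_add_right _ _ _ hF, herm_smul_right, huu, huu]; simp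
  have h0f : hermForm 3 F 5 (u 0) f = 0 := by
    rw [hf, herm_smul_right, herm_add_right _ _ _ hF, herm_smul_right, huu, huu]; simp
  have he0 : e ≠ 0 := fun h => by rw [h, herm_zero_left] at hef; exact zero_ne_one hef
  have hf0 : f ≠ 0 := fun h => by rw [h, herm_zero_left] at hfe; exact zero_ne_one hfe
  have hWu : W = Submodule.span F {u 0} := hWU
  have hU0 : u 0 ≠ 0 := U_single_ne U 0
  have hU' : ∀ g g' : GL (Fin 3) F, (∀ i, g.val *ᵥ u i = g'.val *ᵥ u i) → g = g' := fun g g' h => U_ext U h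
  clear_value e f u
  obtain ⟨lam, hlam0, hlam⟩ := exists_trace_zero_ne_zero hF
  set d := -lam⁻¹ with hd
  have hdd : d + d ^ 5 = 0 := by
    rw [hd, neg_pow_q hF, inv_pow, show lam ^ 5 = -lam by linear_combination hlam, inv_neg]
    ring
  have hdl : d * lam = -1 := by rw [hd, neg_mul, inv_mul_cancel₀ hlam0]
  obtain ⟨x, hx, hxx⟩ := exists_tv_stab (w := u 0) hF hee h0e hlam
  obtain ⟨z, hz, hzx⟩ := exists_tv_stab (w := u 0) hF hff h0f hdd
  rw [← hWu] at hx hz
  have x0 : x.val *ᵥ u 0 = u 0 := by rw [hxx, h0e, mul_zero, zero_smul, add_zero]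
  have xe : x.val *ᵥ e = e := by rw [hxx, hee, mul_zero, zero_smul, add_zero]
  have xf : x.val *ᵥ f = f + lam • e := by rw [hxx, hfe, mul_one]
  have z0 : z.val *ᵥ u 0 = u 0 := by rw [hzx, h0f, mul_zero, zero_smul, add_zero]
  have ze : z.val *ᵥ e = e + d • f := by rw [hzx, hef, mul_one]
  have zf : z.val *ᵥ f = f := by rw [hzx, hff, mul_zero, zero_smul, add_zero]
  set n := x * z * x with hn
  have ne0 : n.val *ᵥ u 0 = u 0 := by
    rw [hn, Units.val_mul, Units.val_mul, ← Matrix.mulVec_mulVec, ← Matrix.mulVec_mulVec, x0, z0, x0]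
  have nee : n.val *ᵥ e = d • f := by
    rw [hn, Units.val_mul, Units.val_mul, ← Matrix.mulVec_mulVec, ← Matrix.mulVec_mulVec, xe, ze, Matrix.mulVec_add,
      Matrix.mulVec_smul, xe, xf, smul_add, smul_smul, hdl, neg_one_smul]
    abel
  have nef : n.val *ᵥ f = lam • e := by
    rw [hn, Units.val_mul, Units.val_mul, ← Matrix.mulVec_mulVec, ← Matrix.mulVec_mulVec, xf, Matrix.mulVec_add,
      Matrix.mulVec_smul, zf, ze, smul_add, smul_smul, mul_comm lam d, hdl, neg_one_smul, add_comm (lam • e),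
      ← add_assoc, add_neg_cancel, zero_add, Matrix.mulVec_smul, xe]
  set m := n ^ 2 with hm
  have me0 : m.val *ᵥ u 0 = u 0 := by rw [hm, sq, Units.val_mul, ← Matrix.mulVec_mulVec, ne0, ne0]
  have mee : m.val *ᵥ e = -e := by
    rw [hm, sq, Units.val_mul, ← Matrix.mulVec_mulVec, nee, Matrix.mulVec_smul, nef, smul_smul, hdl, neg_one_smul]
  have mef : m.val *ᵥ f = -f := by
    rw [hm, sq, Units.val_mul, ← Matrix.mulVec_mulVec, nef, Matrix.mulVec_smul, nee, smul_smul, mul_comm lam d, hdl,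
      neg_one_smul]
  have hext : ∀ g g' : GL (Fin 3) F, g.val *ᵥ u 0 = g'.val *ᵥ u 0 → g.val *ᵥ e = g'.val *ᵥ e →
      g.val *ᵥ f = g'.val *ᵥ f → g = g' := by
    intro g g' h0 he' hf'
    have h1 : u 1 = (2⁻¹ : F) • e + f := by
      rw [he, hf, ← smul_add, neg_smul, show u 1 + a • u 2 + (u 1 + -(a • u 2)) = (2 : F) • u 1 by
        rw [two_smul]; abel, inv_smul_smul₀ h2]
    have h2' : a • u 2 = (2⁻¹ : F) • e - f := by
      rw [he, hf, ← smul_sub, neg_smul, show u 1 + a • u 2 - (u 1 + -(a • u 2)) = (2 : F) • (a • u 2) by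
        rw [two_smul]; abel, inv_smul_smul₀ h2]
    have h1' : g.val *ᵥ u 1 = g'.val *ᵥ u 1 := by
      rw [h1, Matrix.mulVec_add, Matrix.mulVec_add, Matrix.mulVec_smul, Matrix.mulVec_smul, he', hf']
    have h2'' : g.val *ᵥ u 2 = g'.val *ᵥ u 2 := by
      refine smul_right_injective (Fin 3 → F) ha0 ?_
      show a • (g.val *ᵥ u 2) = a • (g'.val *ᵥ u 2)
      rw [← Matrix.mulVec_smul, ← Matrix.mulVec_smul, h2', Matrix.mulVec_sub, Matrix.mulVec_sub, Matrix.mulVec_smul,
        Matrix.mulVec_smul, he', hf']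
    exact hU' _ _ fun i => by fin_cases i; exacts [h0, h1', h2'']
  have hmm : m * m = 1 := by
    refine hext _ _ ?_ ?_ ?_ <;> simp [← Matrix.mulVec_mulVec, me0, mee, mef, Matrix.mulVec_neg]
  have hmx : m * x = x * m := by
    refine hext _ _ ?_ ?_ ?_ <;>
      simp [← Matrix.mulVec_mulVec, me0, mee, mef, x0, xe, xf, Matrix.mulVec_neg, Matrix.mulVec_add,
        Matrix.mulVec_smul, add_comm]
  have hx5 : x ^ 5 = 1 := TvElt.pow_prime hF he0 hxx hee
  have hz5 : z ^ 5 = 1 := TvElt.pow_prime hF hf0 hzx hff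
  have hm5 : (m * x) ^ 5 = m := by
    rw [Commute.mul_pow hmx, hx5, mul_one, show (5 : ℕ) = 2 * 2 + 1 from rfl, pow_succ, pow_mul, sq m, hmm, one_pow, one_mul]
  refine ⟨x, z, e, u 0, hx, hz, hx5, hz5, hm5, ?_, mee, me0, he0, hU0, ?_, ?_⟩
  · rw [show 10 = 5 * 2 from rfl, pow_mul, hm5, sq, hmm]
  · intro hs
    obtain ⟨c, hc⟩ := (mem_scalars_iff _).mp hs
    have h := hxx.pow hee 2
    have hE := h e
    have hF' := h f
    rw [hee, mul_zero, zero_smul, add_zero, hc, Matrix.smul_mulVec, Matrix.one_mulVec] at hE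
    have hc1 : (c : F) = 1 := smul_left_injective F he0 (hE.trans (one_smul F e).symm)
    rw [hfe, mul_one, hc, hc1, one_smul, Matrix.one_mulVec, left_eq_add] at hF'
    exact (smul_eq_zero.mp hF').elim (mul_ne_zero (by exact_mod_cast h2) hlam0) he0
  · rw [Commute.mul_pow hmx, sq m, hmm, one_mul]
where
  two_ne_zero_of_char {F : Type _} [Field F] [CharP F 5] : (2 : F) ≠ 0 := fun h => by
    have := (CharP.cast_eq_zero_iff F 5 2).mp (by exact_mod_cast h)
    omega

end Cfsg.Agent.Lib.SU3Max96
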