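import Cfsg.Agent.Lib.SU3Max96.Frame

set_option autoImplicit false
set_option linter.style.haveILetI false
set_option linter.unusedSectionVars false
set_option linter.unusedVariables false

/-!
A form-rational structure of `SU(3, q)` has a unitary basis.
-/

namespace Cfsg.Agent.Lib.SU3Max96

open Cfsg.Geo Cfsg.Agent.Lib.PrimeDim.Basic Cfsg.Agent.Lib.PrimeDim.Fields Cfsg.Agent.Lib.PrimeDim.Unitary
open Cfsg.Agent.Lib.PrimeDim.UnitaryBase Cfsg.Agent.Lib.PrimeDim.Symplectic Cfsg.Agent.Lib.Unitary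
open scoped Matrix MatrixGroups commutatorElement

variable {F : Type*} [Field F] [Fintype F] {q : ℕ}

lemma two_ne_zero_of_odd (hF : Fintype.card F = q ^ 2) (hq : Odd q) : (2 : F) ≠ 0 := by
  obtain ⟨p, k, hp, hchar, hk, hqk⟩ := q_eq_primePow hF
  intro h0
  have : p ∣ 2 := (CharP.cast_eq_zero_iff F p 2).mp (by exact_mod_cast h0)
  have hp2 : p = 2 := (Nat.prime_dvd_prime_iff_eq hp Nat.prime_two).mp this
  subst hp2
  exact (Nat.not_even_iff_odd.mpr hq) (hqk ▸ (Nat.even_pow.mpr ⟨even_two, by omega⟩))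

/-- The norm of an element of the fixed field is a norm from a subfield of odd index. -/
lemma exists_norm_in (hF : Fintype.card F = q ^ 2) {F₀ : Subfield F} {r : ℕ} (hr : Odd r)
    (hcard : Fintype.card F = Nat.card F₀ ^ r) {d : F} (hd : d ∈ F₀) (hdq : d ^ q = d) :
    ∃ x ∈ F₀, x * x ^ q = d := by
  rcases eq_or_ne d 0 with rfl | hd0
  · exact ⟨0, zero_mem _, zero_mul _⟩
  obtain ⟨ν, hν⟩ := norm_surj hF (y := d) hdq
  have hν0 : ν ≠ 0 := fun h => hd0 (by rw [← hν, h, zero_mul])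
  set Q := Nat.card F₀
  obtain ⟨m, rfl⟩ := hr
  set S := ∑ i ∈ Finset.range (2 * m + 1), Q ^ i with hS
  have hQ1 : 1 < Q := Finite.one_lt_card
  have hgeo : (Q - 1) * S + 1 = Q ^ (2 * m + 1) := by
    have h := geom_sum_mul_add (Q - 1) (2 * m + 1)
    rw [Nat.sub_add_cancel (by omega : 1 ≤ Q)] at h
    rw [hS, mul_comm]; exact h
  have hνS : ν ^ S ∈ F₀ := by
    rw [mem_subfield_iff]
    show (ν ^ S) ^ Q = ν ^ S
    rw [← pow_mul, show S * Q = (Q - 1) * S + S by rw [Nat.sub_one_mul, mul_comm S]; rw [Nat.sub_add_cancel (Nat.le_mul_of_pos_left _ (by omega))],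
      pow_add]
    have h1 : ν ^ ((Q - 1) * S) = 1 := by
      refine mul_right_cancel₀ hν0 ?_
      rw [← pow_succ, hgeo, ← hcard, FiniteField.pow_card, one_mul]
    rw [h1, one_mul]
  refine ⟨ν ^ S / d ^ m, div_mem hνS (pow_mem hd m), ?_⟩
  have hdS : d ^ S = d ^ (2 * m + 1) := by
    have hfix : ∀ i, d ^ Q ^ i = d := by
      intro i
      induction i with
      | zero => simp
      | succ i ih => rw [pow_succ, pow_mul, ih]; exact (mem_subfield_iff F₀).mp hd
    rw [hS, ← Finset.prod_pow_eq_pow_sum, Finset.prod_congr rfl fun i _ => hfix i, Finset.prod_const,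
      Finset.card_range]
  rw [div_pow, ← pow_mul d m, mul_comm m q, pow_mul, hdq, ← pow_mul, mul_comm S q, pow_mul, div_mul_div_comm,
    ← mul_pow, hν, hdS, ← pow_add, show 2 * m + 1 = m + m + 1 by ring, pow_succ,
    mul_div_cancel_left₀ _ (pow_ne_zero _ hd0)]

lemma exists_sum_sq {F₀ : Subfield F} (hodd : Odd (Nat.card F₀)) {c : F} (hc : c ∈ F₀) :
    ∃ x ∈ F₀, ∃ y ∈ F₀, x ^ 2 + y ^ 2 = c := by
  classical
  have hf : (Polynomial.X ^ 2 : Polynomial F₀).degree = 2 := Polynomial.degree_X_pow 2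
  have hg : (Polynomial.X ^ 2 - Polynomial.C (⟨c, hc⟩ : F₀)).degree = 2 := Polynomial.degree_X_pow_sub_C (by norm_num) _
  obtain ⟨a, b, hab⟩ := FiniteField.exists_root_sum_quadratic hf hg
    (by rw [← Nat.card_eq_fintype_card]; exact Nat.odd_iff.mp hodd)
  refine ⟨a, a.2, b, b.2, ?_⟩
  have h := congrArg (fun z : F₀ => (z : F)) hab
  simp at h
  linear_combination h

section

variable {F₀ : Subfield F} {P : GL (Fin 3) F}

/-- Vectors rational for the structure. -/
def Rat' (F₀ : Subfield F) (P : GL (Fin 3) F) (v : Fin 3 → F) : Prop := ∀ i, ((P⁻¹).val *ᵥ v) i ∈ F₀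

lemma Rat'.sub {v w : Fin 3 → F} (hv : Rat' F₀ P v) (hw : Rat' F₀ P w) : Rat' F₀ P (v - w) := fun i => by
  rw [Matrix.mulVec_sub, Pi.sub_apply]; exact sub_mem (hv i) (hw i)

lemma Rat'.add {v w : Fin 3 → F} (hv : Rat' F₀ P v) (hw : Rat' F₀ P w) : Rat' F₀ P (v + w) := fun i => by
  rw [Matrix.mulVec_add, Pi.add_apply]; exact add_mem (hv i) (hw i)

lemma Rat'.smul {v : Fin 3 → F} {c : F} (hc : c ∈ F₀) (hv : Rat' F₀ P v) : Rat' F₀ P (c • v) := fun i => by
  rw [Matrix.mulVec_smul, Pi.smul_apply, smul_eq_mul]; exact mul_mem hc (hv i)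

lemma rat_col (j : Fin 3) : Rat' F₀ P (P.val *ᵥ Pi.single j 1) := fun i => by
  rw [inv_mulVec_cancel]
  by_cases hij : i = j
  · subst hij; rw [Pi.single_eq_same]; exact one_mem _
  · rw [Pi.single_eq_of_ne hij]; exact zero_mem _

lemma Rat'.herm (hP : IsFormRationalStructure (hermForm 3 F q) F₀ 1 P) {v w : Fin 3 → F} (hv : Rat' F₀ P v)
    (hw : Rat' F₀ P w) : hermForm 3 F q v w ∈ F₀ := by
  have h := hP _ _ hv hw
  rwa [one_mul, mulVec_inv_cancel, mulVec_inv_cancel] at h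

/-- An anisotropic rational vector orthogonal to fewer than three given ones. -/
lemma exists_aniso (hF : Fintype.card F = q ^ 2) {r : ℕ} (hcase : Odd r ∨ (r = 2 ∧ Odd q))
    (hcard : Fintype.card F = Nat.card F₀ ^ r) (hP : IsFormRationalStructure (hermForm 3 F q) F₀ 1 P)
    {k : ℕ} (hk : k < 3) (b : Fin k → Fin 3 → F) (hb : ∀ i, Rat' F₀ P (b i))
    (hd : ∀ i, hermForm 3 F q (b i) (b i) ≠ 0) (ho : ∀ i j, i ≠ j → hermForm 3 F q (b i) (b j) = 0) :
    ∃ v, Rat' F₀ P v ∧ hermForm 3 F q v v ≠ 0 ∧ ∀ i, hermForm 3 F q v (b i) = 0 := by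
  classical
  by_contra! hc
  -- the projection
  let π : (Fin 3 → F) → (Fin 3 → F) := fun v =>
    v - ∑ i, (hermForm 3 F q v (b i) / hermForm 3 F q (b i) (b i)) • b i
  have hsum : ∀ (s : Finset (Fin k)) (c : Fin k → F), (∀ i, c i ∈ F₀) → Rat' F₀ P (∑ i ∈ s, c i • b i) := by
    intro s c hc' j
    rw [Matrix.mulVec_sum, Finset.sum_apply]
    exact sum_mem fun i _ => Rat'.smul (hc' i) (hb i) j
  have hπr : ∀ v, Rat' F₀ P v → Rat' F₀ P (π v) := fun v hv =>
    hv.sub (hsum _ _ fun i => div_mem (hv.herm hP (hb i)) ((hb i).herm hP (hb i)))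
  have hπo : ∀ v i, hermForm 3 F q (π v) (b i) = 0 := by
    intro v i
    simp only [π, herm_sub_left, herm_sum_left, herm_smul_left]
    rw [Finset.sum_eq_single i (fun j _ hj => by rw [ho j i hj, mul_zero]) (by simp), div_mul_cancel₀ _ (hd i), sub_self]
  have hiso : ∀ v, Rat' F₀ P v → hermForm 3 F q (π v) (π v) = 0 := fun v hv => by
    by_contra hne
    obtain ⟨i, hi⟩ := hc _ (hπr v hv) hne
    exact hi (hπo v i)
  have hpol : ∀ v w, Rat' F₀ P v → Rat' F₀ P w → hermForm 3 F q (π v) (π w) = 0 := by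
    intro v w hv hw
    set a := hermForm 3 F q (π v) (π w) with ha
    have haF : a ∈ F₀ := (hπr v hv).herm hP (hπr w hw)
    have key : ∀ c ∈ F₀, c * a + (c * a) ^ q = 0 := by
      intro c hcF
      by_cases hz : hermForm 3 F q (c • π v + π w) (c • π v + π w) = 0
      · simp only [herm_add_left, herm_add_right _ _ _ hF, herm_smul_left, herm_smul_right, hiso v hv, hiso w hw,
          mul_zero, add_zero, zero_add, ← ha] at hz
        rw [← herm_conj (π v) (π w) hF, ← ha] at hz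
        rw [mul_pow]
        linear_combination hz
      · exfalso
        obtain ⟨i, hi⟩ := hc _ ((hπr v hv).smul hcF |>.add (hπr w hw)) hz
        exact hi (by rw [herm_add_left, herm_smul_left, hπo, hπo, mul_zero, add_zero])
    by_contra ha0
    have h1 := key 1 (one_mem _)
    rw [one_mul] at h1
    rcases hcase with ho' | ⟨rfl, hqo⟩
    · have hfix : F₀ ≤ fixed hF := by
        intro c hcF
        have h2 := key c hcF
        rw [mul_pow, eq_neg_of_add_eq_zero_right h1] at h2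
        show c ^ q = c
        exact (mul_right_cancel₀ ha0 (show c * a = c ^ q * a by linear_combination h2)).symm
      have hμ := exists_conj_ne hF
      obtain ⟨μ, hμ⟩ := hμ
      apply hμ
      have hs : μ + μ ^ q ∈ fixed hF := by
        show (μ + μ ^ q) ^ q = μ + μ ^ q
        rw [add_pow_q hF, pow_q_q hF, add_comm]
      have hp : μ * μ ^ q ∈ fixed hF := by
        show (μ * μ ^ q) ^ q = μ * μ ^ q
        rw [mul_pow, pow_q_q hF, mul_comm]
      -- the subfield is small, so the whole field is fixed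
      have hle : Nat.card F₀ ≤ q := by
        have := Nat.card_le_card_of_injective _ (Subfield.inclusion hfix).injective
        rwa [card_fixed' hF] at this
      obtain ⟨p, f, _, _, hf, hFp⟩ := exists_char_card (F := F)
      obtain ⟨e, he, hdvd, hQe, -⟩ := card_subfield F₀ hFp
      obtain ⟨p', g, hp', _, hg, hqg⟩ := q_eq_primePow hF
      obtain rfl : p' = p := CharP.eq F ‹_› ‹_›
      obtain ⟨i, hi, hi'⟩ := (Nat.dvd_prime_pow hp').mp (show p' ^ g ∣ p' ^ g from dvd_rfl)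
      have hef : f = 2 * g := Nat.pow_right_injective hp'.two_le (show p' ^ f = p' ^ (2 * g) by
        rw [← hFp, hF, hqg, ← pow_mul, mul_comm])
      have her : e * r = f := Nat.pow_right_injective hp'.two_le (show p' ^ (e * r) = p' ^ f by
        rw [← hFp, hcard, hQe, pow_mul])
      exfalso
      have heg : e ∣ g := by
        have hsub : ∀ x ∈ F₀, x ^ q = x := fun x hx => hfix hx
        obtain ⟨u, hu⟩ := IsCyclic.exists_ofOrder_eq_natCard (α := F₀ˣ)
        rw [Nat.card_units, hQe] at hu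
        have h2 : orderOf u ∣ q - 1 := orderOf_dvd_of_pow_eq_one (Units.ext (Subtype.ext (by
          have h3 := hsub _ (u : F₀).2
          have h4 : ((u : F₀) : F) ≠ 0 := fun h => u.ne_zero (Subtype.ext h)
          have h1q := one_lt_q hF
          show (((u : F₀) : F)) ^ (q - 1) = 1
          refine mul_right_cancel₀ h4 ?_
          rw [← pow_succ, Nat.sub_add_cancel h1q.le, h3, one_mul])))
        rw [hu, hqg] at h2
        have h5 : Nat.gcd (p' ^ e - 1) (p' ^ g - 1) = p' ^ e - 1 := Nat.gcd_eq_left h2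
        rw [Nat.pow_sub_one_gcd_pow_sub_one] at h5
        have h6 : Nat.gcd e g = e := Nat.pow_right_injective hp'.two_le (show p' ^ Nat.gcd e g = p' ^ e by
          have a1 := Nat.one_le_pow (Nat.gcd e g) p' hp'.pos
          have a2 := Nat.one_le_pow e p' hp'.pos
          omega)
        exact h6 ▸ Nat.gcd_dvd_right e g
      obtain ⟨t, ht⟩ := heg
      have hr2 : r = 2 * t := by
        have : e * r = e * (2 * t) := by rw [her, hef, ht]; ring
        exact Nat.eq_of_mul_eq_mul_left he this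
      exact Nat.not_even_iff_odd.mpr ho' ⟨t, by omega⟩
    · have hFQ : Nat.card F₀ = q := Nat.pow_left_injective two_ne_zero (hcard.symm.trans hF)
      rw [mem_subfield_iff, hFQ] at haF
      rw [haF] at h1
      exact mul_ne_zero (two_ne_zero_of_odd hF hqo) ha0 (by linear_combination h1)
  have hzero : ∀ v, Rat' F₀ P v → π v = 0 := by
    intro v hv
    refine herm_nondeg_left hF fun x => ?_
    rw [← mulVec_inv_cancel P x, pi_eq_sum_univ' ((P⁻¹).val *ᵥ x), Matrix.mulVec_sum, herm_sum_right _ hF]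
    refine Finset.sum_eq_zero fun j _ => ?_
    rw [Matrix.mulVec_smul, herm_smul_right]
    apply mul_eq_zero_of_right
    have h1 := hpol v _ hv (rat_col (F₀ := F₀) (P := P) j)
    change hermForm 3 F q (π v) (P.val *ᵥ Pi.single j 1 - ∑ i, (hermForm 3 F q (P.val *ᵥ Pi.single j 1) (b i) /
      hermForm 3 F q (b i) (b i)) • b i) = 0 at h1
    rw [herm_sub_right _ _ _ hF, herm_sum_right _ hF, Finset.sum_eq_zero (fun i _ => ?_), sub_zero] at h1
    · exact h1
    · rw [herm_smul_right]; exact mul_eq_zero_of_right _ (hπo v i)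
  have hspan : ∀ j, P.val *ᵥ Pi.single j 1 ∈ Submodule.span F (Set.range b) := by
    intro j
    have h1 := hzero _ (rat_col (F₀ := F₀) (P := P) j)
    simp only [π, sub_eq_zero] at h1
    rw [h1]
    exact Submodule.sum_mem _ fun i _ => Submodule.smul_mem _ _ (Submodule.subset_span ⟨i, rfl⟩)
  have htop : Submodule.span F (Set.range b) = ⊤ := by
    rw [eq_top_iff]
    intro x _
    rw [← mulVec_inv_cancel P x, pi_eq_sum_univ' ((P⁻¹).val *ᵥ x), Matrix.mulVec_sum]
    exact Submodule.sum_mem _ fun j _ => by rw [Matrix.mulVec_smul]; exact Submodule.smul_mem _ _ (hspan j)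
  have h3 := finrank_range_le_card (R := F) b
  rw [Set.finrank, htop, finrank_top, Module.finrank_fin_fun, Fintype.card_fin] at h3
  omega

/-- A subfield member has a unitary change of basis. -/
theorem exists_GU_subfield (hF : Fintype.card F = q ^ 2) {r : ℕ} (hcase : Odd r ∨ (r = 2 ∧ Odd q))
    (hcard : Fintype.card F = Nat.card F₀ ^ r) (hP : IsFormRationalStructure (hermForm 3 F q) F₀ 1 P) :
    ∃ U ∈ GU 3 F q, subfieldSubgroup F₀ P = subfieldSubgroup F₀ U := by
  classical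
  obtain ⟨v₀, r₀, d₀, -⟩ := exists_aniso hF hcase hcard hP (k := 0) (by norm_num) ![] (fun i => i.elim0)
    (fun i => i.elim0) (fun i => i.elim0)
  obtain ⟨v₁, r₁, d₁, o₁⟩ := exists_aniso hF hcase hcard hP (k := 1) (by norm_num) ![v₀] (fun i => by simpa using r₀)
    (fun i => by simpa using d₀) (fun i j h => absurd (Subsingleton.elim i j) h)
  have o10 : hermForm 3 F q v₁ v₀ = 0 := by simpa using o₁ 0
  obtain ⟨v₂, r₂, d₂, o₂⟩ := exists_aniso hF hcase hcard hP (k := 2) (by norm_num) ![v₀, v₁]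
    (fun i => by fin_cases i <;> assumption) (fun i => by fin_cases i <;> assumption)
    (fun i j h => by
      fin_cases i <;> fin_cases j <;> first | exact absurd rfl h | exact o10 | exact herm_eq_zero_symm hF o10)
  have o20 : hermForm 3 F q v₂ v₀ = 0 := by simpa using o₂ 0
  have o21 : hermForm 3 F q v₂ v₁ = 0 := by simpa using o₂ 1
  -- an orthogonal basis of equal norms
  suffices h : ∃ (δ : F) (b : Fin 3 → Fin 3 → F), δ ≠ 0 ∧ δ ^ q = δ ∧ (∀ i, Rat' F₀ P (b i)) ∧
      ∀ i j, hermForm 3 F q (b i) (b j) = if i = j then δ else 0 by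
    obtain ⟨δ, b, hδ0, hδ, hb, hbb⟩ := h
    obtain ⟨l, hl⟩ := norm_surj hF (y := δ⁻¹) (by rw [inv_pow, hδ])
    have hl0 : l ≠ 0 := fun h => inv_ne_zero hδ0 (by rw [← hl, h, zero_mul])
    obtain ⟨U, hU⟩ := exists_GU_cols hF (f := fun i => l • b i) (fun i j => by
      rw [herm_smul_left, herm_smul_right, hbb, ← mul_assoc, hl]
      split
      · exact inv_mul_cancel₀ hδ0
      · exact mul_zero _)
    refine ⟨U.1, U.2, ?_⟩
    set u : GL (Fin 3) F := Units.map (Matrix.scalar (Fin 3) : F →+* Matrix (Fin 3) (Fin 3) F).toMonoidHom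
      (Units.mk0 l hl0) with hu
    have hus : u ∈ scalars (Fin 3) F := ⟨_, rfl⟩
    have huv : u.val = l • (1 : Matrix (Fin 3) (Fin 3) F) := by simp [hu, Matrix.smul_one_eq_diagonal]
    set H := ((Matrix.GeneralLinearGroup.map (F₀.subtype : F₀ →+* F)).range ⊔ scalars (Fin 3) F) with hH
    have hmem : P⁻¹ * U.1 ∈ H := by
      have hrat : ∀ i j, (P⁻¹ * U.1 * u⁻¹ : GL (Fin 3) F).val i j ∈ F₀ := by
        intro i j
        have h1 : (P⁻¹ * U.1 * u⁻¹ : GL (Fin 3) F).val *ᵥ Pi.single j 1 = (P⁻¹).val *ᵥ b j := by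
          have h2 : (u⁻¹).val *ᵥ Pi.single j 1 = l⁻¹ • (Pi.single j 1 : Fin 3 → F) := by
            have h3 : u.val *ᵥ (l⁻¹ • Pi.single j 1) = Pi.single j 1 := by
              rw [huv, Matrix.smul_mulVec, Matrix.one_mulVec, smul_inv_smul₀ hl0]
            conv_lhs => rw [← h3]
            rw [inv_mulVec_cancel]
          rw [Units.val_mul, ← Matrix.mulVec_mulVec, h2, Units.val_mul, Matrix.mulVec_smul, ← Matrix.mulVec_mulVec,
            hU, Matrix.mulVec_smul, inv_smul_smul₀ hl0]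
        have h4 := congrFun h1 i
        rw [Matrix.mulVec_single_one, Matrix.col_apply] at h4
        rw [h4]
        exact hb j i
      rw [show P⁻¹ * U.1 = P⁻¹ * U.1 * u⁻¹ * u by group]
      exact mul_mem (Subgroup.mem_sup_left (scalar_entry_mem hrat)) (Subgroup.mem_sup_right hus)
    set M := P⁻¹ * U.1 with hM
    have hUM : U.1 = P * M := by rw [hM, mul_inv_cancel_left]
    ext g
    simp only [subfieldSubgroup, Subgroup.mem_map]
    constructor
    · rintro ⟨x, hx, rfl⟩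
      refine ⟨M⁻¹ * x * M, mul_mem (mul_mem (inv_mem hmem) hx) hmem, ?_⟩
      simp only [MulEquiv.coe_toMonoidHom, MulAut.conj_apply, hUM]
      group
    · rintro ⟨x, hx, rfl⟩
      refine ⟨M * x * M⁻¹, mul_mem (mul_mem hmem hx) (inv_mem hmem), ?_⟩
      simp only [MulEquiv.coe_toMonoidHom, MulAut.conj_apply, hUM]
      group
  set D₀ := hermForm 3 F q v₀ v₀ with hD₀
  set D₁ := hermForm 3 F q v₁ v₁ with hD₁
  set D₂ := hermForm 3 F q v₂ v₂ with hD₂
  have e01 := herm_eq_zero_symm hF o10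
  have e02 := herm_eq_zero_symm hF o20
  have e12 := herm_eq_zero_symm hF o21
  have f₀ := herm_self_fixed v₀ hF
  have f₁ := herm_self_fixed v₁ hF
  have f₂ := herm_self_fixed v₂ hF
  rw [← hD₀] at f₀; rw [← hD₁] at f₁; rw [← hD₂] at f₂
  have m₀ : D₀ ∈ F₀ := r₀.herm hP r₀
  have m₁ : D₁ ∈ F₀ := r₁.herm hP r₁
  have m₂ : D₂ ∈ F₀ := r₂.herm hP r₂
  rcases hcase with ho | ⟨rfl, hqo⟩
  · obtain ⟨x₀, h₀, e₀⟩ := exists_norm_in hF ho hcard (inv_mem m₀) (by rw [inv_pow, f₀])
    obtain ⟨x₁, h₁, e₁⟩ := exists_norm_in hF ho hcard (inv_mem m₁) (by rw [inv_pow, f₁])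
    obtain ⟨x₂, h₂, e₂⟩ := exists_norm_in hF ho hcard (inv_mem m₂) (by rw [inv_pow, f₂])
    refine ⟨1, ![x₀ • v₀, x₁ • v₁, x₂ • v₂], one_ne_zero, one_pow _, fun i => ?_, fun i j => ?_⟩
    · fin_cases i
      · exact r₀.smul h₀
      · exact r₁.smul h₁
      · exact r₂.smul h₂
    · have k₀ : x₀ ^ q * x₀ * D₀ = 1 := by rw [mul_comm (x₀ ^ q), e₀, inv_mul_cancel₀ d₀]
      have k₁ : x₁ ^ q * x₁ * D₁ = 1 := by rw [mul_comm (x₁ ^ q), e₁, inv_mul_cancel₀ d₁]
      have k₂ : x₂ ^ q * x₂ * D₂ = 1 := by rw [mul_comm (x₂ ^ q), e₂, inv_mul_cancel₀ d₂]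
      fin_cases i <;> fin_cases j <;>
        simp [herm_smul_left, herm_smul_right, o10, o20, o21, e01, e02, e12, ← hD₀, ← hD₁, ← hD₂, ← mul_assoc,
          e₀, e₁, e₂, d₀, d₁, d₂, k₀, k₁, k₂]
  · have hFQ : Nat.card F₀ = q := Nat.pow_left_injective two_ne_zero (hcard.symm.trans hF)
    have hfix : ∀ {x : F}, x ∈ F₀ → x ^ q = x := fun hx => by
      rw [mem_subfield_iff, hFQ] at hx; exact hx
    have hoddQ : Odd (Nat.card F₀) := by rw [hFQ]; exact hqo
    set δ := D₀ * D₁ * D₂ with hδ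
    obtain ⟨x, hx, y, hy, hxy⟩ : ∃ x ∈ F₀, ∃ y ∈ F₀, D₀ * x ^ 2 + D₁ * y ^ 2 = δ := by
      obtain ⟨a, ha, b, hb, hab⟩ : ∃ a ∈ F₀, ∃ b ∈ F₀, D₀ * a ^ 2 + D₁ * b ^ 2 = δ := by
        classical
        have hf : (Polynomial.C (⟨D₀, m₀⟩ : F₀) * Polynomial.X ^ 2).degree = 2 :=
          Polynomial.degree_C_mul_X_pow 2 (fun h => d₀ (congrArg Subtype.val h))
        have hg : (Polynomial.C (⟨D₁, m₁⟩ : F₀) * Polynomial.X ^ 2 -
            Polynomial.C (⟨δ, mul_mem (mul_mem m₀ m₁) m₂⟩ : F₀)).degree = 2 := by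
          have h2 := Polynomial.degree_C_mul_X_pow 2 (a := (⟨D₁, m₁⟩ : F₀)) (fun h => d₁ (congrArg Subtype.val h))
          rw [Polynomial.degree_sub_eq_left_of_degree_lt, h2]
          · rfl
          · rw [h2]; exact lt_of_le_of_lt Polynomial.degree_C_le (by decide)
        obtain ⟨a, b, hab⟩ := FiniteField.exists_root_sum_quadratic hf hg
          (by rw [← Nat.card_eq_fintype_card]; exact Nat.odd_iff.mp hoddQ)
        refine ⟨a, a.2, b, b.2, ?_⟩
        have h := congrArg (fun z : F₀ => (z : F)) hab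
        simp at h
        linear_combination h
      exact ⟨a, ha, b, hb, hab⟩
    obtain ⟨s, hs, t, ht, hst⟩ := exists_sum_sq hoddQ (mul_mem m₀ m₁)
    set w₀ := x • v₀ + y • v₁ with hw₀
    set w₁ := (D₀ * D₁)⁻¹ • ((-(D₁ * y)) • v₀ + (D₀ * x) • v₁) with hw₁
    have rw₁ : Rat' F₀ P w₁ := Rat'.smul (inv_mem (mul_mem m₀ m₁))
      (Rat'.add (r₀.smul (neg_mem (mul_mem m₁ hy))) (r₁.smul (mul_mem m₀ hx)))
    refine ⟨δ, ![w₀, s • w₁ + t • v₂, (-t) • w₁ + s • v₂], mul_ne_zero (mul_ne_zero d₀ d₁) d₂,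
      hfix (mul_mem (mul_mem m₀ m₁) m₂), fun i => ?_, fun i j => ?_⟩
    · fin_cases i
      · exact (r₀.smul hx).add (r₁.smul hy)
      · exact (rw₁.smul hs).add (r₂.smul ht)
      · exact (rw₁.smul (neg_mem ht)).add (r₂.smul hs)
    have hx' := hfix hx
    have hy' := hfix hy
    have hs' := hfix hs
    have ht' := hfix ht
    have hz : ((D₀ * D₁)⁻¹) ^ q = (D₀ * D₁)⁻¹ := hfix (inv_mem (mul_mem m₀ m₁))
    have a00 : hermForm 3 F q w₀ w₀ = δ := by
      simp [hw₀, herm_add_left, herm_add_right _ _ _ hF, herm_smul_left, herm_smul_right, o10, e01, ← hD₀, ← hD₁, hx', hy']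
      linear_combination hxy
    have hn1 : (-(D₁ * y)) ^ q = -(D₁ * y) := hfix (neg_mem (mul_mem m₁ hy))
    have hn2 : (D₀ * x) ^ q = D₀ * x := hfix (mul_mem m₀ hx)
    have a01 : hermForm 3 F q w₀ w₁ = 0 := by
      simp only [hw₀, hw₁, herm_add_left, herm_add_right _ _ _ hF, herm_smul_left, herm_smul_right, o10, e01,
        ← hD₀, ← hD₁, hn1, hn2, mul_zero, add_zero, zero_add]
      ring
    have a11 : hermForm 3 F q w₁ w₁ = D₂ := by
      simp only [hw₁, herm_add_left, herm_add_right _ _ _ hF, herm_smul_left, herm_smul_right, o10, e01,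
        ← hD₀, ← hD₁, hn1, hn2, hz, mul_zero, add_zero, zero_add]
      have h1 : (D₀ * D₁)⁻¹ * (D₀ * D₁) = 1 := inv_mul_cancel₀ (mul_ne_zero d₀ d₁)
      linear_combination ((D₀ * D₁)⁻¹ * (D₀ * D₁)⁻¹ * (D₀ * D₁)) * hxy + D₂ * ((D₀ * D₁)⁻¹ * (D₀ * D₁) + 1) * h1
    have a02 : hermForm 3 F q w₀ v₂ = 0 := by
      simp [hw₀, herm_add_left, herm_smul_left, e02, e12]
    have a12 : hermForm 3 F q w₁ v₂ = 0 := by
      simp [hw₁, herm_add_left, herm_smul_left, herm_neg_left, e02, e12]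
    have hnt : (-t) ^ q = -t := hfix (neg_mem ht)
    fin_cases i <;> fin_cases j <;>
      simp [herm_add_left, herm_add_right _ _ _ hF, herm_smul_left, herm_smul_right, herm_neg_left, herm_neg_right _ _ hF, a00, a01, a02, a11, a12,
        herm_eq_zero_symm hF a01, herm_eq_zero_symm hF a02, herm_eq_zero_symm hF a12, ← hD₂, hs', ht', hnt] <;>
      (try linear_combination D₂ * hst) <;> (try ring)

end

end Cfsg.Agent.Lib.SU3Max96
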