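import Cfsg.Agent.Lib.SU3Max96.Basic

set_option autoImplicit false
set_option linter.style.haveILetI false
set_option linter.unusedSectionVars false

/-!
Transvections and the geometric classes of `SU(3, q)`.
-/

namespace Cfsg.Agent.Lib.SU3Max96

open Cfsg.Geo Cfsg.Agent.Lib.PrimeDim.Basic Cfsg.Agent.Lib.PrimeDim.Fields Cfsg.Agent.Lib.PrimeDim.Unitary
open Cfsg.Agent.Lib.PrimeDim.UnitaryBase Cfsg.Agent.Lib.PrimeDim.Symplectic Cfsg.Agent.Lib.Unitary
open scoped Matrix MatrixGroups commutatorElement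

variable {F : Type*} [Field F] [Fintype F] {q : ℕ}

lemma mem_subfield_iff (F₀ : Subfield F) {x : F} : x ∈ F₀ ↔ x ^ Nat.card F₀ = x := by
  obtain ⟨p, f, _, _, hf, hF⟩ := exists_char_card (F := F)
  obtain ⟨e, he, hdvd, hcard, hfix⟩ := card_subfield F₀ hF
  rw [hcard]
  conv_lhs => rw [hfix]
  exact mem_fixedField

/-- `g` is the transvection with centre `v` and parameter `c`. -/
def TvElt (q : ℕ) (v : Fin 3 → F) (c : F) (g : GL (Fin 3) F) : Prop :=
  ∀ x, g.val *ᵥ x = x + (c * hermForm 3 F q x v) • v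

lemma exists_pairing (hF : Fintype.card F = q ^ 2) {v : Fin 3 → F} (hv : v ≠ 0) :
    ∃ x, hermForm 3 F q x v ≠ 0 := exists_pairing_ne hF hv

lemma TvElt.eq_one_iff (hF : Fintype.card F = q ^ 2) {v : Fin 3 → F} (hv0 : v ≠ 0) {c : F} {g : GL (Fin 3) F}
    (hg : TvElt q v c g) : g = 1 ↔ c = 0 := by
  constructor
  · rintro rfl
    obtain ⟨x, hx⟩ := exists_pairing hF hv0
    have h := hg x
    rw [Units.val_one, Matrix.one_mulVec, left_eq_add] at h
    exact ((smul_eq_zero.mp h).resolve_right hv0 |> mul_eq_zero.mp).resolve_right hx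
  · rintro rfl
    refine Units.ext (Matrix.ext_of_mulVec_single fun i => ?_)
    rw [hg, zero_mul, zero_smul, add_zero, Units.val_one, Matrix.one_mulVec]

lemma TvElt.val_eq {v : Fin 3 → F} {c : F} {g : GL (Fin 3) F} (hg : TvElt q v c g) :
    g.val = 1 + c • Matrix.vecMulVec v (fun j => v j ^ q) := by
  refine Matrix.ext_of_mulVec_single fun i => ?_
  rw [hg, Matrix.add_mulVec, Matrix.one_mulVec, Matrix.smul_mulVec, Matrix.vecMulVec_mulVec, mul_smul]
  congr 2
  rw [op_smul_eq_smul]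
  congr 1
  simp only [hermForm, dotProduct]
  exact Finset.sum_congr rfl fun j _ => by ring

lemma TvElt.det (hF : Fintype.card F = q ^ 2) {v : Fin 3 → F} (hv : hermForm 3 F q v v = 0) {c : F}
    {g : GL (Fin 3) F} (hg : TvElt q v c g) : g.val.det = 1 := by
  rw [hg.val_eq]
  have h := Matrix.det_one_add_replicateCol_mul_replicateRow (ι := Unit) (c • v) (fun j => v j ^ q)
  rw [← Matrix.vecMulVec_eq Unit, Matrix.smul_vecMulVec] at h
  rw [h, dotProduct_smul, show (fun j => v j ^ q) ⬝ᵥ v = hermForm 3 F q v v by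
    simp only [hermForm, dotProduct, mul_comm], hv, smul_zero, add_zero]

/-- A transvection does not normalise a cubic field. -/
lemma tv_not_subalgebra (hF : Fintype.card F = q ^ 2) {v : Fin 3 → F} (hv0 : v ≠ 0) {c : F} (hc : c ≠ 0)
    {g : GL (Fin 3) F} (hg : TvElt q v c g) {K : Subalgebra F (Matrix (Fin 3) (Fin 3) F)}
    (hK : IsFieldSubalgebra 3 K) : g ∉ subalgebraNormalizer K := by
  intro hle
  have hfix : ∀ w, hermForm 3 F q w v = 0 → g.val *ᵥ w = w := fun w hw => by
    rw [hg, hw, mul_zero, zero_smul, add_zero]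
  have hcomm : ∀ k ∈ K, g.val * k = k * g.val := by
    intro k hk
    obtain ⟨U, hU, hUmem⟩ := pair_kernel (q := q) v k
    have hUne : U ≠ ⊥ := by
      intro h
      rw [h, finrank_bot] at hU
      omega
    obtain ⟨w, hw, hw0⟩ := Submodule.exists_mem_ne_zero_of_ne_bot hUne
    set z := g.val * k * (g⁻¹).val - k with hz
    have hzK : z ∈ K := Subalgebra.sub_mem _ ((hle k).mp hk) hk
    have h1 : (g⁻¹).val *ᵥ w = w := by
      conv_lhs => rw [← hfix w (hUmem w hw).1]
      rw [inv_mulVec_cancel]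
    have hzw : z *ᵥ w = 0 := by
      rw [hz, Matrix.sub_mulVec, ← Matrix.mulVec_mulVec, ← Matrix.mulVec_mulVec, h1, hfix _ (hUmem w hw).2, sub_self]
    have hz0 : z = 0 := by
      by_contra hne
      obtain ⟨y, -, hy⟩ := hK.inv z hzK hne
      exact hw0 (by rw [← Matrix.one_mulVec w, ← mul_eq_one_comm.mp hy, ← Matrix.mulVec_mulVec, hzw, Matrix.mulVec_zero])
    rw [hz, sub_eq_zero] at hz0
    conv_rhs => rw [← hz0, mul_assoc _ _ g.val, Units.inv_mul, mul_one]
  obtain ⟨U, hU, hUmem⟩ := pair_kernel (q := q) v (1 : Matrix (Fin 3) (Fin 3) F)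
  have hUne : U ≠ ⊥ := by
    intro h
    rw [h, finrank_bot] at hU
    omega
  obtain ⟨w, hw, hw0⟩ := Submodule.exists_mem_ne_zero_of_ne_bot hUne
  have h1 := scalar_of_field_eigen hK hcomm hw0 (l := (1 : F)) (by rw [hfix w (hUmem w hw).1, one_smul])
  rw [one_smul] at h1
  exact hc ((hg.eq_one_iff hF hv0).mp (Units.ext h1))

/-- Transvections in a monomial group have a unique parameter. -/
lemma tv_not_frame (hF : Fintype.card F = q ^ 2) {v : Fin 3 → F} (hv0 : v ≠ 0) (hv : hermForm 3 F q v v = 0)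
    {c c' : F} (hc : c ≠ 0) (hc' : c' ≠ 0) (hne : c ≠ c') {g g' : GL (Fin 3) F} (hg : TvElt q v c g)
    (hg' : TvElt q v c' g') {D : Fin 3 → Submodule F (Fin 3 → F)}
    (hD : IsNondegenerateMDecomposition (hermForm 3 F q) 1 D) (h : g ∈ decompositionStabilizer D) :
    g' ∉ decompositionStabilizer D := by
  classical
  intro h'
  obtain ⟨vs, hvs, hvs0, hli, hline, hspan⟩ := exists_frame_basis hD.decomp
  obtain ⟨a, ha⟩ := (Submodule.mem_span_range_iff_exists_fun F).mp
    (show v ∈ Submodule.span F (Set.range vs) from hspan ▸ Submodule.mem_top)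
  have horth : ∀ i j, i ≠ j → hermForm 3 F q (vs i) (vs j) = 0 := fun i j hij =>
    hD.orthogonal i j hij _ (hvs i) _ (hvs j)
  have hd0 : ∀ i, hermForm 3 F q (vs i) (vs i) ≠ 0 := by
    intro i h0
    obtain ⟨⟨x, hx, hne'⟩, -⟩ := hD.nondegenerate i _ (hvs i) (hvs0 i)
    obtain ⟨e, rfl⟩ := hline i x hx
    rw [herm_smul_left, h0, mul_zero] at hne'
    exact hne' rfl
  obtain ⟨i, hai⟩ : ∃ i, a i ≠ 0 := by
    by_contra! h0
    exact hv0 (by rw [← ha]; simp [h0])
  have hvi : hermForm 3 F q (vs i) v = a i ^ q * hermForm 3 F q (vs i) (vs i) := by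
    rw [← ha, herm_sum_right _ hF, Finset.sum_eq_single i]
    · rw [herm_smul_right]
    · intro j _ hj
      rw [herm_smul_right, horth i j hj.symm, mul_zero]
    · simp
  obtain ⟨k, hki, hak⟩ : ∃ k, k ≠ i ∧ a k ≠ 0 := by
    by_contra! h0
    rw [← ha, Finset.sum_eq_single i (fun j _ hj => by rw [h0 j hj, zero_smul]) (by simp), herm_smul_left,
      herm_smul_right] at hv
    simp only [mul_eq_zero, pow_eq_zero_iff (q_ne_zero hF), hai, false_or] at hv
    exact hd0 i hv
  have key : ∀ {e : F} {t : GL (Fin 3) F}, e ≠ 0 → TvElt q v e t → t ∈ decompositionStabilizer D →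
      1 + e * hermForm 3 F q (vs i) v * a i = 0 := by
    intro e t he ht htD
    obtain ⟨π, hπ⟩ := htD
    set μ := e * hermForm 3 F q (vs i) v with hμ
    obtain ⟨b, hb⟩ := hline (π i) (vs i + μ • v) (by
      rw [← hπ i, hμ, ← ht]
      exact ⟨vs i, hvs i, by simp⟩)
    have hsum : ∑ j, ((if j = i then 1 else 0) + μ * a j - if j = π i then b else 0) • vs j = 0 := by
      simp only [sub_smul, add_smul, Finset.sum_sub_distrib, Finset.sum_add_distrib, ite_smul, one_smul, zero_smul,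
        Finset.sum_ite_eq', Finset.mem_univ, if_true, mul_smul, ← Finset.smul_sum, ha, hb, sub_self]
    have hall := Fintype.linearIndependent_iff.mp hli _ hsum
    have hμ0 : μ ≠ 0 := mul_ne_zero he (by rw [hvi]; exact mul_ne_zero (pow_ne_zero _ hai) (hd0 i))
    by_cases hπi : π i = i
    · exfalso
      have := hall k
      rw [if_neg hki, hπi, if_neg hki, zero_add, sub_zero] at this
      exact mul_ne_zero hμ0 hak this
    · have := hall i
      rwa [if_pos rfl, if_neg (Ne.symm hπi), sub_zero] at this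
  have h1 := key hc hg h
  have h2 := key hc' hg' h'
  have h3 : hermForm 3 F q (vs i) v * a i ≠ 0 := by
    rw [hvi]; exact mul_ne_zero (mul_ne_zero (pow_ne_zero _ hai) (hd0 i)) hai
  exact hne (mul_right_cancel₀ h3 (by linear_combination h1 - h2))

/-- The entries of a transvection in a subfield group. -/
lemma tv_entries (hF : Fintype.card F = q ^ 2) {v : Fin 3 → F} (hv : hermForm 3 F q v v = 0) {c : F}
    {g : GL (Fin 3) F} (hg : TvElt q v c g) {F₀ : Subfield F} {P : GL (Fin 3) F}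
    (h : g ∈ subfieldSubgroup F₀ P) (i j : Fin 3) :
    c * ((P⁻¹).val *ᵥ v) i * hermForm 3 F q (P.val *ᵥ Pi.single j 1) v ∈ F₀ := by
  have h1 := unip_entries Nat.prime_three h (hg.det hF hv) hg.val_eq (by
    rw [Matrix.trace_smul, Matrix.trace_vecMulVec]
    exact (congrArg (c • ·) hv).trans (smul_zero c)) i j
  have h2 : ((P⁻¹).val * (c • Matrix.vecMulVec v (fun j => v j ^ q)) * P.val) i j
      = c * ((P⁻¹).val *ᵥ v) i * hermForm 3 F q (P.val *ᵥ Pi.single j 1) v := by
    rw [Matrix.mul_smul, Matrix.smul_mul, Matrix.mul_vecMulVec, Matrix.vecMulVec_mul, Matrix.smul_apply,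
      Matrix.vecMulVec_apply, smul_eq_mul, mul_assoc]
    congr 2
    simp only [Matrix.vecMul, dotProduct, hermForm, Matrix.mulVec_single_one, Matrix.col_apply, mul_comm]
  rwa [h2] at h1

lemma tv_indices (hF : Fintype.card F = q ^ 2) {v : Fin 3 → F} (hv0 : v ≠ 0) (P : GL (Fin 3) F) :
    ∃ i j, ((P⁻¹).val *ᵥ v) i ≠ 0 ∧ hermForm 3 F q (P.val *ᵥ Pi.single j 1) v ≠ 0 := by
  obtain ⟨i, hi⟩ : ∃ i, ((P⁻¹).val *ᵥ v) i ≠ 0 := by
    by_contra! h
    exact hv0 (by rw [← mulVec_inv_cancel P v, show (P⁻¹).val *ᵥ v = 0 from funext h, Matrix.mulVec_zero])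
  refine ⟨i, ?_⟩
  by_contra! h
  obtain ⟨x, hx⟩ := exists_pairing hF hv0
  apply hx
  rw [← mulVec_inv_cancel P x, pi_eq_sum_univ' ((P⁻¹).val *ᵥ x), Matrix.mulVec_sum, herm_sum_left]
  exact Finset.sum_eq_zero fun j _ => by rw [Matrix.mulVec_smul, herm_smul_left, h j hi, mul_zero]

/-- Parameters of two transvections with the same centre in a subfield group have ratio in the subfield. -/
lemma tv_ratio (hF : Fintype.card F = q ^ 2) {v : Fin 3 → F} (hv0 : v ≠ 0) (hv : hermForm 3 F q v v = 0)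
    {c c' : F} {g g' : GL (Fin 3) F} (hg : TvElt q v c g) (hg' : TvElt q v c' g') {F₀ : Subfield F}
    {P : GL (Fin 3) F} (h : g ∈ subfieldSubgroup F₀ P) (h' : g' ∈ subfieldSubgroup F₀ P) : c / c' ∈ F₀ := by
  obtain ⟨i, j, hi, hj⟩ := tv_indices hF hv0 P
  have h1 := div_mem (tv_entries hF hv hg h i j) (tv_entries hF hv hg' h' i j)
  rwa [mul_assoc, mul_assoc, mul_div_mul_right _ _ (mul_ne_zero hi hj)] at h1

/-- A subfield group of index two carrying the form contains no transvection. -/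
lemma tv_not_subfield_two (hF : Fintype.card F = q ^ 2) (hq : Odd q) {v : Fin 3 → F} (hv0 : v ≠ 0)
    (hv : hermForm 3 F q v v = 0) {c : F} (hc0 : c ≠ 0) (hc : c + c ^ q = 0) {g : GL (Fin 3) F}
    (hg : TvElt q v c g) {F₀ : Subfield F} (hcard : Fintype.card F = Nat.card F₀ ^ 2) {P : GL (Fin 3) F}
    (hP : IsFormRationalStructure (hermForm 3 F q) F₀ 1 P) : g ∉ subfieldSubgroup F₀ P := by
  intro h
  have hFQ : Nat.card F₀ = q := Nat.pow_left_injective two_ne_zero (hcard.symm.trans hF)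
  obtain ⟨i, j, hi, hj⟩ := tv_indices hF hv0 P
  set u := (P⁻¹).val *ᵥ v with hu
  have hrat : ∀ k, u k / u i ∈ F₀ := fun k => by
    have h1 := div_mem (tv_entries hF hv hg h k j) (tv_entries hF hv hg h i j)
    rwa [mul_div_mul_right _ _ hj, mul_div_mul_left _ _ hc0] at h1
  set r := hermForm 3 F q (P.val *ᵥ Pi.single j 1) (P.val *ᵥ fun k => u k / u i) with hr
  have hrF : r ∈ F₀ := by
    have := hP (Pi.single j 1) (fun k => u k / u i) (fun k => by
      by_cases hk : k = j
      · subst hk; rw [Pi.single_eq_same]; exact one_mem _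
      · rw [Pi.single_eq_of_ne hk]; exact zero_mem _) hrat
    rwa [one_mul] at this
  have hwj : hermForm 3 F q (P.val *ᵥ Pi.single j 1) v = u i ^ q * r := by
    rw [hr, ← herm_smul_right, ← Matrix.mulVec_smul]
    congr 1
    rw [show (u i • fun k => u k / u i) = u from funext fun k => by
      simp only [Pi.smul_apply, smul_eq_mul]; field_simp, hu, mulVec_inv_cancel]
  have hr0 : r ≠ 0 := fun h0 => hj (by rw [hwj, h0, mul_zero])
  have h1 := tv_entries hF hv hg h i j
  rw [hwj, ← hu] at h1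
  have h2 : c * (u i * u i ^ q) ∈ F₀ := by
    have := div_mem h1 hrF
    rwa [← mul_assoc, mul_div_assoc, div_self hr0, mul_one, mul_assoc] at this
  rw [mem_subfield_iff, hFQ, mul_pow, mul_pow, pow_q_q hF, eq_neg_of_add_eq_zero_right hc] at h2
  have h3 : (2 : F) * (c * (u i * u i ^ q)) = 0 := by linear_combination -h2
  have h2ne : (2 : F) ≠ 0 := by
    obtain ⟨p, k, hp, hchar, hk, hqk⟩ := q_eq_primePow hF
    intro h0
    have : p ∣ 2 := (CharP.cast_eq_zero_iff F p 2).mp (by exact_mod_cast h0)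
    have hp2 : p = 2 := (Nat.prime_dvd_prime_iff_eq hp Nat.prime_two).mp this
    subst hp2
    exact (Nat.not_even_iff_odd.mpr hq) (hqk ▸ (Nat.even_pow.mpr ⟨even_two, by omega⟩))
  exact mul_ne_zero h2ne (mul_ne_zero hc0 (mul_ne_zero hi (pow_ne_zero _ hi))) h3

end Cfsg.Agent.Lib.SU3Max96
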